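import Cfsg.Agent.Lib.Phan.Twist
import Cfsg.Agent.Lib.Classical.Herm.SU2
import Cfsg.Agent.Lib.AutPSL.MainTwo

/-!
Automorphisms of two-dimensional special unitary groups, and those preserving the diagonal torus.
-/

set_option autoImplicit false
set_option maxHeartbeats 800000
set_option synthInstance.maxHeartbeats 100000

namespace CfsgLib.Phan

open Module CfsgLib.Classical.Herm HermSpace
open scoped Matrix

/-- Lifting of the classification of automorphisms to the special linear group. -/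
theorem aut_SL2 {k : Type*} [Field k] [Fintype k]
    (α : Matrix.SpecialLinearGroup (Fin 2) k ≃* Matrix.SpecialLinearGroup (Fin 2) k) :
    ∃ (g : GL (Fin 2) k) (σ : k ≃+* k), ∀ s, α s = AutPSL.conjSL g (AutPSL.fieldSL σ s) := by
  obtain ⟨g, σ, h⟩ := AutPSL.aut_eq_two (AutPSL.descend α)
  refine ⟨g, σ, fun s => ?_⟩
  set β : MulAut (AutPSL.SLg 2 k) := AutPSL.conjSL g * AutPSL.fieldSL σ
  set γ : MulAut (AutPSL.SLg 2 k) := β⁻¹ * α
  have hmem : ∀ s, s⁻¹ * γ s ∈ Subgroup.center (AutPSL.SLg 2 k) := by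
    intro s
    rw [← QuotientGroup.eq]
    have h1 : AutPSL.descend γ (QuotientGroup.mk s) = QuotientGroup.mk s := by
      have e : AutPSL.descend γ = 1 := by
        show AutPSL.descend (β⁻¹ * α) = 1
        rw [map_mul, map_inv, show AutPSL.descend (α : MulAut (AutPSL.SLg 2 k)) =
          AutPSL.diagAut g * AutPSL.fieldAut σ from h,
          show AutPSL.descend β = AutPSL.diagAut g * AutPSL.fieldAut σ from map_mul _ _ _,
          inv_mul_cancel]
      rw [e]; rfl
    rw [AutPSL.descend_mk] at h1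
    exact h1.symm
  let χ : AutPSL.SLg 2 k →* AutPSL.SLg 2 k :=
    { toFun := fun s => s⁻¹ * γ s
      map_one' := by simp
      map_mul' := fun s t => by
        have hc := Subgroup.mem_center_iff.1 (hmem s) t⁻¹
        calc (s * t)⁻¹ * γ (s * t) = t⁻¹ * (s⁻¹ * γ s) * γ t := by rw [map_mul]; group
          _ = (s⁻¹ * γ s) * t⁻¹ * γ t := by rw [hc]
          _ = _ := by group }
  have hχ : χ = 1 := by
    obtain ⟨p, hp⟩ := CharP.exists k
    haveI : Fact p.Prime := ⟨CharP.char_is_prime k p⟩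
    refine Linear.SL_monoidHom_ext (fun i j hij t => ?_)
    show χ _ = 1
    set x := χ (Matrix.SpecialLinearGroup.transvection hij t) with hx
    obtain ⟨r, hr, hrx⟩ := Matrix.SpecialLinearGroup.mem_center_iff.1 (hmem (Matrix.SpecialLinearGroup.transvection hij t))
    rw [Fintype.card_fin] at hr
    have h2 : x ^ 2 = 1 := Subtype.ext (by
      rw [Matrix.SpecialLinearGroup.coe_pow, show x.1 = Matrix.scalar (Fin 2) r from hrx.symm,
        ← map_pow, hr, map_one]
      rfl)
    have h3 : x ^ p = 1 := by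
      rw [hx, ← map_pow, AutPSL.transvection_pow_eq_one p hij t, map_one]
    by_cases hp2 : p = 2
    · subst hp2
      apply Subtype.ext
      rw [show x.1 = Matrix.scalar (Fin 2) r from hrx.symm]
      have e : (r - 1) ^ 2 = 0 := by
        have h20 : (2 : k) = 0 := CharP.cast_eq_zero k 2
        linear_combination hr - (r - 1) * h20
      rw [sub_eq_zero.1 (eq_zero_of_pow_eq_zero e), map_one]
      rfl
    · have hd := Nat.dvd_gcd (orderOf_dvd_of_pow_eq_one h2) (orderOf_dvd_of_pow_eq_one h3)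
      rw [Nat.coprime_primes Nat.prime_two (Fact.out : p.Prime) |>.2 (Ne.symm hp2)] at hd
      exact orderOf_eq_one_iff.1 (Nat.dvd_one.1 hd)
  have h4 : γ s = s := by
    have := DFunLike.congr_fun hχ s
    exact (inv_mul_eq_one.1 this).symm
  have h5 : β (γ s) = α s := by
    show β (β.symm (α s)) = α s
    exact β.apply_symm_apply _
  rw [← h5, h4]
  rfl

/-- Field automorphisms of a subfield extend. -/
theorem exists_extend {F : Type*} [Field F] [Finite F] (k : Subfield F) (σ : k ≃+* k) :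
    ∃ θ : F ≃+* F, ∀ x : k, θ x = σ x := by
  obtain ⟨p, hp⟩ := CharP.exists F
  haveI : Fact p.Prime := ⟨CharP.char_is_prime F p⟩
  haveI : Fintype k := Fintype.ofFinite k
  haveI : CharP k p := (k.subtype.charP k.subtype.injective p)
  letI : Algebra (ZMod p) k := ZMod.algebra k p
  let σ' : k ≃ₐ[ZMod p] k := AlgEquiv.ofRingEquiv (f := σ)
    (fun x => by rw [← ZMod.natCast_zmod_val x, map_natCast, map_natCast])
  obtain ⟨⟨j, _⟩, hj⟩ := (FiniteField.bijective_frobeniusAlgEquivOfAlgebraic_pow (ZMod p) k).2 σ'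
  refine ⟨iterateFrobeniusEquiv F p j, fun x => ?_⟩
  have h1 : σ' x = x ^ (p ^ j) := by
    rw [← hj]
    show (FiniteField.frobeniusAlgEquivOfAlgebraic (ZMod p) k ^ j) x = _
    rw [AlgEquiv.coe_pow, FiniteField.coe_frobeniusAlgEquivOfAlgebraic_iterate, ZMod.card]
  rw [show σ x = x ^ (p ^ j) from h1]
  show iterateFrobenius F p j (x : F) = ((x ^ (p ^ j) : k) : F)
  rw [iterateFrobenius_def]
  rfl

variable {F : Type*} [Field F] [Fintype F] {q : ℕ} (hF : Fintype.card F = q ^ 2)

/-- Coordinates in which the two-dimensional special unitary group is the special linear group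
over the fixed field. -/
theorem exists_coord : ∃ (P : GL (Fin 2) F)
    (e : Matrix.SpecialLinearGroup (Fin 2) (fixedField hF) ≃* ↥(K hF 2)),
    ∀ B, mat hF (e B) = (P : Matrix (Fin 2) (Fin 2) F) * B.1.map (fixedField hF).subtype *
      ((P⁻¹ : GL (Fin 2) F) : Matrix (Fin 2) (Fin 2) F) := by
  obtain ⟨δ, hδ0, hδ, L, hL⟩ := exists_skewPlane_equiv hF
  set S := skewPlane hF δ hδ0 hδ with hS
  have hS' : ∀ u v, S.h u v = δ * (u 0 * qPow hF (v 1) - u 1 * qPow hF (v 0)) := fun u v => rfl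
  let φ : Matrix.SpecialLinearGroup (Fin 2) (fixedField hF) →* Matrix.SpecialLinearGroup (Fin 2) F :=
    Matrix.SpecialLinearGroup.map (fixedField hF).subtype
  have hiso : ∀ B x y, S.h (Matrix.SpecialLinearGroup.toLin' (φ B) x)
      (Matrix.SpecialLinearGroup.toLin' (φ B) y) = S.h x y := by
    intro B x y
    have hval : ∀ (x : Fin 2 → F) (i : Fin 2), Matrix.SpecialLinearGroup.toLin' (φ B) x i
        = (B i 0 : F) * x 0 + (B i 1 : F) * x 1 := by
      intro x i
      rw [Matrix.SpecialLinearGroup.toLin'_apply, Matrix.toLin'_apply]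
      simp [φ, Matrix.mulVec, dotProduct, Fin.sum_univ_two]
    have hdetB : (B 0 0 : F) * (B 1 1 : F) - (B 0 1 : F) * (B 1 0 : F) = 1 := by
      have h := B.det_coe
      rw [Matrix.det_fin_two] at h
      exact congrArg (fun z : fixedField hF => (z : F)) h
    rw [hS', hS', hval, hval, hval, hval]
    have f : ∀ i j, qPow hF (B i j : F) = (B i j : F) := fun i j => mem_fixedField.1 (B i j).2
    simp only [map_add, map_mul, f]
    linear_combination δ * (x 0 * qPow hF (y 1) - x 1 * qPow hF (y 0)) * hdetB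
  let g : Matrix.SpecialLinearGroup (Fin 2) (fixedField hF) → ↥(K hF 2) := fun B =>
    ⟨⟨L.trans ((Matrix.SpecialLinearGroup.toLin' (φ B)).trans L.symm), fun x y => by
        show Cfsg.hermForm 2 F q (L.symm _) (L.symm _) = _
        rw [← hL, L.apply_symm_apply, L.apply_symm_apply]
        exact (hiso B _ _).trans (hL x y)⟩, by
      apply Units.ext
      show ((LinearEquiv.det (L.trans ((Matrix.SpecialLinearGroup.toLin' (φ B)).trans L.symm))) : F) = 1
      have h := LinearEquiv.det_conj (Matrix.SpecialLinearGroup.toLin' (φ B)) L.symm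
      rw [LinearEquiv.symm_symm] at h
      erw [h]
      rw [LinearEquiv.coe_det,
        show ((Matrix.SpecialLinearGroup.toLin' (φ B) : (Fin 2 → F) ≃ₗ[F] Fin 2 → F) :
            (Fin 2 → F) →ₗ[F] Fin 2 → F) = Matrix.toLin' (φ B : Matrix (Fin 2) (Fin 2) F) from rfl,
        LinearMap.det_toLin', Matrix.SpecialLinearGroup.det_coe]⟩
  let gh : Matrix.SpecialLinearGroup (Fin 2) (fixedField hF) →* ↥(K hF 2) := MonoidHom.mk' g
    fun B B' => K_ext hF fun x => by
      show L.symm (Matrix.SpecialLinearGroup.toLin' (φ (B * B')) (L x)) =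
        L.symm (Matrix.SpecialLinearGroup.toLin' (φ B)
          (L (L.symm (Matrix.SpecialLinearGroup.toLin' (φ B') (L x)))))
      rw [L.apply_symm_apply, map_mul, map_mul]
      rfl
  have hinj : Function.Injective gh := by
    intro B B' h
    have hx : ∀ x, Matrix.SpecialLinearGroup.toLin' (φ B) x =
        Matrix.SpecialLinearGroup.toLin' (φ B') x := by
      intro x
      have := congrArg (fun k : ↥(K hF 2) => L (k • L.symm x)) h
      change L (L.symm (Matrix.SpecialLinearGroup.toLin' (φ B) (L (L.symm x)))) =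
        L (L.symm (Matrix.SpecialLinearGroup.toLin' (φ B') (L (L.symm x)))) at this
      simpa using this
    refine Matrix.SpecialLinearGroup.ext _ _ fun i j => Subtype.ext ?_
    have h3 := congrFun (hx (Pi.single j 1)) i
    rw [Matrix.SpecialLinearGroup.toLin'_apply, Matrix.SpecialLinearGroup.toLin'_apply,
      Matrix.toLin'_apply, Matrix.toLin'_apply, Matrix.mulVec_single_one,
      Matrix.mulVec_single_one] at h3
    exact h3
  obtain ⟨e0⟩ := su_two_equiv hF
  have hbij : Function.Bijective gh := hinj.bijective_of_nat_card_le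
    (le_of_eq (Nat.card_congr ((suEquiv hF 2).symm.trans e0).toEquiv))
  have d1 : LinearMap.toMatrix' (L.symm : (Fin 2 → F) →ₗ[F] Fin 2 → F) *
      LinearMap.toMatrix' (L : (Fin 2 → F) →ₗ[F] Fin 2 → F) = 1 := by
    rw [← LinearMap.toMatrix'_comp, ← LinearMap.toMatrix'_id]
    congr 1; ext x; simp
  have d2 : LinearMap.toMatrix' (L : (Fin 2 → F) →ₗ[F] Fin 2 → F) *
      LinearMap.toMatrix' (L.symm : (Fin 2 → F) →ₗ[F] Fin 2 → F) = 1 := by
    rw [← LinearMap.toMatrix'_comp, ← LinearMap.toMatrix'_id]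
    congr 1; ext x; simp
  refine ⟨⟨_, _, d1, d2⟩, MulEquiv.ofBijective gh hbij, fun B => ?_⟩
  show LinearMap.toMatrix' ((gh B).1.1 : (Fin 2 → F) →ₗ[F] Fin 2 → F) = _
  rw [show ((gh B).1.1 : (Fin 2 → F) →ₗ[F] Fin 2 → F) =
    (L.symm : (Fin 2 → F) →ₗ[F] Fin 2 → F) ∘ₗ
      Matrix.toLin' (φ B : Matrix (Fin 2) (Fin 2) F) ∘ₗ (L : (Fin 2 → F) →ₗ[F] Fin 2 → F) from
    LinearMap.ext fun x => rfl, LinearMap.toMatrix'_comp, LinearMap.toMatrix'_comp,
    LinearMap.toMatrix'_toLin', ← Matrix.mul_assoc]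
  rfl

/-- The automorphisms of the two-dimensional special unitary group. -/
theorem aut_K2 (α : ↥(K hF 2) ≃* ↥(K hF 2)) : ∃ (θ : F ≃+* F) (M : GL (Fin 2) F), ∀ x,
    mat hF (α x) = (M : Matrix (Fin 2) (Fin 2) F) * (mat hF x).map θ *
      ((M⁻¹ : GL (Fin 2) F) : Matrix (Fin 2) (Fin 2) F) := by
  obtain ⟨P, e, he⟩ := exists_coord hF
  letI : Fintype ↥(fixedField hF) := Fintype.ofFinite _
  obtain ⟨g, σ, hg⟩ := aut_SL2 (e.trans (α.trans e.symm))
  obtain ⟨θ, hθ⟩ := exists_extend (fixedField hF) σ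
  let φ : Matrix (Fin 2) (Fin 2) (fixedField hF) →+* Matrix (Fin 2) (Fin 2) F :=
    (fixedField hF).subtype.mapMatrix
  let ψ : Matrix (Fin 2) (Fin 2) F →+* Matrix (Fin 2) (Fin 2) F := θ.toRingHom.mapMatrix
  refine ⟨θ, P * Units.map φ.toMonoidHom g * (Units.map ψ.toMonoidHom P)⁻¹, fun x => ?_⟩
  obtain ⟨B, rfl⟩ := e.surjective x
  have h1 : α (e B) = e (AutPSL.conjSL g (AutPSL.fieldSL σ B)) := by
    rw [← hg B]; exact (e.apply_symm_apply _).symm
  rw [h1, he, he]
  show (P : Matrix (Fin 2) (Fin 2) F) *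
      φ ((g : Matrix (Fin 2) (Fin 2) _) * B.1.map σ * ((g⁻¹ : GL (Fin 2) _) : Matrix (Fin 2) (Fin 2) _)) *
      _ = ((P : Matrix (Fin 2) (Fin 2) F) * φ (g : Matrix (Fin 2) (Fin 2) _) *
        ψ ((P⁻¹ : GL (Fin 2) F) : Matrix (Fin 2) (Fin 2) F)) *
      ψ ((P : Matrix (Fin 2) (Fin 2) F) * B.1.map (fixedField hF).subtype *
        ((P⁻¹ : GL (Fin 2) F) : Matrix (Fin 2) (Fin 2) F)) *
      (ψ (P : Matrix (Fin 2) (Fin 2) F) * (φ ((g⁻¹ : GL (Fin 2) _) : Matrix (Fin 2) (Fin 2) _) *
        ((P⁻¹ : GL (Fin 2) F) : Matrix (Fin 2) (Fin 2) F)))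
  have hB : φ (B.1.map σ) = ψ (B.1.map (fixedField hF).subtype) := by
    ext i j
    exact (hθ (B i j)).symm
  have e1 : ψ ((P⁻¹ : GL (Fin 2) F) : Matrix (Fin 2) (Fin 2) F) *
      ψ (P : Matrix (Fin 2) (Fin 2) F) = 1 := by rw [← map_mul, Units.inv_mul, map_one]
  simp only [map_mul]
  rw [hB]
  simp only [mul_assoc]
  rw [← mul_assoc (ψ _) (ψ (P : Matrix (Fin 2) (Fin 2) F)), e1, one_mul,
    ← mul_assoc (ψ _) (ψ (P : Matrix (Fin 2) (Fin 2) F)), e1, one_mul]

/-- Conjugating a diagonal matrix with distinct entries to a diagonal matrix. -/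
theorem monomial_of_conj {F : Type*} [Field F] {M N : Matrix (Fin 2) (Fin 2) F} (hM : M.det ≠ 0)
    {d : Fin 2 → F} (hd : d 0 ≠ d 1) (h : M * Matrix.diagonal d = N * M) (hN0 : N 0 1 = 0)
    (hN1 : N 1 0 = 0) : (M 0 1 = 0 ∧ M 1 0 = 0) ∨ (M 0 0 = 0 ∧ M 1 1 = 0) := by
  have e := fun i j => congrFun (congrFun h i) j
  simp only [Matrix.mul_diagonal] at e
  simp only [Matrix.mul_apply, Fin.sum_univ_two] at e
  have e00 := e 0 0
  have e01 := e 0 1
  have e10 := e 1 0
  have e11 := e 1 1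
  rw [hN0, zero_mul, add_zero] at e00 e01
  rw [hN1, zero_mul, zero_add] at e10 e11
  have hd' : d 0 - d 1 ≠ 0 := sub_ne_zero.2 hd
  have k0 : M 0 0 * M 0 1 = 0 := (mul_eq_zero.1 (show (d 0 - d 1) * (M 0 0 * M 0 1) = 0 by
    linear_combination M 0 1 * e00 - M 0 0 * e01)).resolve_left hd'
  have k1 : M 1 0 * M 1 1 = 0 := (mul_eq_zero.1 (show (d 0 - d 1) * (M 1 0 * M 1 1) = 0 by
    linear_combination M 1 1 * e10 - M 1 0 * e11)).resolve_left hd'
  rw [Matrix.det_fin_two] at hM
  rcases mul_eq_zero.1 k0 with h0 | h0 <;> rcases mul_eq_zero.1 k1 with h1 | h1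
  · exact absurd (by rw [h0, h1]; ring) hM
  · exact Or.inr ⟨h0, h1⟩
  · exact Or.inl ⟨h0, h1⟩
  · exact absurd (by rw [h0, h1]; ring) hM

theorem diag_of_fix {N : Matrix (Fin 2) (Fin 2) F} (h : N 0 1 = 0 ∧ N 1 0 = 0) :
    N = Matrix.diagonal fun i => N i i := by
  ext i j
  fin_cases i <;> fin_cases j <;> simp [h.1, h.2]

theorem E_eq_single {n : ℕ} (j : Fin n) : (E j : Fin n → F) = Pi.single j 1 := rfl

/-- Rows and columns of a two-dimensional special unitary matrix. -/
theorem mat_entries (x : ↥(K hF 2)) :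
    mat hF x 1 1 = qPow hF (mat hF x 0 0) ∧ mat hF x 1 0 = -qPow hF (mat hF x 0 1) ∧
      nm hF (mat hF x 0 0) + nm hF (mat hF x 1 0) = 1 := by
  set a := mat hF x 0 0 with ha
  set c := mat hF x 1 0 with hc
  set b := mat hF x 0 1 with hb
  set d := mat hF x 1 1 with hd
  have hcol : ∀ i j, hh hF (x • (E i : Fin 2 → F)) (x • E j) =
      mat hF x 0 i * qPow hF (mat hF x 0 j) + mat hF x 1 i * qPow hF (mat hF x 1 j) := by
    intro i j
    simp only [hh, stdHerm_h, Cfsg.hermForm, Fin.sum_univ_two, mat_apply, qPow_apply]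
  have h00 : a * qPow hF a + c * qPow hF c = 1 := by
    rw [← hcol, h_smul_K, hh_E, if_pos rfl]
  have h01 : a * qPow hF b + c * qPow hF d = 0 := by
    rw [← hcol, h_smul_K, hh_E, if_neg (by decide)]
  have h11 : b * qPow hF b + d * qPow hF d = 1 := by
    rw [← hcol, h_smul_K, hh_E, if_pos rfl]
  have hdet : a * d - b * c = 1 := by
    have := det_mat hF x
    rwa [Matrix.det_fin_two] at this
  have h10 : qPow hF a * b + qPow hF c * d = 0 := by
    have := congrArg (qPow hF) h01
    simpa only [map_add, map_mul, qPow_qPow, map_zero] using this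
  refine ⟨?_, ?_, h00⟩
  · linear_combination (qPow hF a) * hdet - d * h00 + c * h10
  · linear_combination -((qPow hF b) * hdet) - c * h11 + d * h01

/-- An automorphism preserving the diagonal torus is induced by a monomial semilinear map. -/
theorem aut_twist (α : ↥(K hF 2) ≃* ↥(K hF 2)) {x₀ : ↥(K hF 2)}
    (h0 : mat hF x₀ 0 1 = 0 ∧ mat hF x₀ 1 0 = 0) (hne : mat hF x₀ 0 0 ≠ mat hF x₀ 1 1)
    (hα : mat hF (α x₀) 0 1 = 0 ∧ mat hF (α x₀) 1 0 = 0) :
    ∃ (θ : F ≃+* F) (δ : Fin 2 → F) (hδ : ∀ i, nm hF (δ i) = 1), ∀ x,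
      α x = twist hF θ δ hδ x := by
  obtain ⟨θ, M, hM⟩ := aut_K2 hF α
  set Mm : Matrix (Fin 2) (Fin 2) F := (M : Matrix (Fin 2) (Fin 2) F) with hMm
  have hM' : ∀ x, mat hF (α x) * Mm = Mm * (mat hF x).map θ := fun x => by
    rw [hM, Matrix.mul_assoc, Units.inv_mul, Matrix.mul_one]
  have hdetM : Mm.det ≠ 0 := ((Matrix.isUnit_iff_isUnit_det _).1 M.isUnit).ne_zero
  have hmono := monomial_of_conj hdetM (N := mat hF (α x₀))
    (d := fun i => θ (mat hF x₀ i i)) (fun h => hne (θ.injective h)) (by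
      rw [hM' x₀]
      congr 1
      ext i j
      fin_cases i <;> fin_cases j <;> simp [h0.1, h0.2])
    hα.1 hα.2
  obtain ⟨s, hs⟩ := Datum.exists_s2 (hF := hF)
  have hs0 : mat hF s 0 0 = 0 ∧ mat hF s 1 0 = 1 := by
    rw [mat_apply, mat_apply, hs, E_eq_single]; simp
  obtain ⟨hs11, hs10, -⟩ := mat_entries hF s
  have hs11' : mat hF s 1 1 = 0 := by rw [hs11, hs0.1, map_zero]
  have hs01 : mat hF s 0 1 = -1 := by
    rw [hs0.2] at hs10
    have h := congrArg (qPow hF) hs10
    rw [map_one, map_neg, qPow_qPow] at h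
    linear_combination h
  rcases hmono with ⟨h01, h10⟩ | ⟨h00, h11⟩
  · have hm0 : Mm 0 0 ≠ 0 := fun h => hdetM (by rw [Matrix.det_fin_two, h, h01]; ring)
    have hm1 : Mm 1 1 ≠ 0 := fun h => hdetM (by rw [Matrix.det_fin_two, h, h01]; ring)
    set r := Mm 1 1 / Mm 0 0 with hr
    have hnr : nm hF r = 1 := by
      obtain ⟨-, -, hh1⟩ := mat_entries hF (α s)
      have e1 := congrFun (congrFun (hM' s) 0) 0
      have e2 := congrFun (congrFun (hM' s) 1) 0
      simp only [Matrix.mul_apply, Fin.sum_univ_two, Matrix.map_apply, h01, h10, hs0.1, hs0.2,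
        map_zero, map_one, mul_zero, zero_mul, mul_one, add_zero, zero_add, zero_eq_mul,
        mul_eq_zero, hm0, or_false] at e1 e2
      have e3 : mat hF (α s) 1 0 = r := by rw [hr, eq_div_iff hm0]; exact e2
      rw [e1, e3] at hh1
      simpa [nm] using hh1
    refine ⟨θ, ![1, r], fun i => by fin_cases i <;> simp [nm, -qPow_apply] <;> exact hnr, fun x => mat_injective hF ?_⟩
    rw [mat_twist]
    ext i j
    have e := congrFun (congrFun (hM' x) i) j
    rw [Matrix.mul_diagonal, Matrix.diagonal_mul, Matrix.map_apply]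
    have hr1 : qPow hF r = Mm 0 0 / Mm 1 1 := by
      have h : r * qPow hF r = 1 := hnr
      rw [eq_div_iff hm1]
      have hr' : r * Mm 0 0 = Mm 1 1 := div_mul_cancel₀ _ hm0
      linear_combination (Mm 0 0) * h - qPow hF r * hr'
    fin_cases i <;> fin_cases j <;>
      simp [Matrix.mul_apply, Fin.sum_univ_two, h01, h10, -qPow_apply] at e ⊢
    · exact mul_left_injective₀ hm0 (by linear_combination e)
    · rw [hr1]; field_simp; linear_combination e
    · rw [hr]; field_simp; linear_combination e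
    · rw [hr1, hr]; field_simp; exact mul_left_injective₀ hm1 (by linear_combination e)
  · have hm1 : Mm 0 1 ≠ 0 := fun h => hdetM (by rw [Matrix.det_fin_two, h, h00]; ring)
    have hm0 : Mm 1 0 ≠ 0 := fun h => hdetM (by rw [Matrix.det_fin_two, h, h00]; ring)
    set r := Mm 1 0 / Mm 0 1 with hr
    have hnr : nm hF r = 1 := by
      obtain ⟨-, -, hh1⟩ := mat_entries hF (α s)
      have e1 := congrFun (congrFun (hM' s) 0) 1
      have e2 := congrFun (congrFun (hM' s) 1) 1
      simp only [Matrix.mul_apply, Fin.sum_univ_two, Matrix.map_apply, h00, h11, hs01, hs11',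
        map_zero, map_one, map_neg, mul_zero, zero_mul, add_zero, zero_add, mul_neg, mul_one,
        mul_eq_zero, hm1, or_false] at e1 e2
      have e3 : mat hF (α s) 1 0 = -r := by
        rw [hr, ← neg_div, eq_div_iff hm1]; exact e2
      have e1' : mat hF (α s) 0 0 = 0 := by
        simpa [hm1] using e1
      rw [e1', e3] at hh1
      simpa [nm, -qPow_apply] using hh1
    let θ' : F ≃+* F := θ.trans (RingEquiv.ofRingHom (qPow hF) (qPow hF)
      (RingHom.ext (qPow_qPow hF)) (RingHom.ext (qPow_qPow hF)))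
    refine ⟨θ', ![1, -r], fun i => by fin_cases i <;> simp [nm, -qPow_apply] <;> exact hnr,
      fun x => mat_injective hF ?_⟩
    rw [mat_twist]
    obtain ⟨x11, x10, -⟩ := mat_entries hF x
    have hr1 : qPow hF r = Mm 0 1 / Mm 1 0 := by
      have h : r * qPow hF r = 1 := hnr
      rw [eq_div_iff hm0]
      have hr' : r * Mm 0 1 = Mm 1 0 := div_mul_cancel₀ _ hm1
      linear_combination (Mm 0 1) * h - qPow hF r * hr'
    have hθ' : ∀ z, θ' z = qPow hF (θ z) := fun z => rfl
    have x01 : mat hF x 0 1 = -qPow hF (mat hF x 1 0) := by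
      rw [x10, map_neg, qPow_qPow, neg_neg]
    have x00 : mat hF x 0 0 = qPow hF (mat hF x 1 1) := by rw [x11, qPow_qPow]
    have k11 : θ (mat hF x 1 1) = qPow hF (θ (mat hF x 0 0)) := by rw [x11, ringEquiv_qPow]
    have k10 : θ (mat hF x 1 0) = -qPow hF (θ (mat hF x 0 1)) := by
      rw [x10, map_neg, ringEquiv_qPow]
    have k00 : θ (mat hF x 0 0) = qPow hF (θ (mat hF x 1 1)) := by rw [k11, qPow_qPow]
    have k01 : θ (mat hF x 0 1) = -qPow hF (θ (mat hF x 1 0)) := by
      rw [k10, map_neg, qPow_qPow, neg_neg]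
    ext i j
    rw [Matrix.mul_diagonal, Matrix.diagonal_mul, Matrix.map_apply, hθ']
    have e0 := congrFun (congrFun (hM' x) i) 0
    have e1 := congrFun (congrFun (hM' x) i) 1
    fin_cases i <;> fin_cases j <;>
      simp [Matrix.mul_apply, Fin.sum_univ_two, h00, h11, -qPow_apply] at e0 e1 ⊢
    · exact mul_left_injective₀ hm1 (by linear_combination e1 + Mm 0 1 * k11)
    · rw [hr1]; field_simp; linear_combination e0 + Mm 0 1 * k10
    · rw [hr]; field_simp; linear_combination e1 + Mm 1 0 * k01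
    · rw [hr1, hr]; field_simp; exact mul_left_injective₀ hm0 (by linear_combination e0 + Mm 1 0 * k00)

end CfsgLib.Phan
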