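import Cfsg.Agent.Lib.Phan.Chain
import Cfsg.Agent.Lib.Phan.AutSU2
import Cfsg.Prelude.Def_PhanSystems

/-!
Standard pairs: normalising the identifications of overlapping three-dimensional groups, so that
they form a chain.
-/

set_option autoImplicit false
set_option maxHeartbeats 800000
set_option synthInstance.maxHeartbeats 100000

namespace CfsgLib.Phan

open Module CfsgLib.Classical.Herm HermSpace
open scoped Matrix

variable {F : Type*} [Field F] [Fintype F] {q : ℕ} (hF : Fintype.card F = q ^ 2)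

/-- A norm-one scalar other than `±1`. -/
theorem exists_unit_scalar : ∃ a : F, nm hF a = 1 ∧ a ^ 2 ≠ 1 := by
  classical
  by_contra hcon
  push Not at hcon
  have hq := two_le_of_card hF
  let T := (powMonoidHom (q + 1) : Fˣ →* Fˣ).ker
  have hT : Nat.card T = q + 1 := card_normOne_units hF
  have hsub : ∀ u : T, ((u : Fˣ) : F) ∈ ({1, -1} : Finset F) := by
    intro u
    have h := u.2
    rw [MonoidHom.mem_ker, powMonoidHom_apply] at h
    have hn : nm hF ((u : Fˣ) : F) = 1 := by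
      rw [nm, qPow_apply, ← pow_succ', ← Units.val_pow_eq_pow_val, h, Units.val_one]
    have h2 := hcon _ hn
    rw [Finset.mem_insert, Finset.mem_singleton]
    exact sq_eq_one_iff.1 h2
  have h3 : Nat.card T ≤ Nat.card ({1, -1} : Finset F) :=
    Nat.card_le_card_of_injective (fun u => (⟨_, hsub u⟩ : ({1, -1} : Finset F))) (fun u v h =>
      Subtype.ext (Units.ext (congrArg Subtype.val h)))
  rw [hT, Nat.card_eq_fintype_card, Fintype.card_coe] at h3
  have := Finset.card_le_two (a := (1 : F)) (b := -1)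
  omega

/-- Diagonal elements of the two-dimensional group. -/
def IsDiag (y : ↥(K hF 2)) : Prop := mat hF y 0 1 = 0 ∧ mat hF y 1 0 = 0

theorem isDiag_of_col {y : ↥(K hF 2)} (h : mat hF y 1 0 = 0) : IsDiag hF y := by
  obtain ⟨-, h10, -⟩ := mat_entries hF y
  refine ⟨?_, h⟩
  rw [h] at h10
  have := congrArg (qPow hF) h10
  simpa only [map_zero, map_neg, qPow_qPow, zero_eq_neg] using this

theorem exists_diag {a : F} (ha : nm hF a = 1) :
    ∃ y : ↥(K hF 2), IsDiag hF y ∧ mat hF y 0 0 = a ∧ mat hF y 1 1 = qPow hF a := by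
  have hE : hh hF (a • (E 0 : Fin 2 → F)) (a • E 0) = 1 := by
    show (stdHerm hF 2).h _ _ = 1
    rw [(stdHerm hF 2).smul_left, (stdHerm hF 2).smul_right, ← mul_assoc,
      show (stdHerm hF 2).h (E 0) (E 0) = 1 from Datum.on_E, mul_one]
    exact ha
  obtain ⟨y, hy⟩ := exists_K_map hF (l := [(E 0 : Fin 2 → F)]) (l' := [a • (E 0 : Fin 2 → F)])
    ⟨Datum.on_E, by simp, trivial⟩ ⟨hE, by simp, trivial⟩ rfl (by simp)
  simp only [List.map_cons, List.map_nil, List.cons.injEq, and_true] at hy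
  have h00 : mat hF y 0 0 = a := by rw [mat_apply, hy]; simp [E]
  refine ⟨y, isDiag_of_col hF (by rw [mat_apply, hy]; simp [E]), h00, ?_⟩
  rw [(mat_entries hF y).1, h00]

theorem smul_diag {y : ↥(K hF 2)} (hy : IsDiag hF y) (v : Fin 2 → F) :
    y • v = fun i => mat hF y i i * v i := by
  rw [← mulVec_mat]
  funext i
  fin_cases i <;> simp [Matrix.mulVec, dotProduct, Fin.sum_univ_two, hy.1, hy.2]

theorem eq_one_of_fix_all {n : ℕ} {z : ↥(K hF n)} (h : ∀ i, z • (E i : Fin n → F) = E i) : z = 1 := by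
  apply mat_injective hF
  rw [map_one]
  ext i j
  rw [mat_apply, h, E, Matrix.one_apply, Pi.single_apply]

theorem central_fix {z : ↥(K hF 3)} (hz : z ∈ Subgroup.center ↥(K hF 3)) {j : Fin 3}
    (hj : z • (E j : Fin 3 → F) = E j) : z = 1 := by
  refine eq_one_of_fix_all hF fun i => ?_
  obtain ⟨k, hk⟩ := exists_K_map hF (l := [(E j : Fin 3 → F)]) (l' := [E i])
    ⟨Datum.on_E, by simp, trivial⟩ ⟨Datum.on_E, by simp, trivial⟩ rfl (by simp)
  simp only [List.map_cons, List.map_nil, List.cons.injEq, and_true] at hk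
  rw [← hk, ← mul_smul, ← Subgroup.mem_center_iff.1 hz k, mul_smul, hj]

theorem ini_fix2 (y : ↥(K hF 2)) : ini hF 2 3 (by omega) y • (E 2 : Fin 3 → F) = E 2 :=
  emb_fix hF _ _ fun i => E_apply_ne (Fin.ne_of_val_ne (by simp; omega))

theorem tl_fix0 (y : ↥(K hF 2)) : tl hF 2 y • (E 0 : Fin 3 → F) = E 0 :=
  emb_fix hF _ _ fun i => E_apply_ne (Fin.succ_ne_zero i)

/-- The properties of an identification of a standard pair. -/
structure PairHom {G : Type*} [Group G] (V A B : Subgroup G) where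
  g : ↥(K hF 3) →* G
  range_eq : g.range = V
  left_eq : (g.comp (ini hF 2 3 (by omega))).range = A
  right_eq : (g.comp (tl hF 2)).range = B
  ker_le : g.ker ≤ Subgroup.center ↥(K hF 3)

namespace PairHom

variable {hF} {G : Type*} [Group G] {V A B : Subgroup G} (P : PairHom hF V A B)

theorem left_injective : Function.Injective (P.g.comp (ini hF 2 3 (by omega))) := by
  rw [← MonoidHom.ker_eq_bot_iff, eq_bot_iff]
  intro y hy
  have h1 := central_fix hF (P.ker_le hy) (ini_fix2 hF y)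
  exact Subgroup.mem_bot.2 (emb_injective hF _ (h1.trans (map_one _).symm))

theorem right_injective : Function.Injective (P.g.comp (tl hF 2)) := by
  rw [← MonoidHom.ker_eq_bot_iff, eq_bot_iff]
  intro y hy
  have h1 := central_fix hF (P.ker_le hy) (tl_fix0 hF y)
  exact Subgroup.mem_bot.2 (emb_injective hF _ (h1.trans (map_one _).symm))

/-- Elements normalising the right-hand group, on the left. -/
theorem diag_iff (y : ↥(K hF 2)) :
    IsDiag hF y ↔ ∀ w ∈ B, P.g (ini hF 2 3 (by omega) y) * w * (P.g (ini hF 2 3 (by omega) y))⁻¹ ∈ B := by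
  set Y := ini hF 2 3 (by omega) y with hY
  have hE0 : (E 0 : Fin 3 → F) = ext0 (Fin.castLEEmb (show 2 ≤ 3 by omega)) (E 0) := by
    rw [ext0_E]; rfl
  constructor
  · intro hy w hw
    obtain ⟨x, rfl⟩ := P.right_eq.ge hw
    have h1 : (Y * tl hF 2 x * Y⁻¹) • (E 0 : Fin 3 → F) = E 0 := by
      have h2 : Y • (E 0 : Fin 3 → F) = mat hF y 0 0 • E 0 := by
        show emb hF _ y • (E 0 : Fin 3 → F) = _
        rw [hE0, emb_ext0, smul_diag hF hy, ← ext0_smul']
        congr 1
        funext i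
        fin_cases i <;> simp [E]
      have hne : mat hF y 0 0 ≠ 0 := by
        intro h0
        obtain ⟨-, -, h⟩ := mat_entries hF y
        rw [h0, hy.2] at h
        simp [nm] at h
      have h3 : Y⁻¹ • (E 0 : Fin 3 → F) = (mat hF y 0 0)⁻¹ • E 0 := by
        rw [inv_smul_eq_iff, smul_smul_K, h2, smul_smul, inv_mul_cancel₀ hne, one_smul]
      rw [mul_smul, mul_smul, h3, smul_smul_K, tl_fix0, smul_smul_K, h2, smul_smul,
        inv_mul_cancel₀ hne, one_smul]
    obtain ⟨x', hx'⟩ := Datum.exists_of_stab (k := 2) h1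
    refine P.right_eq.le ⟨x', ?_⟩
    show P.g (tl hF 2 x') = _
    rw [show tl hF 2 x' = Y * tl hF 2 x * Y⁻¹ from hx']
    simp
  · intro h
    obtain ⟨s, hs⟩ := Datum.exists_s2 (hF := hF)
    have h' := h (P.g (tl hF 2 s)) (P.right_eq.le ⟨s, rfl⟩)
    obtain ⟨x, hx⟩ := P.right_eq.ge h'
    set z := (tl hF 2 x)⁻¹ * (Y * tl hF 2 s * Y⁻¹) with hz
    have hzc : z ∈ Subgroup.center ↥(K hF 3) := P.ker_le (by
      rw [MonoidHom.mem_ker, hz]
      simp only [map_mul, map_inv]
      change P.g (tl hF 2 x) = _ at hx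
      rw [hx]; group)
    obtain ⟨a, ha, ha2⟩ := exists_unit_scalar hF
    obtain ⟨d, hd, hd0, hd1⟩ := exists_diag hF ha
    have hfix : tl hF 2 d • (z • (E 0 : Fin 3 → F)) = z • E 0 := by
      rw [← mul_smul, Subgroup.mem_center_iff.1 hzc, mul_smul, tl_fix0]
    have hcoord : ∀ i : Fin 2, (z • (E 0 : Fin 3 → F)) i.succ = 0 := by
      intro i
      have e := emb_in hF (Fin.succEmb 2) d (z • (E 0 : Fin 3 → F)) i
      rw [show emb hF (Fin.succEmb 2) d • (z • (E 0 : Fin 3 → F)) = z • E 0 from hfix,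
        smul_diag hF hd] at e
      change (z • (E 0 : Fin 3 → F)) i.succ = mat hF d i i * (z • (E 0 : Fin 3 → F)) i.succ at e
      have hne : mat hF d i i ≠ 1 := by
        have hn : a ≠ 1 := fun h => ha2 (by rw [h, one_pow])
        fin_cases i
        · simpa [hd0] using hn
        · show mat hF d 1 1 ≠ 1
          rw [hd1]
          intro h
          apply hn
          have h2 := congrArg (qPow hF) h
          rwa [qPow_qPow, map_one] at h2
      by_contra h0
      exact hne (mul_right_cancel₀ h0 (by rw [one_mul]; exact e.symm))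
    set v := Y⁻¹ • (E 0 : Fin 3 → F) with hv
    set lam := (z • (E 0 : Fin 3 → F)) 0
    have hzE : z • (E 0 : Fin 3 → F) = lam • E 0 := by
      funext j
      rcases Fin.eq_zero_or_eq_succ j with rfl | ⟨i, rfl⟩
      · simp [E, lam]
      · rw [hcoord]; simp [E]
    have h1 : tl hF 2 s • v = lam • v := by
      have h2 : (Y * tl hF 2 s * Y⁻¹) • (E 0 : Fin 3 → F) = lam • E 0 := by
        rw [show Y * tl hF 2 s * Y⁻¹ = tl hF 2 x * z by rw [hz]; group, mul_smul, hzE, smul_smul_K,
          tl_fix0]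
      rw [mul_smul, mul_smul] at h2
      rw [hv, ← smul_smul_K, ← h2, inv_smul_smul]
    have hv2 : v 2 = 0 := by
      rw [hv, hY, ← map_inv]
      have := emb_off hF (Fin.castLEEmb (show 2 ≤ 3 by omega)) y⁻¹ (E 0 : Fin 3 → F) (j := 2)
        (fun i => Fin.ne_of_val_ne (by simp; omega))
      exact this.trans (E_apply_ne (by decide))
    have hv1 : v 1 = 0 := by
      have e := congrFun h1 (2 : Fin 3)
      rw [show (2 : Fin 3) = Fin.succEmb 2 1 from rfl, emb_in, ← mulVec_mat] at e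
      simp only [Matrix.mulVec, dotProduct, Fin.sum_univ_two, Pi.smul_apply, smul_eq_mul] at e
      rw [show mat hF s 1 0 = 1 by rw [mat_apply, hs]; simp [E],
        show v (Fin.succEmb 2 1) = 0 from hv2, mul_zero, add_zero, one_mul, mul_zero] at e
      exact e
    have hyi : IsDiag hF y⁻¹ := isDiag_of_col hF (by
      rw [mat_apply]
      rw [hv, hY, ← map_inv, hE0, emb_ext0] at hv1
      exact (ext0_apply (Fin.castLEEmb (show 2 ≤ 3 by omega)) (y⁻¹ • (E 0 : Fin 2 → F)) 1).symm.trans hv1)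
    have h2 : mat hF y⁻¹ 0 0 • y • (E 0 : Fin 2 → F) = E 0 := by
      have h3 : y⁻¹ • (E 0 : Fin 2 → F) = mat hF y⁻¹ 0 0 • E 0 := by
        rw [smul_diag hF hyi]
        funext i; fin_cases i <;> simp [E]
      have h4 := congrArg (fun w : Fin 2 → F => y • w) h3
      simp only [smul_inv_smul, smul_smul_K] at h4
      exact h4.symm
    refine isDiag_of_col hF ?_
    rw [mat_apply]
    have h5 := congrFun h2 1
    simp [E] at h5
    rcases h5 with h6 | h6
    · obtain ⟨-, -, h⟩ := mat_entries hF y⁻¹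
      rw [h6, hyi.2] at h
      simp [nm] at h
    · exact h6

/-- Twisting an identification. -/
noncomputable def twisted (θ : F ≃+* F) (δ : Fin 3 → F) (hδ : ∀ i, nm hF (δ i) = 1) :
    PairHom hF V A B where
  g := P.g.comp (twist hF θ δ hδ)
  range_eq := by
    rw [MonoidHom.range_comp, MonoidHom.range_eq_top.2 (twist_surjective hF θ δ hδ),
      ← MonoidHom.range_eq_map, P.range_eq]
  left_eq := by
    refine Eq.trans ?_ P.left_eq
    ext w
    constructor
    · rintro ⟨x, rfl⟩
      exact ⟨_, congrArg P.g (twist_emb hF θ _ δ hδ x).symm⟩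
    · rintro ⟨x, rfl⟩
      obtain ⟨x', rfl⟩ := twist_surjective hF θ (δ ∘ Fin.castLEEmb (show 2 ≤ 3 by omega))
        (fun i => hδ _) x
      exact ⟨x', congrArg P.g (twist_emb hF θ _ δ hδ x')⟩
  right_eq := by
    refine Eq.trans ?_ P.right_eq
    ext w
    constructor
    · rintro ⟨x, rfl⟩
      exact ⟨_, congrArg P.g (twist_emb hF θ _ δ hδ x).symm⟩
    · rintro ⟨x, rfl⟩
      obtain ⟨x', rfl⟩ := twist_surjective hF θ (δ ∘ Fin.succEmb 2) (fun i => hδ _) x
      exact ⟨x', congrArg P.g (twist_emb hF θ _ δ hδ x')⟩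
  ker_le := by
    intro x hx
    have h := P.ker_le (show twist hF θ δ hδ x ∈ P.g.ker from hx)
    rw [Subgroup.mem_center_iff] at h ⊢
    intro y
    apply twist_injective hF θ δ hδ
    rw [map_mul, map_mul, h]

end PairHom

/-- Matching two identifications on their common group, by a twist. -/
theorem exists_match_twist {G : Type*} [Group G] {V V' A B C : Subgroup G} (P : PairHom hF V A B)
    (Q : PairHom hF V' B C) (hcomm : ∀ a ∈ A, ∀ c ∈ C, a * c = c * a) :
    ∃ (θ : F ≃+* F) (δ : Fin 3 → F) (hδ : ∀ i, nm hF (δ i) = 1), ∀ y,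
      Q.g (twist hF θ δ hδ (ini hF 2 3 (by omega) y)) = P.g (tl hF 2 y) := by
  let eQ : ↥(K hF 2) ≃* ↥B := (MonoidHom.ofInjective Q.left_injective).trans
    (MulEquiv.subgroupCongr Q.left_eq)
  let eP : ↥(K hF 2) ≃* ↥B := (MonoidHom.ofInjective P.right_injective).trans
    (MulEquiv.subgroupCongr P.right_eq)
  set α : ↥(K hF 2) ≃* ↥(K hF 2) := eP.trans eQ.symm with hα
  have hαspec : ∀ y, Q.g (ini hF 2 3 (by omega) (α y)) = P.g (tl hF 2 y) := fun y => by
    have h : eQ (α y) = eP y := eQ.apply_symm_apply _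
    exact congrArg Subtype.val h
  obtain ⟨a, ha, ha2⟩ := exists_unit_scalar hF
  obtain ⟨d, hd, hd0, hd1⟩ := exists_diag hF ha
  have hqa : qPow hF a ≠ 1 := fun h => ha2 (by
    have h2 := congrArg (qPow hF) h
    rw [qPow_qPow, map_one] at h2
    rw [h2, one_pow])
  have ha1 : a ≠ qPow hF a := fun h => ha2 (by
    rw [sq]; nth_rewrite 2 [h]; exact ha)
  set X := ini hF 2 3 (by omega) d with hX
  have hXA : P.g X ∈ A := P.left_eq.le ⟨d, rfl⟩
  let δ3 : Fin 3 → F := ![a, qPow hF a, 1]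
  have hδ3 : ∀ i, nm hF (δ3 i) = 1 := fun i => by
    fin_cases i
    · exact ha
    · show nm hF (qPow hF a) = 1
      rw [nm, qPow_qPow, mul_comm]; exact ha
    · simp [δ3, nm]
  have hconj : ∀ z : ↥(K hF 3), X * z * X⁻¹ = twist hF (RingEquiv.refl F) δ3 hδ3 z := by
    intro z
    rw [mul_inv_eq_iff_eq_mul]
    refine K_ext hF fun v => ?_
    have hXv : ∀ w : Fin 3 → F, X • w = fun i => δ3 i * w i := by
      intro w
      funext j
      by_cases hj : ∃ i, (Fin.castLEEmb (show 2 ≤ 3 by omega)) i = j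
      · obtain ⟨i, rfl⟩ := hj
        rw [hX, emb_in, smul_diag hF hd]
        fin_cases i
        · show mat hF d 0 0 * _ = _
          rw [hd0]; rfl
        · show mat hF d 1 1 * _ = _
          rw [hd1]; rfl
      · push Not at hj
        rw [hX, emb_off hF _ d w hj]
        have : j = 2 := by
          fin_cases j
          · exact absurd rfl (hj 0)
          · exact absurd rfl (hj 1)
          · rfl
        subst this
        simp [δ3]
    rw [mul_smul, mul_smul, hXv, twist_smul, hXv v]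
    funext i
    show δ3 i * (z • v) i = δ3 i * (z • semiInv hF (RingEquiv.refl F) δ3 fun i => δ3 i * v i) i
    rw [show (semiInv hF (RingEquiv.refl F) δ3 fun i => δ3 i * v i) = v from
      semiInv_semi hF (RingEquiv.refl F) δ3 hδ3 v]
  let δ2 : Fin 2 → F := δ3 ∘ Fin.succEmb 2
  set γ := twist hF (RingEquiv.refl F) δ2 (fun i => hδ3 _) with hγ
  have hcj : ∀ y, Q.g (ini hF 2 3 (by omega) (α (γ y))) =
      P.g X * Q.g (ini hF 2 3 (by omega) (α y)) * (P.g X)⁻¹ := fun y => by
    rw [hαspec, hαspec, ← map_mul, ← map_inv, ← map_mul, hconj, twist_emb]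
  have hdiag : ∀ y, IsDiag hF (α y) → IsDiag hF (α (γ y)) := by
    intro y hy
    rw [Q.diag_iff]
    intro w hw
    rw [hcj]
    set u := Q.g (ini hF 2 3 (by omega) (α y))
    have h1 := (Q.diag_iff (α y)).1 hy w hw
    have h2 : P.g X * (u * w * u⁻¹) * (P.g X)⁻¹ = u * w * u⁻¹ := by
      rw [hcomm _ hXA _ h1, mul_inv_cancel_right]
    have h3 : (P.g X)⁻¹ * w * P.g X = w := by
      rw [mul_assoc, ← hcomm _ hXA w hw, inv_mul_cancel_left]
    have e : P.g X * u * (P.g X)⁻¹ * w * (P.g X * u * (P.g X)⁻¹)⁻¹ =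
        P.g X * (u * ((P.g X)⁻¹ * w * P.g X) * u⁻¹) * (P.g X)⁻¹ := by group
    rw [e, h3, h2]
    exact h1
  obtain ⟨θ, M, hM⟩ := aut_K2 hF α
  set Mm : Matrix (Fin 2) (Fin 2) F := (M : Matrix (Fin 2) (Fin 2) F)
  set Mi : Matrix (Fin 2) (Fin 2) F := ((M⁻¹ : GL (Fin 2) F) : Matrix (Fin 2) (Fin 2) F)
  have hMi : Mi * Mm = 1 := M.inv_mul
  have hdetM : Mm.det ≠ 0 := ((Matrix.isUnit_iff_isUnit_det _).1 M.isUnit).ne_zero
  set D : Matrix (Fin 2) (Fin 2) F := Matrix.diagonal fun i => θ (δ2 i)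
  set Nm := Mm * D * Mi
  have hN : ∀ y, mat hF (α (γ y)) * Nm = Nm * mat hF (α y) := by
    intro y
    rw [hM, hM, hγ, mat_twist]
    set B0 := (mat hF y).map θ
    have e1 : (Matrix.diagonal δ2 * (mat hF y).map (RingEquiv.refl F) *
        Matrix.diagonal fun i => qPow hF (δ2 i)).map θ =
        D * B0 * Matrix.diagonal (fun i => θ (qPow hF (δ2 i))) := by
      ext i j
      simp [D, B0, Matrix.mul_diagonal, Matrix.diagonal_mul]
    rw [e1]
    set D' : Matrix (Fin 2) (Fin 2) F := Matrix.diagonal fun i => θ (qPow hF (δ2 i))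
    have hDD : D' * D = 1 := by
      simp only [D, D', Matrix.diagonal_mul_diagonal]
      rw [← Matrix.diagonal_one]
      congr 1
      funext i
      rw [← map_mul, mul_comm, show δ2 i * qPow hF (δ2 i) = 1 from hδ3 _, map_one]
    calc Mm * (D * B0 * D') * Mi * Nm = Mm * D * B0 * (D' * ((Mi * Mm) * D)) * Mi := by
          simp only [Nm, Matrix.mul_assoc]
      _ = Mm * D * B0 * Mi := by rw [hMi, Matrix.one_mul, hDD, Matrix.mul_one]
      _ = Nm * (Mm * B0 * Mi) := by
          simp only [Nm, Matrix.mul_assoc]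
          rw [← Matrix.mul_assoc Mi Mm, hMi, Matrix.one_mul]
  have hδ20 : δ2 0 = qPow hF a := rfl
  have hδ21 : δ2 1 = 1 := rfl
  have hdet1 : (Mm * Mi).det = 1 := by
    rw [show Mm * Mi = 1 from M.mul_inv, Matrix.det_one]
  have hdetN : Nm.det ≠ 0 := by
    simp only [Nm, Matrix.det_mul]
    rw [mul_right_comm, ← Matrix.det_mul, hdet1, one_mul]
    simp only [D, Matrix.det_diagonal, Fin.prod_univ_two, hδ20, hδ21, map_one, mul_one]
    exact fun h => by
      have h2 := congrArg (qPow hF) ((map_eq_zero θ).1 h)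
      rw [qPow_qPow, map_zero] at h2
      rw [h2] at ha
      simp [nm] at ha
  have htr : Nm 0 0 + Nm 1 1 = θ (qPow hF a) + 1 := by
    have h : Nm.trace = D.trace := by
      simp only [Nm]
      rw [Matrix.trace_mul_comm, ← Matrix.mul_assoc, hMi, Matrix.one_mul]
    rw [Matrix.trace_fin_two, Matrix.trace_fin_two] at h
    rw [h]
    simp [D, hδ20, hδ21]
  obtain ⟨y, hy⟩ := α.surjective d
  have hyd : IsDiag hF (α y) := hy ▸ hd
  have hNmono := monomial_of_conj hdetN (N := mat hF (α (γ y)))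
    (d := fun i => mat hF d i i) (by simpa [hd0, hd1] using ha1)
    (by
      rw [← diag_of_fix hd, ← hy]
      exact (hN y).symm)
    (hdiag y hyd).1 (hdiag y hyd).2
  have hNd : Nm 0 1 = 0 ∧ Nm 1 0 = 0 := by
    refine hNmono.resolve_right fun h => ha2 ?_
    rw [h.1, h.2, add_zero] at htr
    have h2 : qPow hF a = -1 := θ.injective (by rw [map_neg, map_one]; linear_combination -htr)
    have h3 := congrArg (qPow hF) h2
    rw [qPow_qPow, map_neg, map_one] at h3
    rw [h3, neg_one_sq]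
  have hMmono := monomial_of_conj hdetM (N := Nm) (d := fun i => θ (δ2 i))
    (by
      show θ (δ2 0) ≠ θ (δ2 1)
      rw [hδ20, hδ21, map_one]
      exact fun h => hqa (θ.injective (h.trans (map_one θ).symm)))
    (by simp only [Nm, Matrix.mul_assoc]; rw [hMi, Matrix.mul_one])
    hNd.1 hNd.2
  have hαd : IsDiag hF (α d) := by
    have e : mat hF (α d) * Mm = Mm * (mat hF d).map θ := by
      rw [hM, Matrix.mul_assoc, hMi, Matrix.mul_one]
    rcases hMmono with ⟨h01, h10⟩ | ⟨h00, h11⟩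
    · have hm0 : Mm 0 0 ≠ 0 := fun h => hdetM (by rw [Matrix.det_fin_two, h, h01]; ring)
      refine isDiag_of_col hF ?_
      have e1 := congrFun (congrFun e 1) 0
      simp [Matrix.mul_apply, Fin.sum_univ_two, h01, h10, hd.1, hd.2, hm0] at e1
      exact e1
    · have hm1 : Mm 1 0 ≠ 0 := fun h => hdetM (by rw [Matrix.det_fin_two, h, h00]; ring)
      have hm0 : Mm 0 1 ≠ 0 := fun h => hdetM (by rw [Matrix.det_fin_two, h, h00]; ring)
      refine isDiag_of_col hF ?_
      have e1 := congrFun (congrFun e 1) 1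
      simp [Matrix.mul_apply, Fin.sum_univ_two, h00, h11, hd.1, hd.2, hm0, hm1] at e1
      exact e1
  obtain ⟨θ', δ, hδ, htw⟩ := aut_twist hF α hd (by rw [hd0, hd1]; exact ha1) hαd
  refine ⟨θ', ![δ 0, δ 1, 1], fun i => by
    fin_cases i
    exacts [hδ 0, hδ 1, by simp [nm]], fun y => ?_⟩
  rw [twist_emb]
  rw [← hαspec, htw]
  congr 2
  refine K_ext hF fun v => ?_
  rw [twist_smul, twist_smul]
  have e : (![δ 0, δ 1, 1] : Fin 3 → F) ∘ Fin.castLEEmb (show 2 ≤ 3 by omega) = δ := by
    funext i; fin_cases i <;> rfl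
  rw [e]

/-- Matching two identifications on their common group. -/
theorem exists_match {G : Type*} [Group G] {V V' A B C : Subgroup G} (P : PairHom hF V A B)
    (Q : PairHom hF V' B C) (hcomm : ∀ a ∈ A, ∀ c ∈ C, a * c = c * a) :
    ∃ Q' : PairHom hF V' B C, ∀ y, Q'.g (ini hF 2 3 (by omega) y) = P.g (tl hF 2 y) := by
  obtain ⟨θ, δ, hδ, h⟩ := exists_match_twist hF P Q hcomm
  exact ⟨Q.twisted θ δ hδ, h⟩

/-- The stabiliser form of the block subgroups. -/
theorem map_suBlock {n : ℕ} (j : Fin n) :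
    (Cfsg.suBlock n F q {j}ᶜ).map (suEquiv hF n).toMonoidHom =
      MulAction.stabilizer ↥(K hF n) (E j : Fin n → F) := by
  have hmat : ∀ (A : ↥(Cfsg.SU n F q)) (k l : Fin n), ((A : Matrix.SpecialLinearGroup (Fin n) F) :
      Matrix (Fin n) (Fin n) F) k l = ((suEquiv hF n A) • (E l : Fin n → F)) k := by
    intro A k l
    rw [show (suEquiv hF n A) • (E l : Fin n → F) = (suEquiv hF n A).1.1 (E l) from rfl,
      suEquiv_apply, E, Matrix.mulVec_single_one]
    rfl
  refine le_antisymm ?_ ?_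
  · rw [Subgroup.map_le_iff_le_comap, Cfsg.suBlock, Subgroup.closure_le]
    intro A hA
    obtain ⟨h1, h2⟩ := hA j (by simp)
    rw [SetLike.mem_coe, Subgroup.mem_comap, MulAction.mem_stabilizer_iff]
    funext k
    show ((suEquiv hF n A) • (E j : Fin n → F)) k = _
    rw [← hmat]
    rcases eq_or_ne k j with rfl | hk
    · rw [h1]; simp [E]
    · rw [(h2 k hk).2, E_apply_ne hk]
  · intro z hz
    refine ⟨(suEquiv hF n).symm z, Subgroup.subset_closure ?_, (suEquiv hF n).apply_symm_apply z⟩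
    intro k hk
    obtain rfl : k = j := by simpa using hk
    have hz' : (suEquiv hF n ((suEquiv hF n).symm z)) • (E k : Fin n → F) = E k := by
      rw [MulEquiv.apply_symm_apply]; exact hz
    refine ⟨by rw [hmat, hz']; simp [E], fun l hl => ⟨?_, by rw [hmat, hz', E_apply_ne hl]⟩⟩
    rw [hmat, apply_eq_zero_of_fix hF hz', E_apply_ne (Ne.symm hl)]

theorem range_ini2 : (ini hF 2 3 (by omega)).range =
    MulAction.stabilizer ↥(K hF 3) (E 2 : Fin 3 → F) := by
  refine le_antisymm ?_ fun z hz => ?_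
  · rintro _ ⟨y, rfl⟩
    exact ini_fix2 hF y
  · obtain ⟨y, hy⟩ := exists_emb hF (Fin.castLEEmb (show 2 ≤ 3 by omega)) z fun j hj => by
      have : j = 2 := by
        fin_cases j
        · exact absurd rfl (hj 0)
        · exact absurd rfl (hj 1)
        · rfl
      subst this
      exact hz
    exact ⟨y, hy⟩

theorem range_tl2 : (tl hF 2).range = MulAction.stabilizer ↥(K hF 3) (E 0 : Fin 3 → F) := by
  refine le_antisymm ?_ fun z hz => ?_
  · rintro _ ⟨y, rfl⟩
    exact tl_fix0 hF y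
  · obtain ⟨y, hy⟩ := Datum.exists_of_stab (k := 2) (g := z) hz
    exact ⟨y, hy⟩

/-- The identification given by a standard pair. -/
theorem exists_pairHom {G : Type*} [Group G] {V A B : Subgroup G}
    (h : Cfsg.IsStandardUnitaryPair V A B F q) : Nonempty (PairHom hF V A B) := by
  have mk : ∀ (φ : ↥(Cfsg.SU 3 F q) →* G), φ.range = V →
      φ.ker ≤ Subgroup.center ↥(Cfsg.SU 3 F q) →
      (Cfsg.suBlock 3 F q {0, 1}).map φ = A → (Cfsg.suBlock 3 F q {1, 2}).map φ = B →
      Nonempty (PairHom hF V A B) := by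
    intro φ hV hker hA hB
    set e := suEquiv hF 3
    refine ⟨⟨φ.comp e.symm.toMonoidHom, ?_, ?_, ?_, ?_⟩⟩
    · rw [MonoidHom.range_comp, MonoidHom.range_eq_top.2 e.symm.surjective,
        ← MonoidHom.range_eq_map, hV]
    · rw [← hA, MonoidHom.range_comp, range_ini2, show ({0, 1} : Set (Fin 3)) = {2}ᶜ by
        ext i; fin_cases i <;> simp, ← map_suBlock, Subgroup.map_map]
      congr 1
      ext x
      simp [e]
    · rw [← hB, MonoidHom.range_comp, range_tl2, show ({1, 2} : Set (Fin 3)) = {0}ᶜ by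
        ext i; fin_cases i <;> simp, ← map_suBlock, Subgroup.map_map]
      congr 1
      ext x
      simp [e]
    · intro x hx
      have h1 := hker (show e.symm x ∈ φ.ker from hx)
      rw [Subgroup.mem_center_iff] at h1 ⊢
      intro y
      apply e.symm.injective
      rw [map_mul, map_mul, h1]
  rcases h with ⟨ψ, hA, hB⟩ | ⟨ψ, hA, hB⟩
  · refine mk _ ?_ ?_ hA hB
    · rw [MonoidHom.range_comp, MonoidHom.range_eq_top.2 ψ.surjective, ← MonoidHom.range_eq_map,
        Subgroup.range_subtype]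
    · intro x hx
      have : x = 1 := ψ.injective (Subtype.ext (hx.trans (by simp)))
      rw [this]; exact one_mem _
  · refine mk _ ?_ ?_ hA hB
    · rw [MonoidHom.range_comp, (MonoidHom.range_eq_top (f := (ψ.toMonoidHom.comp
          (QuotientGroup.mk' (Subgroup.center ↥(Cfsg.SU 3 F q)))))).2
          (ψ.surjective.comp (QuotientGroup.mk'_surjective _)), ← MonoidHom.range_eq_map,
        Subgroup.range_subtype]
    · intro x hx
      have h1 : ψ (QuotientGroup.mk x) = 1 := Subtype.ext (hx.trans (by simp))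
      rw [← map_one ψ] at h1
      exact (QuotientGroup.eq_one_iff x).1 (ψ.injective h1)

/-- A chain from standard pairs. -/
theorem exists_chain {G : Type*} [Group G] {N : ℕ} (U : ℕ → Subgroup G) (V : ℕ → Subgroup G)
    (hstd : ∀ i, i + 3 ≤ N → Cfsg.IsStandardUnitaryPair (V i) (U i) (U (i + 1)) F q)
    (hcomm : ∀ i j, i + 2 ≤ j → j + 2 ≤ N → ∀ x ∈ U i, ∀ y ∈ U j, x * y = y * x) (hN : 3 ≤ N) :
    ∃ C : Chain hF G N, (∀ i, i + 3 ≤ N → (C.f i).range = V i ∧
        (C.f i).ker ≤ Subgroup.center ↥(K hF 3)) ∧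
      ∀ j, j + 2 ≤ N → (C.u j).range = U j := by
  classical
  let Good : ℕ → (↥(K hF 3) →* G) → Prop := fun i f =>
    i + 3 ≤ N → ∃ P : PairHom hF (V i) (U i) (U (i + 1)), P.g = f
  have h0 : ∃ f, Good 0 f := by
    obtain ⟨P⟩ := exists_pairHom hF (hstd 0 (by omega))
    exact ⟨P.g, fun _ => ⟨P, rfl⟩⟩
  have hstep : ∀ i f, Good i f → ∃ f', Good (i + 1) f' ∧
      (i + 4 ≤ N → ∀ y, f' (ini hF 2 3 (by omega) y) = f (tl hF 2 y)) := by
    intro i f hf
    by_cases hi : i + 4 ≤ N
    · obtain ⟨P, rfl⟩ := hf (by omega)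
      obtain ⟨Q⟩ := exists_pairHom hF (hstd (i + 1) (by omega))
      obtain ⟨Q', hQ'⟩ := exists_match hF P Q (fun a ha c hc =>
        hcomm i (i + 1 + 1) (by omega) (by omega) a ha c hc)
      exact ⟨Q'.g, fun _ => ⟨Q', rfl⟩, fun _ => hQ'⟩
    · exact ⟨f, fun h => absurd h (by omega), fun h => absurd h hi⟩
  choose next hnext using hstep
  obtain ⟨S, hlink⟩ : ∃ S : ∀ i, {f : ↥(K hF 3) →* G // Good i f}, ∀ i, i + 4 ≤ N → ∀ y,
      (S (i + 1)).1 (ini hF 2 3 (by omega) y) = (S i).1 (tl hF 2 y) := by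
    refine ⟨fun i => Nat.rec
      (motive := fun i => {f : ↥(K hF 3) →* G // Good i f}) ⟨h0.choose, h0.choose_spec⟩
      (fun j p => ⟨next j p.1 p.2, (hnext j p.1 p.2).1⟩) i, fun i hi y => ?_⟩
    exact (hnext i _ _).2 hi y
  let u : ℕ → ↥(K hF 2) →* G := fun j =>
    if j + 3 ≤ N then (S j).1.comp (ini hF 2 3 (by omega)) else (S (j - 1)).1.comp (tl hF 2)
  have hu : ∀ j, j + 2 ≤ N → (u j).range = U j := by
    intro j hj
    by_cases hj3 : j + 3 ≤ N
    · obtain ⟨P, hP⟩ := (S j).2 hj3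
      simp only [u, if_pos hj3, ← hP]
      exact P.left_eq
    · obtain ⟨P, hP⟩ := (S (j - 1)).2 (by omega)
      simp only [u, if_neg hj3, ← hP]
      rw [P.right_eq, show j - 1 + 1 = j by omega]
  refine ⟨{
    u := u
    f := fun i => (S i).1
    f_ini := fun i hi x => by simp only [u, if_pos hi]; rfl
    f_tl := fun i hi x => by
      by_cases h4 : i + 4 ≤ N
      · simp only [u, if_pos (show i + 1 + 3 ≤ N by omega)]
        exact (hlink i h4 x).symm
      · simp only [u, if_neg (show ¬ (i + 1 + 3 ≤ N) by omega), Nat.add_sub_cancel]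
        rfl
    comm := fun i j hij hj x y => hcomm i j hij hj _ (by rw [← hu i (by omega)]; exact ⟨x, rfl⟩)
      _ (by rw [← hu j hj]; exact ⟨y, rfl⟩) }, fun i hi => ?_, hu⟩
  obtain ⟨P, hP⟩ := (S i).2 hi
  show (S i).1.range = V i ∧ (S i).1.ker ≤ _
  rw [← hP]
  exact ⟨P.range_eq, P.ker_le⟩

end CfsgLib.Phan
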