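import Cfsg.Agent.Lib.Phan.NullAll

/-!
Homomorphisms of special unitary groups from chains of overlapping three-dimensional ones.
-/

set_option autoImplicit false
set_option maxHeartbeats 800000
set_option synthInstance.maxHeartbeats 100000

namespace CfsgLib.Phan

open Module CfsgLib.Classical.Herm HermSpace

variable {F : Type*} [Field F] [Fintype F] {q : ℕ} (hF : Fintype.card F = q ^ 2)

/-- The first coordinates. -/
noncomputable abbrev ini (a n : ℕ) (h : a ≤ n) : ↥(K hF a) →* ↥(K hF n) :=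
  emb hF (Fin.castLEEmb h)

/-- The last coordinates. -/
noncomputable abbrev tl (a : ℕ) : ↥(K hF a) →* ↥(K hF (a + 1)) := emb hF (Fin.succEmb a)

theorem ini_ini {a b c : ℕ} (h : a ≤ b) (h' : b ≤ c) (x : ↥(K hF a)) :
    ini hF b c h' (ini hF a b h x) = ini hF a c (h.trans h') x := by
  rw [ini, ini, emb_comp]
  exact emb_congr hF (fun i => Fin.ext rfl) x

/-- A chain of homomorphisms of three-dimensional groups. -/
structure Chain (G : Type*) [Group G] (N : ℕ) where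
  u : ℕ → ↥(K hF 2) →* G
  f : ℕ → ↥(K hF 3) →* G
  f_ini : ∀ i, i + 3 ≤ N → ∀ x, f i (ini hF 2 3 (by omega) x) = u i x
  f_tl : ∀ i, i + 3 ≤ N → ∀ x, f i (tl hF 2 x) = u (i + 1) x
  comm : ∀ i j, i + 2 ≤ j → j + 2 ≤ N → ∀ x y, Commute (u i x) (u j y)

namespace Chain

variable {hF} {G : Type*} [Group G] {N : ℕ} (C : Chain hF G N)

/-- The group generated by the images with index at least `i`. -/
noncomputable def W (i : ℕ) : Subgroup G := ⨆ (j : ℕ) (_ : i ≤ j) (_ : j + 2 ≤ N), (C.u j).range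

theorem mem_W {i j : ℕ} (h : i ≤ j) (hj : j + 2 ≤ N) (x : ↥(K hF 2)) : C.u j x ∈ C.W i :=
  le_iSup_of_le (f := fun k => ⨆ (_ : i ≤ k) (_ : k + 2 ≤ N), (C.u k).range) j
    (le_iSup_of_le h (le_iSup_of_le hj le_rfl)) ⟨x, rfl⟩

theorem W_mono {i j : ℕ} (h : i ≤ j) : C.W j ≤ C.W i :=
  iSup_le fun k => iSup_le fun hk => iSup_le fun hk' => by
    rintro _ ⟨x, rfl⟩
    exact C.mem_W (h.trans hk) hk' x

theorem commute_W {i : ℕ} (x : ↥(K hF 2)) {w : G} (hw : w ∈ C.W (i + 2)) :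
    Commute (C.u i x) w := by
  have h : C.W (i + 2) ≤ Subgroup.centralizer {C.u i x} :=
    iSup_le fun k => iSup_le fun hk => iSup_le fun hk' => by
      rintro _ ⟨y, rfl⟩
      exact Subgroup.mem_centralizer_iff.2 fun z hz => by
        rw [Set.mem_singleton_iff.1 hz]; exact C.comm i k hk hk' x y
  exact Subgroup.mem_centralizer_iff.1 (h hw) _ rfl

/-- What is built on the interval starting at `i`. -/
structure Part (i k : ℕ) where
  hk : 3 ≤ k
  hik : i + k ≤ N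
  Φ : ↥(K hF k) →* G
  Φ_ini : ∀ x, Φ (ini hF 3 k hk x) = C.f i x
  Φ_range : ∀ x, Φ x ∈ C.W i
  Φ_stab : ∀ x : ↥(K hF k), x • (E ⟨0, by omega⟩ : Fin k → F) = E ⟨0, by omega⟩ →
    Φ x ∈ C.W (i + 1)
  Φ_cover : ∀ j, i ≤ j → j + 3 ≤ i + k → (C.f j).range ≤ Φ.range

theorem f_mem (hq : 3 ≤ q) {i : ℕ} (hi : i + 3 ≤ N) (x : ↥(K hF 3)) : C.f i x ∈ C.W i := by
  let S : Subgroup ↥(K hF 3) := (C.W i).comap (C.f i)
  obtain ⟨s, hs⟩ := Datum.exists_s2 (hF := hF)
  have hS : S = ⊤ := by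
    refine gen_K hF (Or.inr ⟨hq, le_rfl⟩) S (fun g hg => ?_)
      (s := ini hF 2 3 (by omega) s) ?_ ?_
    · obtain ⟨y, rfl⟩ := Datum.exists_of_stab (k := 2) hg
      show C.f i (tl hF 2 y) ∈ C.W i
      rw [C.f_tl i hi]; exact C.mem_W (by omega) (by omega) y
    · show C.f i (ini hF 2 3 _ s) ∈ C.W i
      rw [C.f_ini i hi]; exact C.mem_W le_rfl (by omega) s
    · have h : ini hF 2 3 (by omega) s • (E 0 : Fin 3 → F) = E 1 := by
        have h0 : (E 0 : Fin 3 → F) = ext0 (Fin.castLEEmb (show 2 ≤ 3 by omega)) (E 0) := by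
          rw [ext0_E]; rfl
        rw [h0]
        show emb hF _ s • _ = _
        rw [emb_ext0, hs, ext0_E]; rfl
      rw [h]; exact adj_E hF (by decide)
  have : x ∈ S := by rw [hS]; trivial
  exact this

/-- One interval. -/
noncomputable def part3 (hq : 3 ≤ q) {i : ℕ} (hi : i + 3 ≤ N) : C.Part i 3 where
  hk := le_rfl
  hik := hi
  Φ := C.f i
  Φ_ini x := by rw [show ini hF 3 3 le_rfl x = x from emb_refl hF (fun _ => Fin.ext rfl) x]
  Φ_range := C.f_mem hq hi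
  Φ_stab x hx := by
    obtain ⟨y, rfl⟩ := Datum.exists_of_stab (k := 2) hx
    show C.f i (tl hF 2 y) ∈ _
    rw [C.f_tl i hi]; exact C.mem_W le_rfl (by omega) y
  Φ_cover j h1 h2 := by rw [show j = i by omega]

/-- Extending an interval to the left. -/
theorem part_succ (hq : 3 ≤ q) {i k : ℕ} (h : i + (k + 1) ≤ N) (hk : 4 ≤ k ∨ 4 ≤ q)
    (P : C.Part (i + 1) k) : Nonempty (C.Part i (k + 1)) := by
  have hk3 := P.hk
  have hN : i + 3 ≤ N := by omega
  let D : Datum hF G k 2 :=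
    { hm := hk3
      ht := le_rfl
      htm := by omega
      hgen := Or.inr hq
      φ := P.Φ
      f := C.f i
      compat := fun x => by
        show C.f i (tl hF 2 x) = P.Φ (ini hF 2 k _ x)
        rw [C.f_tl i hN, ← ini_ini hF (show 2 ≤ 3 by omega) hk3, P.Φ_ini, C.f_ini (i + 1) (by omega)]
      comm := fun u x hx => by
        show Commute (C.f i (ini hF 2 3 _ u)) (P.Φ x)
        rw [C.f_ini i hN]
        exact C.commute_W u (P.Φ_stab x hx) }
  obtain ⟨Φ, hΦ, hΦf⟩ := D.exists_glue (by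
    rcases Nat.lt_or_ge k 4 with h4 | h4
    · exact Or.inl ⟨by omega, rfl, by omega⟩
    · exact Or.inr (Or.inl ⟨h4, hq⟩))
  have hini : ∀ x, Φ (ini hF 3 (k + 1) (by omega) x) = C.f i x := hΦf
  have hstab : ∀ x : ↥(K hF (k + 1)), x • (E 0 : Fin (k + 1) → F) = E 0 → Φ x ∈ C.W (i + 1) := by
    intro x hx
    obtain ⟨y, rfl⟩ := Datum.exists_of_stab hx
    rw [hΦ]; exact P.Φ_range y
  refine ⟨⟨by omega, h, Φ, hini, fun x => ?_, hstab, fun j h1 h2 => ?_⟩⟩
  · let S : Subgroup ↥(K hF (k + 1)) := (C.W i).comap Φ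
    have hS : S = ⊤ := by
      refine gen_K hF (Or.inl (by omega)) S (fun g hg => C.W_mono (by omega) (hstab g hg))
        (s := D.s) ?_ ?_
      · show Φ (emb hF D.iE D.sr) ∈ C.W i
        rw [hΦf]
        exact C.f_mem hq hN _
      · rw [D.s_E0]; exact adj_E hF fun e => by simpa using congrArg Fin.val e
    have : x ∈ S := by rw [hS]; trivial
    exact this
  · rcases Nat.lt_or_ge i j with hj | hj
    · rintro _ ⟨x, rfl⟩
      obtain ⟨y, hy⟩ := P.Φ_cover j hj (by omega) ⟨x, rfl⟩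
      exact ⟨tl hF k y, by rw [hΦ, hy]⟩
    · rintro _ ⟨x, rfl⟩
      rw [show j = i by omega]
      exact ⟨_, hini x⟩

/-- Homomorphisms from chains. -/
theorem exists_hom_of (hq : 3 ≤ q) {k₀ : ℕ} (h₀ : 4 ≤ k₀ ∨ 4 ≤ q) (hk₀ : k₀ ≤ N)
    (base : ∀ i, i + k₀ ≤ N → Nonempty (C.Part i k₀)) :
    ∃ Φ : ↥(K hF N) →* G, ∀ j, j + 3 ≤ N → (C.f j).range ≤ Φ.range := by
  have key : ∀ k, k₀ ≤ k → ∀ i, i + k ≤ N → Nonempty (C.Part i k) := by
    intro k hk
    induction k, hk using Nat.le_induction with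
    | base => exact base
    | succ k hk ih =>
      intro i hi
      obtain ⟨P⟩ := ih (i + 1) (by omega)
      exact C.part_succ hq hi (by omega) P
  obtain ⟨P⟩ := key N hk₀ 0 (by omega)
  exact ⟨P.Φ, fun j hj => P.Φ_cover j (Nat.zero_le j) (by omega)⟩

/-- The case of a field with more than nine elements. -/
theorem exists_hom (hq : 4 ≤ q) (hN : 3 ≤ N) :
    ∃ Φ : ↥(K hF N) →* G, ∀ j, j + 3 ≤ N → (C.f j).range ≤ Φ.range :=
  C.exists_hom_of (by omega) (Or.inr hq) hN fun _ hi => ⟨C.part3 (by omega) hi⟩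

end Chain

end CfsgLib.Phan
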