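import Cfsg.Agent.Lib.Phan.Emb
import Cfsg.Agent.Lib.Classical.Herm.SU2

/-!
Connectedness of orthogonality graphs of unit vectors and generation of special unitary groups by a
point stabiliser and one further element; norm values.
-/

set_option autoImplicit false

namespace CfsgLib.Phan

open Module CfsgLib.Classical.Herm HermSpace

variable {F : Type*} [Field F] [Fintype F] {q : ℕ} (hF : Fintype.card F = q ^ 2)

/-- The norm of a scalar. -/
noncomputable abbrev nm (x : F) : F := x * qPow hF x

theorem conj_eq (n : ℕ) : (stdHerm hF n).conj = qPow hF := rfl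

theorem nm_fixed (x : F) : qPow hF (nm hF x) = nm hF x := by
  rw [map_mul, qPow_qPow, mul_comm]

theorem nm_symm {n : ℕ} (x y : Fin n → F) : nm hF (hh hF x y) = nm hF (hh hF y x) := by
  have h : qPow hF (hh hF x y) = hh hF y x := (stdHerm hF n).symm' x y
  have h' : qPow hF (hh hF y x) = hh hF x y := (stdHerm hF n).symm' y x
  rw [nm, nm, h, h', mul_comm]

theorem nm_eq_zero {x : F} (h : nm hF x = 0) : x = 0 := by
  rcases mul_eq_zero.1 h with h | h
  · exact h
  · exact (map_eq_zero (qPow hF)).1 h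

theorem exists_fixed_notMem (S : Finset F) (hS : S.card < q) :
    ∃ A : F, qPow hF A = A ∧ A ∉ S := by
  classical
  by_contra hcon
  push Not at hcon
  let T : Finset F := Finset.univ.filter fun x => qPow hF x = x
  have h1 : T.card = q := by
    have h : Nat.card (fixedField hF) = T.card :=
      Nat.subtype_card T (fun x => by simp only [T, Finset.mem_filter, Finset.mem_univ, true_and, mem_fixedField])
    rw [← h, card_fixedField]
  have h2 : T ⊆ S := fun x hx => hcon x (by simpa only [T, Finset.mem_filter, Finset.mem_univ, true_and] using hx)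
  have := Finset.card_le_card h2
  omega

theorem fixed_two (hq : q = 2) {x : F} (hx : qPow hF x = x) : x = 0 ∨ x = 1 := by
  by_contra hcon
  push Not at hcon
  have h0 : x ^ q = x := by rw [← qPow_apply hF]; exact hx
  rw [hq] at h0
  have : x * (x - 1) = 0 := by linear_combination h0
  rcases mul_eq_zero.1 this with h | h
  · exact hcon.1 h
  · exact hcon.2 (sub_eq_zero.1 h)

variable {n : ℕ}

/-- Adjacency: orthogonal unit vectors. -/
def adj (u v : Fin n → F) : Prop := hh hF u u = 1 ∧ hh hF v v = 1 ∧ hh hF u v = 0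

theorem adj_symm {u v : Fin n → F} (h : adj hF u v) : adj hF v u :=
  ⟨h.2.1, h.1, (stdHerm hF n).h_comm_zero h.2.2⟩

theorem adj_smul (g : ↥(K hF n)) {u v : Fin n → F} (h : adj hF u v) : adj hF (g • u) (g • v) :=
  ⟨by rw [h_smul_K]; exact h.1, by rw [h_smul_K]; exact h.2.1, by rw [h_smul_K]; exact h.2.2⟩

theorem adj_E {i j : Fin n} (h : i ≠ j) : adj hF (E i : Fin n → F) (E j) := by
  refine ⟨?_, ?_, ?_⟩ <;> simp only [hh_E] <;> simp [h]

omit [Fintype F] in
theorem proj_of_perp {V : Type*} [AddCommGroup V] [Module F V] {H : HermSpace F V} {l : List V}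
    {x : V} (hx : ∀ a ∈ l, H.h x a = 0) : proj H l x = x := by
  induction l with
  | nil => rfl
  | cons e l ih =>
    rw [proj, ih fun a ha => hx a (by simp [ha]), hx e (by simp), zero_div, zero_smul, sub_zero]

/-- The norm of the projection away from one more unit vector. -/
theorem norm_proj_cons {l : List (Fin n → F)} {e x : Fin n → F} (he : hh hF e e = 1)
    (hx : ∀ a ∈ l, hh hF x a = 0) :
    hh hF (proj (stdHerm hF n) (e :: l) x) (proj (stdHerm hF n) (e :: l) x) =
      hh hF x x - nm hF (hh hF x e) := by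
  rw [proj, proj_of_perp (H := stdHerm hF n) hx]
  have h : qPow hF ((stdHerm hF n).h x e) = (stdHerm hF n).h e x := (stdHerm hF n).symm' x e
  simp only [hh, nm] at he ⊢
  rw [he, div_one]
  simp only [(stdHerm hF n).sub_left, (stdHerm hF n).sub_right, (stdHerm hF n).smul_left,
    (stdHerm hF n).smul_right, conj_eq, he, ← h]
  ring

/-- A vector of given norm with given value at a non-zero isotropic vector orthogonal to a family. -/
theorem exists_value {l : List (Fin n → F)} (hl : Fam (stdHerm hF n) l) {w : Fin n → F}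
    (hw0 : w ≠ 0) (hw : hh hF w w = 0) (hwl : ∀ a ∈ l, hh hF w a = 0) {ν : F} (hν : ν ≠ 0) {c : F}
    (hc : qPow hF c = c) :
    ∃ e : Fin n → F, hh hF e e = c ∧ (∀ a ∈ l, hh hF e a = 0) ∧ hh hF e w = ν := by
  set H := stdHerm hF n
  obtain ⟨z, hz⟩ := H.exists_h_one hw0
  set z' := proj H l z
  have hzw : H.h z' w = 1 := by
    rw [show H.h z' w = H.h z w from proj_h z w fun a ha => H.h_comm_zero (hwl a ha), hz]
  obtain ⟨x, hx⟩ := H.exists_trace (c := c - nm hF ν * H.h z' z') (by
    change qPow hF _ = _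
    rw [map_sub, map_mul, nm_fixed, hc]
    congr 2
    exact H.conj_diag z')
  have hν' : qPow hF ν ≠ 0 := fun h => hν ((map_eq_zero (qPow hF)).1 h)
  refine ⟨ν • z' + (x / qPow hF ν) • w, ?_, fun a ha => ?_, ?_⟩
  · change H.h _ _ = c
    change x + qPow hF x = _ at hx
    change H.h w w = 0 at hw
    simp only [H.add_left, H.add_right, H.smul_left, H.smul_right, hzw, H.h_comm_one hzw, hw,
      show H.conj = qPow hF from rfl, map_div₀, qPow_qPow]
    field_simp
    linear_combination qPow hF ν * ν * hx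
  · show H.h _ a = 0
    rw [H.add_left, H.smul_left, H.smul_left, proj_perp hl z a ha,
      show H.h w a = 0 from hwl a ha]
    ring
  · show H.h _ w = ν
    rw [H.add_left, H.smul_left, H.smul_left, hzw, show H.h w w = 0 from hw]
    ring

/-- Connectedness of the orthogonality graph in the complement of a family. -/
theorem conn {l : List (Fin n → F)} (hl : Fam (stdHerm hF n) l)
    (hsize : l.length + 3 < n ∨ (3 ≤ q ∧ l.length + 2 < n)) (P : (Fin n → F) → Prop)
    (hP : ∀ u v, adj hF u v → (∀ a ∈ l, hh hF u a = 0) → (∀ a ∈ l, hh hF v a = 0) → P u → P v)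
    {b d : Fin n → F} (hb : hh hF b b = 1) (hd : hh hF d d = 1)
    (hbl : ∀ a ∈ l, hh hF b a = 0) (hdl : ∀ a ∈ l, hh hF d a = 0) (hPb : P b) : P d := by
  set H := stdHerm hF n with hH
  have hrk : finrank F (Fin n → F) = n := Module.finrank_fin_fun F
  have hfam : Fam H (b :: l) := ⟨by rw [show H.h b b = 1 from hb]; exact one_ne_zero, hbl, hl⟩
  have two : ∀ (u v e : Fin n → F), hh hF u u = 1 → hh hF v v = 1 → (∀ a ∈ l, hh hF u a = 0) →
      (∀ a ∈ l, hh hF v a = 0) → hh hF e e = 1 → (∀ a ∈ u :: l, hh hF e a = 0) → hh hF e v = 0 →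
      P u → P v := by
    intro u v e hu hv hul hvl he he' hev hPu
    have hel : ∀ a ∈ l, hh hF e a = 0 := fun a ha => he' a (by simp [ha])
    exact hP e v ⟨he, hv, hev⟩ hel hvl
      (hP u e ⟨hu, he, H.h_comm_zero (he' u (by simp))⟩ hul hel hPu)
  by_cases hN : H.h (proj H (b :: l) d) (proj H (b :: l) d) = 0
  swap
  · obtain ⟨e, he, he', hev⟩ := exists_unit_perp_one hfam
      (by rw [hrk]; simp only [List.length_cons]; omega) hN
    exact two b d e hb hd hbl hdl he he' hev hPb
  rcases hsize with hs | ⟨hq, hs⟩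
  · obtain ⟨e, he, he', hev⟩ := exists_unit_perp_vec hfam d
      (by rw [hrk]; simp only [List.length_cons]; omega)
    exact two b d e hb hd hbl hdl he he' hev hPb
  set w := proj H (b :: l) d with hw
  have hwperp : ∀ a ∈ b :: l, H.h w a = 0 := proj_perp hfam d
  by_cases hw0 : w = 0
  · obtain ⟨e, he, he'⟩ := exists_unit_perp hfam
      (by rw [hrk]; simp only [List.length_cons]; omega)
    refine two b d e hb hd hbl hdl he he' (H.h_comm_zero ?_) hPb
    rw [← proj_h d e fun a ha => H.h_comm_zero (he' a ha), ← hw, hw0, H.zero_left]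
  classical
  obtain ⟨A, hA, hA'⟩ := exists_fixed_notMem hF {0, 1} (lt_of_le_of_lt Finset.card_le_two (by omega))
  simp only [Finset.mem_insert, Finset.mem_singleton, not_or] at hA'
  obtain ⟨ν, hν⟩ := exists_norm_eq hF A hA
  have hν0 : ν ≠ 0 := by rintro rfl; exact hA'.1 (by rw [← hν, zero_mul])
  obtain ⟨e, he, he', hew⟩ := exists_value hF hfam hw0 hN hwperp hν0 (map_one _)
  have hel : ∀ a ∈ l, hh hF e a = 0 := fun a ha => he' a (by simp [ha])
  have hed : hh hF e d = ν := by
    have h := proj_h (H := H) (l := b :: l) d e fun a ha => H.h_comm_zero (he' a ha)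
    show H.h e d = ν
    rw [← H.symm' d e, ← h, ← hw, H.symm' w e]
    exact hew
  have hfe : Fam H (e :: l) := ⟨by rw [show H.h e e = 1 from he]; exact one_ne_zero, hel, hl⟩
  obtain ⟨f, hf, hf', hfd⟩ := exists_unit_perp_one hfe (w := d)
    (by rw [hrk]; simp only [List.length_cons]; omega) (by
      change hh hF (proj H (e :: l) d) (proj H (e :: l) d) ≠ 0
      rw [hH, norm_proj_cons hF he hdl, hd, nm_symm, hed, nm,
        show ν * qPow hF ν = A from hν]
      exact sub_ne_zero.2 (Ne.symm hA'.2))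
  have hPe : P e := hP b e ⟨hb, he, H.h_comm_zero (he' b (by simp))⟩ hbl hel hPb
  exact two e d f he hd hel hdl hf hf' hfd hPe

/-- A subgroup containing the stabiliser of `E 0` and an element moving it to an orthogonal vector. -/
theorem gen_K [NeZero n] (hsize : 4 ≤ n ∨ (3 ≤ q ∧ 3 ≤ n)) (S : Subgroup ↥(K hF n))
    (hst : MulAction.stabilizer ↥(K hF n) (E 0 : Fin n → F) ≤ S) {s : ↥(K hF n)} (hs : s ∈ S)
    (hsE : adj hF (E 0 : Fin n → F) (s • E 0)) : S = ⊤ := by
  have hE : hh hF (E 0 : Fin n → F) (E 0) = 1 := by rw [hh_E, if_pos rfl]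
  have key : ∀ u v, adj hF u v → (∀ a ∈ ([] : List (Fin n → F)), hh hF u a = 0) →
      (∀ a ∈ ([] : List (Fin n → F)), hh hF v a = 0) →
      (∃ g ∈ S, g • (E 0 : Fin n → F) = u) → ∃ g ∈ S, g • (E 0 : Fin n → F) = v := by
    rintro u v huv - - ⟨g, hg, rfl⟩
    have h1 := adj_smul hF g⁻¹ huv
    rw [inv_smul_smul] at h1
    obtain ⟨k, hk, hk'⟩ := exists_K_fix hF (l := [E 0])
      ⟨by rw [show (stdHerm hF n).h (E 0) (E 0) = 1 from hE]; exact one_ne_zero, by simp, trivial⟩
      hsE.2.1 h1.2.1
      (fun a ha => by rw [List.mem_singleton.1 ha]; exact (stdHerm hF n).h_comm_zero hsE.2.2)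
      (fun a ha => by rw [List.mem_singleton.1 ha]; exact (stdHerm hF n).h_comm_zero h1.2.2)
      (by simp; omega)
    refine ⟨g * (k * s), S.mul_mem hg (S.mul_mem (hst (MulAction.mem_stabilizer_iff.2
      (hk' _ (by simp)))) hs), ?_⟩
    rw [mul_smul, mul_smul, hk, smul_inv_smul]
  refine eq_top_iff.2 fun g _ => ?_
  have hu : hh hF (g • (E 0 : Fin n → F)) (g • E 0) = 1 := by rw [h_smul_K, hE]
  obtain ⟨g', hg', hgE⟩ : ∃ g' ∈ S, g' • (E 0 : Fin n → F) = g • E 0 :=
    conn hF (l := []) trivial (by simp only [List.length_nil]; omega) _ key hE hu (by simp)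
      (by simp) ⟨1, S.one_mem, one_smul _ _⟩
  rw [show g = g' * (g'⁻¹ * g) by group]
  refine S.mul_mem hg' (hst ?_)
  rw [MulAction.mem_stabilizer_iff, mul_smul, ← hgE, inv_smul_smul]

end CfsgLib.Phan
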