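import Mathlib

/-!
Coverings of graphs with unique lifting of edges and triangles: a criterion for injectivity, and
the gluing of a homomorphism on a point stabiliser with the image of an element moving the point.
-/

set_option autoImplicit false

namespace CfsgLib.Phan

/-- A covering of a graph, given by the neighbour map. -/
structure Cover {Vx : Type*} (adj : Vx → Vx → Prop) (X : Type*) where
  π : X → Vx
  nb : X → Vx → X
  π_nb : ∀ x v, adj (π x) v → π (nb x v) = v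
  back : ∀ x v, adj (π x) v → nb (nb x v) (π x) = x
  tri : ∀ x u v, adj (π x) u → adj (π x) v → adj u v → nb (nb x u) v = nb x v
  symm : ∀ u v, adj u v → adj v u

namespace Cover

variable {Vx X : Type*} {adj : Vx → Vx → Prop} (C : Cover adj X)

/-- All paths of length two from `a` to `c` lift to paths with the same end. -/
def Null (a c : Vx) : Prop :=
  ∀ x b d, C.π x = a → adj a b → adj b c → adj a d → adj d c →
    C.nb (C.nb x b) c = C.nb (C.nb x d) c

/-- The two lifts of the edge `u v` seen from `x` agree. -/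
def EdgeOK (x : X) (u v : Vx) : Prop :=
  ∀ w w', adj (C.π x) w → adj w u → adj (C.π x) w' → adj w' v →
    C.nb (C.nb (C.nb x w) u) v = C.nb (C.nb x w') v

/-- A common neighbour of two adjacent middle points gives the same lift. -/
theorem via_mid {x : X} {b b' c : Vx} (h1 : adj (C.π x) b) (h2 : adj b c)
    (h3 : adj (C.π x) b') (h4 : adj b' c) (hb : adj b b') :
    C.nb (C.nb x b) c = C.nb (C.nb x b') c := by
  have e1 : C.π (C.nb x b) = b := C.π_nb x b h1
  rw [← C.tri x b b' h1 h3 hb, C.tri (C.nb x b) b' c (by rw [e1]; exact hb) (by rw [e1]; exact h2) h4]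

theorem edgeOK_symm {x : X} {u v : Vx} (huv : adj u v) (h : C.EdgeOK x u v) : C.EdgeOK x v u := by
  intro w' w hw' hw'v hw hwu
  rw [← h w w' hw hwu hw' hw'v]
  have e1 : C.π (C.nb x w) = w := C.π_nb x w hw
  have e2 : C.π (C.nb (C.nb x w) u) = u := C.π_nb _ u (by rw [e1]; exact hwu)
  have := C.back (C.nb (C.nb x w) u) v (by rw [e2]; exact huv)
  rwa [e2] at this

variable (hnull : ∀ a c, C.Null a c)
include hnull

theorem edgeOK_base {x : X} {u v z : Vx} (huv : adj u v) (hz : adj (C.π x) z) (hzu : adj z u)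
    (hzv : adj z v) : C.EdgeOK x u v := by
  intro w w' hw hwu hw' hw'v
  rw [hnull _ _ x w z rfl hw hwu hz hzu, hnull _ _ x w' z rfl hw' hw'v hz hzv]
  have e1 : C.π (C.nb x z) = z := C.π_nb x z hz
  exact C.tri (C.nb x z) u v (by rw [e1]; exact hzu) (by rw [e1]; exact hzv) huv

theorem edgeOK_left {x : X} {u v w w' z : Vx} (huv : adj u v) (hw : adj (C.π x) w)
    (hwu : adj w u) (hw' : adj (C.π x) w') (hw'v : adj w' v) (hzw : adj z w) (hzv : adj z v)
    (hzw' : adj z w') : C.nb (C.nb (C.nb x w) u) v = C.nb (C.nb x w') v := by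
  have e1 : C.π (C.nb x w) = w := C.π_nb x w hw
  have e2 : C.π (C.nb (C.nb x w) z) = z := C.π_nb _ z (by rw [e1]; exact C.symm _ _ hzw)
  rw [hnull _ _ (C.nb x w) u z e1 hwu huv (C.symm _ _ hzw) hzv]
  have e3 : C.nb x w' = C.nb (C.nb (C.nb x w) (C.π x)) w' := by rw [C.back x w hw]
  rw [e3, hnull _ _ (C.nb x w) (C.π x) z e1 (C.symm _ _ hw) hw' (C.symm _ _ hzw) hzw']
  exact (C.tri _ w' v (by rw [e2]; exact hzw') (by rw [e2]; exact hzv) hw'v).symm

theorem edgeOK_mid {x : X} {u v w w' z : Vx} (huv : adj u v) (hw : adj (C.π x) w)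
    (hwu : adj w u) (hw' : adj (C.π x) w') (hw'v : adj w' v) (hzu : adj z u) (hzp : adj (C.π x) z)
    (hzw' : adj z w') : C.nb (C.nb (C.nb x w) u) v = C.nb (C.nb x w') v := by
  have e1 : C.π (C.nb x z) = z := C.π_nb x z hzp
  rw [hnull _ _ x w z rfl hw hwu hzp hzu, ← C.tri x z w' hzp hw' hzw']
  exact hnull _ _ (C.nb x z) u w' e1 hzu huv hzw' hw'v

omit hnull in
/-- The points reachable from `x₀`. -/
inductive Reach (x₀ : X) : X → Prop
  | base : Reach x₀ x₀
  | step {x : X} (v : Vx) : Reach x₀ x → adj (C.π x) v → Reach x₀ (C.nb x v)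

omit hnull in
theorem injective (x₀ : X) (hd : ∀ y, ∃ w, adj (C.π x₀) w ∧ adj w (C.π y))
    (hedge : ∀ u v, adj u v → C.EdgeOK x₀ u v) (hreach : ∀ x, C.Reach x₀ x) :
    Function.Injective C.π := by
  have key : ∀ x, ∀ w, adj (C.π x₀) w → adj w (C.π x) → C.nb (C.nb x₀ w) (C.π x) = x := by
    intro x
    induction hreach x with
    | base =>
      intro w hw _
      exact C.back x₀ w hw
    | @step y v hy hv ih =>
      intro w' hw' hw'v
      rw [C.π_nb y v hv] at hw'v ⊢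
      obtain ⟨w, hw, hwy⟩ := hd y
      rw [← hedge (C.π y) v hv w w' hw hwy hw' hw'v, ih w hw hwy]
  intro x y hxy
  obtain ⟨w, hw, hwx⟩ := hd x
  rw [← key x w hw hwx, hxy, key y w hw (hxy ▸ hwx)]

end Cover

/-! ### The covering attached to a homomorphism of a point stabiliser -/

/-- The data for gluing: a homomorphism on a point stabiliser and the image of an element `s`. -/
structure Glue (Hg G Vx : Type*) [Group Hg] [Group G] [MulAction Hg Vx] where
  adj : Vx → Vx → Prop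
  adj_symm : ∀ u v, adj u v → adj v u
  adj_smul : ∀ (g : Hg) u v, adj u v → adj (g • u) (g • v)
  p : Vx
  s : Hg
  σ : G
  φ : ↥(MulAction.stabilizer Hg p) →* G
  adj_s : adj p (s • p)
  comm : ∀ x : ↥(MulAction.stabilizer Hg p), (x : Hg) • (s • p) = s • p →
    (x : Hg) * s = s * x ∧ φ x * σ = σ * φ x
  rev : ∃ k k' : ↥(MulAction.stabilizer Hg p), s⁻¹ = k * s * k' ∧ σ⁻¹ = φ k * σ * φ k'
  trans_nb : ∀ v, adj p v → ∃ k : ↥(MulAction.stabilizer Hg p), (k : Hg) • (s • p) = v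
  triangle : ∀ w, adj p w → adj (s • p) w → ∃ k k₁ k₂ : ↥(MulAction.stabilizer Hg p),
    (s * k * s) • p = w ∧ s * k * s = k₁ * s * k₂ ∧ σ * φ k * σ = φ k₁ * σ * φ k₂

namespace Glue

variable {Hg G Vx : Type*} [Group Hg] [Group G] [MulAction Hg Vx] (Q : Glue Hg G Vx)

/-- The graph of the homomorphism on the stabiliser. -/
def graph : Subgroup (Hg × G) :=
  ((MulAction.stabilizer Hg Q.p).subtype.prod Q.φ).range

/-- The group generated by the graph and `(s, σ)`. -/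
def R : Subgroup (Hg × G) := Subgroup.closure ((Q.graph : Set (Hg × G)) ∪ {(Q.s, Q.σ)})

/-- Element of the graph, inside `R`. -/
def inK (k : ↥(MulAction.stabilizer Hg Q.p)) : ↥Q.R :=
  ⟨((k : Hg), Q.φ k), Subgroup.subset_closure (Or.inl ⟨k, rfl⟩)⟩

/-- The element `(s, σ)` of `R`. -/
def sR : ↥Q.R := ⟨(Q.s, Q.σ), Subgroup.subset_closure (Or.inr rfl)⟩

/-- The graph, as a subgroup of `R`. -/
def KR : Subgroup ↥Q.R := Q.graph.subgroupOf Q.R

/-- The points of the covering. -/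
abbrev Pt : Type _ := ↥Q.R ⧸ Q.KR

/-- The base point. -/
def x₀ : Q.Pt := QuotientGroup.mk 1

theorem inK_mul (k k' : ↥(MulAction.stabilizer Hg Q.p)) :
    Q.inK (k * k') = Q.inK k * Q.inK k' := by
  apply Subtype.ext
  exact Prod.ext rfl (map_mul Q.φ k k')

theorem inK_inv (k : ↥(MulAction.stabilizer Hg Q.p)) : Q.inK k⁻¹ = (Q.inK k)⁻¹ := by
  apply Subtype.ext
  exact Prod.ext rfl (map_inv Q.φ k)

theorem inK_mem (k : ↥(MulAction.stabilizer Hg Q.p)) : Q.inK k ∈ Q.KR := ⟨k, rfl⟩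

theorem mem_KR {r : ↥Q.R} : r ∈ Q.KR ↔ ∃ k, Q.inK k = r :=
  ⟨fun ⟨k, hk⟩ => ⟨k, Subtype.ext hk⟩, fun ⟨k, hk⟩ => hk ▸ Q.inK_mem k⟩

theorem mk_mul_inK (r : ↥Q.R) (k : ↥(MulAction.stabilizer Hg Q.p)) :
    (QuotientGroup.mk (r * Q.inK k) : Q.Pt) = QuotientGroup.mk r :=
  QuotientGroup.mk_mul_of_mem r (Q.inK_mem k)

/-- The projection to the graph. -/
def proj : Q.Pt → Vx :=
  Quotient.lift (fun r : ↥Q.R => r.1.1 • Q.p) (by
    intro a b h
    rw [← Quotient.eq_iff_equiv] at h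
    obtain ⟨k, hk⟩ := Q.mem_KR.1 (QuotientGroup.eq.1 h)
    have e : b = a * Q.inK k := by rw [hk]; group
    subst e
    show a.1.1 • Q.p = (a.1.1 * (k : Hg)) • Q.p
    rw [mul_smul, MulAction.mem_stabilizer_iff.1 k.2])

@[simp] theorem proj_mk (r : ↥Q.R) : Q.proj (QuotientGroup.mk r) = r.1.1 • Q.p := rfl

theorem proj_smul (r : ↥Q.R) (x : Q.Pt) : Q.proj (r • x) = r.1.1 • Q.proj x := by
  induction x using QuotientGroup.induction_on with
  | H a => exact mul_smul r.1.1 a.1.1 Q.p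

open Classical in
/-- The neighbour map. -/
noncomputable def nbr (x : Q.Pt) (v : Vx) : Q.Pt :=
  if h : ∃ k : ↥(MulAction.stabilizer Hg Q.p), ((Quotient.out x).1.1 * k * Q.s) • Q.p = v then
    QuotientGroup.mk (Quotient.out x * Q.inK h.choose * Q.sR) else x

theorem comm' {x : ↥(MulAction.stabilizer Hg Q.p)} (hx : (x : Hg) • (Q.s • Q.p) = Q.s • Q.p) :
    Q.inK x * Q.sR = Q.sR * Q.inK x := by
  obtain ⟨h1, h2⟩ := Q.comm x hx
  exact Subtype.ext (Prod.ext h1 h2)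

theorem nbr_mk (r : ↥Q.R) (k : ↥(MulAction.stabilizer Hg Q.p)) :
    Q.nbr (QuotientGroup.mk r) ((r.1.1 * k * Q.s) • Q.p) =
      QuotientGroup.mk (r * Q.inK k * Q.sR) := by
  set o : ↥Q.R := Quotient.out (QuotientGroup.mk r : Q.Pt) with hodef
  obtain ⟨j, hj⟩ := Q.mem_KR.1 (QuotientGroup.eq.1
    (show (QuotientGroup.mk o : Q.Pt) = QuotientGroup.mk r from QuotientGroup.out_eq' _))
  have hr : r = o * Q.inK j := by rw [hj]; group
  have hex : ∃ k' : ↥(MulAction.stabilizer Hg Q.p),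
      (o.1.1 * k' * Q.s) • Q.p = (r.1.1 * k * Q.s) • Q.p :=
    ⟨j * k, by rw [hr]; simp [inK, mul_assoc]⟩
  unfold nbr
  rw [dif_pos hex]
  set k' := hex.choose with hk'
  have hspec := hex.choose_spec
  rw [← hk'] at hspec
  have hfix : ((k'⁻¹ * (j * k) : ↥(MulAction.stabilizer Hg Q.p)) : Hg) • (Q.s • Q.p) = Q.s • Q.p := by
    rw [hr] at hspec
    simp only [inK, Subgroup.coe_mul, Prod.fst_mul, mul_smul] at hspec
    rw [smul_left_cancel_iff] at hspec
    simp only [Subgroup.coe_mul, Subgroup.coe_inv, mul_smul, ← hspec, inv_smul_smul]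
  have e : r * Q.inK k * Q.sR = o * Q.inK k' * Q.sR * Q.inK (k'⁻¹ * (j * k)) := by
    rw [mul_assoc (o * Q.inK k'), ← Q.comm' hfix, hr]
    simp only [Q.inK_mul, Q.inK_inv]
    group
  show (QuotientGroup.mk (o * Q.inK k' * Q.sR) : Q.Pt) = _
  rw [e, Q.mk_mul_inK]

theorem exists_nbr (r : ↥Q.R) {v : Vx} (hv : Q.adj (r.1.1 • Q.p) v) :
    ∃ k : ↥(MulAction.stabilizer Hg Q.p), (r.1.1 * k * Q.s) • Q.p = v := by
  obtain ⟨k, hk⟩ := Q.trans_nb (r.1.1⁻¹ • v) (by
    have := Q.adj_smul r.1.1⁻¹ _ _ hv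
    rwa [inv_smul_smul] at this)
  exact ⟨k, by rw [mul_smul, mul_smul, hk, smul_inv_smul]⟩

theorem nbr_smul (r : ↥Q.R) (x : Q.Pt) {v : Vx} (hv : Q.adj (Q.proj x) v) :
    r • Q.nbr x v = Q.nbr (r • x) (r.1.1 • v) := by
  induction x using QuotientGroup.induction_on with
  | H a =>
    obtain ⟨k, hk⟩ := Q.exists_nbr a hv
    have e : r.1.1 • v = ((r * a : ↥Q.R).1.1 * k * Q.s) • Q.p := by
      rw [← hk, ← mul_smul]; simp [mul_assoc]
    rw [e, ← hk, Q.nbr_mk]
    show (QuotientGroup.mk (r * (a * Q.inK k * Q.sR)) : Q.Pt) =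
      Q.nbr (QuotientGroup.mk (r * a)) _
    rw [Q.nbr_mk]
    simp [mul_assoc]

theorem nbr_base (k : ↥(MulAction.stabilizer Hg Q.p)) :
    Q.nbr Q.x₀ ((k : Hg) • (Q.s • Q.p)) = QuotientGroup.mk (Q.inK k * Q.sR) := by
  have := Q.nbr_mk 1 k
  simpa [x₀, mul_smul] using this

theorem proj_nbr (x : Q.Pt) (v : Vx) (hv : Q.adj (Q.proj x) v) : Q.proj (Q.nbr x v) = v := by
  induction x using QuotientGroup.induction_on with
  | H a =>
    obtain ⟨k, hk⟩ := Q.exists_nbr a hv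
    rw [← hk, Q.nbr_mk]
    simp [inK, sR, mul_assoc]

theorem back_mk (x : Q.Pt) (v : Vx) (hv : Q.adj (Q.proj x) v) :
    Q.nbr (Q.nbr x v) (Q.proj x) = x := by
  induction x using QuotientGroup.induction_on with
  | H a =>
    obtain ⟨k, hk⟩ := Q.exists_nbr a hv
    obtain ⟨j, j', h1, h2⟩ := Q.rev
    have hs : Q.sR⁻¹ = Q.inK j * Q.sR * Q.inK j' := Subtype.ext (Prod.ext h1 h2)
    have e : Q.proj (QuotientGroup.mk a) =
        ((a * Q.inK k * Q.sR : ↥Q.R).1.1 * j * Q.s) • Q.p := by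
      have h3 : Q.sR * Q.inK j * Q.sR = (Q.inK j')⁻¹ := by
        have := congrArg (fun z => Q.sR * z) hs
        simp only [mul_inv_cancel] at this
        rw [eq_inv_iff_mul_eq_one, this]
        group
      have h4 : ((a * Q.inK k * Q.sR : ↥Q.R).1.1 * j * Q.s) =
          (a * Q.inK (k * j'⁻¹) : ↥Q.R).1.1 := by
        rw [Q.inK_mul, Q.inK_inv, ← h3]
        simp [inK, sR, mul_assoc]
      rw [h4, ← Q.mk_mul_inK a (k * j'⁻¹), Q.proj_mk]
    rw [← hk, Q.nbr_mk, e, Q.nbr_mk]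
    have h3 : Q.sR * Q.inK j * Q.sR = (Q.inK j')⁻¹ := by
      have := congrArg (fun z => Q.sR * z) hs
      simp only [mul_inv_cancel] at this
      rw [eq_inv_iff_mul_eq_one, this]
      group
    rw [show a * Q.inK k * Q.sR * Q.inK j * Q.sR = a * Q.inK (k * j'⁻¹) by
      rw [Q.inK_mul, Q.inK_inv, ← h3]; group, Q.mk_mul_inK]

theorem tri_base {w : Vx} (h1 : Q.adj Q.p w) (h2 : Q.adj (Q.s • Q.p) w) :
    Q.nbr (QuotientGroup.mk Q.sR) w = Q.nbr Q.x₀ w := by
  obtain ⟨k, k₁, k₂, hw, h3, h4⟩ := Q.triangle w h1 h2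
  have e : Q.sR * Q.inK k * Q.sR = Q.inK k₁ * Q.sR * Q.inK k₂ := Subtype.ext (Prod.ext h3 h4)
  have hw' : ((k₁ : Hg) • (Q.s • Q.p)) = w := by
    rw [← hw, h3, mul_smul, MulAction.mem_stabilizer_iff.1 k₂.2, mul_smul]
  have e1 := Q.nbr_mk Q.sR k
  rw [show (Q.sR.1.1 * (k : Hg) * Q.s) • Q.p = w from hw] at e1
  rw [e1, e, Q.mk_mul_inK, ← hw', Q.nbr_base]

theorem tri_mk (x : Q.Pt) (u v : Vx) (hu : Q.adj (Q.proj x) u) (hv : Q.adj (Q.proj x) v)
    (huv : Q.adj u v) : Q.nbr (Q.nbr x u) v = Q.nbr x v := by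
  induction x using QuotientGroup.induction_on with
  | H a =>
    obtain ⟨k, hk⟩ := Q.exists_nbr a hu
    set r : ↥Q.R := a * Q.inK k with hr
    have hx : (QuotientGroup.mk a : Q.Pt) = r • Q.x₀ := by
      show _ = (QuotientGroup.mk (r * 1) : Q.Pt)
      rw [mul_one, Q.mk_mul_inK]
    have hp : r.1.1 • Q.p = a.1.1 • Q.p := by
      simpa [Q.proj_smul, x₀] using (congrArg Q.proj hx).symm
    have h1 : Q.adj Q.p (r.1.1⁻¹ • v) := by
      have := Q.adj_smul r.1.1⁻¹ _ _ hv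
      rwa [Q.proj_mk, ← hp, inv_smul_smul] at this
    have hu' : r.1.1⁻¹ • u = Q.s • Q.p := by
      rw [← hk, inv_smul_eq_iff, ← mul_smul]; simp [r, inK]
    have h2 : Q.adj (Q.s • Q.p) (r.1.1⁻¹ • v) := hu' ▸ Q.adj_smul r.1.1⁻¹ _ _ huv
    have hp0 : Q.proj Q.x₀ = Q.p := by simp [x₀]
    have e1 : Q.nbr (QuotientGroup.mk a) u = r • QuotientGroup.mk Q.sR := by
      rw [← hk, Q.nbr_mk]; rfl
    have e2 : Q.nbr (QuotientGroup.mk a) v = r • Q.nbr Q.x₀ (r.1.1⁻¹ • v) := by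
      rw [Q.nbr_smul r Q.x₀ (by rw [hp0]; exact h1), smul_inv_smul, ← hx]
    rw [e1, e2, ← Q.tri_base h1 h2,
      Q.nbr_smul r (QuotientGroup.mk Q.sR) (show Q.adj (Q.proj (QuotientGroup.mk Q.sR)) _ from h2),
      smul_inv_smul]

/-- The covering. -/
noncomputable def cover : Cover Q.adj Q.Pt where
  π := Q.proj
  nb := Q.nbr
  π_nb := Q.proj_nbr
  back := Q.back_mk
  tri := Q.tri_mk
  symm := Q.adj_symm

theorem reach (x : Q.Pt) : Q.cover.Reach Q.x₀ x := by
  let M : Set ↥Q.R := {r | ∀ x, Q.cover.Reach Q.x₀ x → Q.cover.Reach Q.x₀ (r • x)}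
  have hlift : ∀ r : ↥Q.R, Q.cover.Reach Q.x₀ (r • Q.x₀) → r ∈ M := by
    intro r hr x hx
    induction hx with
    | base => exact hr
    | @step y v hy hv ih =>
      have hv' : Q.adj (Q.proj y) v := hv
      show Q.cover.Reach Q.x₀ (r • Q.nbr y v)
      rw [Q.nbr_smul r y hv']
      exact Cover.Reach.step _ ih (by
        show Q.adj (Q.proj (r • y)) _
        rw [Q.proj_smul]; exact Q.adj_smul _ _ _ hv')
  have hK : ∀ k, Q.inK k ∈ M := fun k => hlift _ (by
    rw [show Q.inK k • Q.x₀ = Q.x₀ by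
      show (QuotientGroup.mk (Q.inK k * 1) : Q.Pt) = QuotientGroup.mk 1
      rw [mul_one]; simpa using Q.mk_mul_inK 1 k]
    exact Cover.Reach.base)
  have hadj : Q.adj (Q.proj Q.x₀) (Q.s • Q.p) := by
    rw [show Q.proj Q.x₀ = Q.p by simp [x₀]]; exact Q.adj_s
  have hS : Q.sR ∈ M := hlift _ (by
    have h0 : Q.sR • Q.x₀ = Q.nbr Q.x₀ (Q.s • Q.p) := by
      have := Q.nbr_base 1
      rw [OneMemClass.coe_one, one_smul] at this
      rw [this]
      show (QuotientGroup.mk (Q.sR * 1) : Q.Pt) = _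
      rw [mul_one, show Q.inK 1 = 1 from Subtype.ext (Prod.ext rfl (map_one Q.φ)), one_mul]
    rw [h0]
    exact Cover.Reach.step (C := Q.cover) _ Cover.Reach.base hadj)
  have hmul : ∀ a ∈ M, ∀ b ∈ M, a * b ∈ M := fun a ha b hb x hx => by
    rw [mul_smul]; exact ha _ (hb _ hx)
  have hSinv : Q.sR⁻¹ ∈ M := by
    obtain ⟨j, j', h1, h2⟩ := Q.rev
    rw [show Q.sR⁻¹ = Q.inK j * Q.sR * Q.inK j' from Subtype.ext (Prod.ext h1 h2)]
    exact hmul _ (hmul _ (hK j) _ hS) _ (hK j')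
  have hall : ∀ (g : Hg × G) (hg : g ∈ Q.R), (⟨g, hg⟩ : ↥Q.R) ∈ M ∧ (⟨g, hg⟩ : ↥Q.R)⁻¹ ∈ M := by
    intro g hg
    induction hg using Subgroup.closure_induction with
    | mem g hg =>
      rcases hg with ⟨k, rfl⟩ | rfl
      · exact ⟨hK k, by
          have := hK k⁻¹
          rw [Q.inK_inv] at this
          exact this⟩
      · exact ⟨hS, hSinv⟩
    | one => exact ⟨fun x hx => by rwa [show (⟨1, _⟩ : ↥Q.R) = 1 from rfl, one_smul],
        fun x hx => by rwa [show (⟨1, _⟩ : ↥Q.R) = 1 from rfl, inv_one, one_smul]⟩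
    | mul a b ha hb iha ihb =>
      exact ⟨hmul _ iha.1 _ ihb.1, by
        rw [show (⟨a * b, _⟩ : ↥Q.R) = ⟨a, ha⟩ * ⟨b, hb⟩ from rfl, mul_inv_rev]
        exact hmul _ ihb.2 _ iha.2⟩
    | inv a ha iha =>
      exact ⟨iha.2, by
        rw [show (⟨a⁻¹, _⟩ : ↥Q.R) = (⟨a, ha⟩ : ↥Q.R)⁻¹ from rfl, inv_inv]; exact iha.1⟩
  induction x using QuotientGroup.induction_on with
  | H a =>
    have := (hall a.1 a.2).1 _ Cover.Reach.base
    simpa [x₀] using this

/-- An injective covering gives the glued homomorphism. -/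
theorem exists_hom (hinj : Function.Injective Q.proj)
    (hgen : Subgroup.closure ((MulAction.stabilizer Hg Q.p : Set Hg) ∪ {Q.s}) = ⊤) :
    ∃ Φ : Hg →* G, (∀ k : ↥(MulAction.stabilizer Hg Q.p), Φ k = Q.φ k) ∧ Φ Q.s = Q.σ := by
  let f : ↥Q.R →* Hg := (MonoidHom.fst Hg G).comp Q.R.subtype
  have hfinj : Function.Injective f := by
    rw [← MonoidHom.ker_eq_bot_iff, eq_bot_iff]
    intro r hr
    have hr1 : r.1.1 = 1 := hr
    have h1 : (QuotientGroup.mk r : Q.Pt) = QuotientGroup.mk 1 :=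
      hinj (by simp [hr1])
    obtain ⟨k, hk⟩ := Q.mem_KR.1 (by simpa using QuotientGroup.eq.1 h1.symm)
    have hk1 : k = 1 := Subtype.ext (by
      have := congrArg (fun z : ↥Q.R => z.1.1) hk
      simpa [inK, hr1] using this)
    rw [Subgroup.mem_bot, ← hk, hk1]
    exact Subtype.ext (Prod.ext rfl (map_one Q.φ))
  have hfsurj : Function.Surjective f := by
    intro h
    have hh : h ∈ Subgroup.closure ((MulAction.stabilizer Hg Q.p : Set Hg) ∪ {Q.s}) := by
      rw [hgen]; trivial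
    have : Subgroup.closure ((MulAction.stabilizer Hg Q.p : Set Hg) ∪ {Q.s}) ≤ f.range := by
      rw [Subgroup.closure_le]
      rintro g (hg | rfl)
      · exact ⟨Q.inK ⟨g, hg⟩, rfl⟩
      · exact ⟨Q.sR, rfl⟩
    exact MonoidHom.mem_range.1 (this hh)
  let e : ↥Q.R ≃* Hg := MulEquiv.ofBijective f ⟨hfinj, hfsurj⟩
  refine ⟨((MonoidHom.snd Hg G).comp Q.R.subtype).comp e.symm.toMonoidHom, fun k => ?_, ?_⟩
  · show (e.symm (k : Hg)).1.2 = _
    rw [show e.symm (k : Hg) = Q.inK k from e.symm_apply_apply (Q.inK k)]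
    rfl
  · show (e.symm Q.s).1.2 = _
    rw [show e.symm Q.s = Q.sR from e.symm_apply_apply Q.sR]
    rfl

end Glue

end CfsgLib.Phan
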