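import Cfsg.Agent.Lib.Phan.Conn
import Cfsg.Agent.Lib.Phan.Cover

/-!
Gluing data for unitary groups: a homomorphism of the group of the last coordinates and one of the
group of the first few coordinates, and the covering of the orthogonality graph they define.
-/

set_option autoImplicit false
set_option maxHeartbeats 800000
set_option synthInstance.maxHeartbeats 100000

namespace CfsgLib.Phan

open Module CfsgLib.Classical.Herm HermSpace

variable {F : Type*} [Field F] [Fintype F] {q : ℕ} (hF : Fintype.card F = q ^ 2)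

omit [Fintype F] in
theorem ext0_injective {a n : ℕ} (e : Fin a ↪ Fin n) :
    Function.Injective (ext0 (F := F) e) := fun x y h => funext fun i => by
  rw [← ext0_apply e x i, h, ext0_apply]

omit [Fintype F] in
theorem E_apply_ne {n : ℕ} {i j : Fin n} (h : j ≠ i) : (E i : Fin n → F) j = 0 := by
  rw [E, Pi.single_eq_of_ne h]

/-- An element fixing the coordinate subspace of an embedded group commutes with it. -/
theorem commute_of_fix {a n : ℕ} (e : Fin a ↪ Fin n) (g' : ↥(K hF a)) {g : ↥(K hF n)}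
    (hg : ∀ i, g • (E (e i) : Fin n → F) = E (e i)) : Commute g (emb hF e g') := by
  have hfix : ∀ v : Fin a → F, g • ext0 e v = ext0 e v := by
    intro v
    have hsum : ext0 e v = ∑ i, (v i) • (E (e i) : Fin n → F) := by
      funext j
      rw [Finset.sum_apply]
      by_cases hj : ∃ i, e i = j
      · obtain ⟨k, rfl⟩ := hj
        rw [ext0_apply, Finset.sum_eq_single k]
        · simp [E]
        · intro i _ hi; rw [Pi.smul_apply, E_apply_ne (e.injective.ne hi.symm), smul_zero]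
        · simp
      · push Not at hj
        rw [ext0_off e _ hj, Finset.sum_eq_zero]
        intro i _; rw [Pi.smul_apply, E_apply_ne (hj i).symm, smul_zero]
    conv_lhs => rw [hsum]
    conv_rhs => rw [hsum]
    rw [smul_def, map_sum]
    exact Finset.sum_congr rfl fun i _ => by rw [← smul_def, smul_smul_K, hg]
  refine K_ext hF fun x => ?_
  set x1 : Fin n → F := ext0 e fun i => x (e i)
  have h2 : ∀ i, (x - x1) (e i) = 0 := fun i => by simp [x1, ext0_apply]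
  have h3 : ∀ i, (g • (x - x1)) (e i) = 0 := fun i => by
    rw [apply_eq_zero_of_fix hF (hg i), h2]
  rw [mul_smul, mul_smul, show x = x1 + (x - x1) by abel, smul_add_K, smul_add_K, emb_ext0,
    emb_fix hF e g' h2, smul_add_K, hfix, hfix, smul_add_K, emb_ext0, emb_fix hF e g' h3]

/-- Gluing data. -/
structure Datum (G : Type*) [Group G] (m t : ℕ) where
  hm : 3 ≤ m
  ht : 2 ≤ t
  htm : t ≤ m
  hgen : 4 ≤ t + 1 ∨ 3 ≤ q
  φ : ↥(K hF m) →* G
  f : ↥(K hF (t + 1)) →* G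
  compat : ∀ x : ↥(K hF t),
    f (emb hF (Fin.succEmb t) x) = φ (emb hF (Fin.castLEEmb htm) x)
  comm : ∀ (u : ↥(K hF 2)) (x : ↥(K hF m)),
    x • (E ⟨0, by omega⟩ : Fin m → F) = E ⟨0, by omega⟩ →
      Commute (f (emb hF (Fin.castLEEmb (by omega)) u)) (φ x)

namespace Datum

variable {hF} {G : Type*} [Group G] {m t : ℕ} (D : Datum hF G m t)

/-- The first few coordinates. -/
def iE : Fin (t + 1) ↪ Fin (m + 1) := Fin.castLEEmb (Nat.succ_le_succ D.htm)

theorem exists_s2 : ∃ g : ↥(K hF 2), g • (E 0 : Fin 2 → F) = E 1 := by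
  obtain ⟨g, hg⟩ := exists_K_map hF (l := [(E 0 : Fin 2 → F)]) (l' := [E 1])
    ⟨by rw [hh_E, if_pos rfl], by simp, trivial⟩ ⟨by rw [hh_E, if_pos rfl], by simp, trivial⟩ rfl
    (by simp)
  exact ⟨g, by simpa using hg⟩

/-- The element moving `E 0` to `E 1`, in the small group. -/
noncomputable def sr : ↥(K hF (t + 1)) :=
  emb hF (Fin.castLEEmb (have := D.ht; by omega)) (exists_s2 (hF := hF)).choose

theorem sr_E0 : D.sr • (E 0 : Fin (t + 1) → F) = E ⟨1, have := D.ht; by omega⟩ := by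
  have h : (E 0 : Fin (t + 1) → F) =
      ext0 (Fin.castLEEmb (n := 2) (have := D.ht; by omega : 2 ≤ t + 1)) (E 0) := by
    rw [ext0_E]; rfl
  rw [sr, h, emb_ext0, (exists_s2 (hF := hF)).choose_spec, ext0_E]
  rfl

theorem sr_E2 (i : Fin (t + 1)) (hi : 2 ≤ (i : ℕ)) : D.sr • (E i : Fin (t + 1) → F) = E i := by
  refine emb_fix hF _ _ fun k => ?_
  rw [E_apply_ne]
  intro h
  have h' := congrArg (fun z : Fin (t + 1) => (z : ℕ)) h
  simp only [Fin.coe_castLEEmb, Fin.val_castLE] at h'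
  omega

/-- The element moving `E 0` to `E 1`. -/
noncomputable def s : ↥(K hF (m + 1)) := emb hF D.iE D.sr

theorem iE_E (i : Fin (t + 1)) :
    ext0 D.iE (E i : Fin (t + 1) → F) =
      (E ⟨i, lt_of_lt_of_le i.2 (Nat.succ_le_succ D.htm)⟩ : Fin (m + 1) → F) := by
  rw [ext0_E]; rfl

theorem s_E0 : D.s • (E 0 : Fin (m + 1) → F) = E ⟨1, have := D.hm; by omega⟩ := by
  have h : (E 0 : Fin (m + 1) → F) = ext0 D.iE (E 0) := by rw [iE_E]; rfl
  rw [s, h, emb_ext0, sr_E0, iE_E]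

theorem mem_stab_succ (x : ↥(K hF m)) :
    emb hF (Fin.succEmb m) x ∈ MulAction.stabilizer ↥(K hF (m + 1)) (E 0 : Fin (m + 1) → F) :=
  emb_fix hF _ _ fun i => E_apply_ne (Fin.succ_ne_zero i)

theorem exists_of_stab {k : ℕ} {g : ↥(K hF (k + 1))} (hg : g • (E 0 : Fin (k + 1) → F) = E 0) :
    ∃ x, emb hF (Fin.succEmb k) x = g := by
  refine exists_emb hF _ g fun j hj => ?_
  obtain rfl : j = 0 := by
    by_contra h
    obtain ⟨i, rfl⟩ := Fin.exists_succ_eq.2 h
    exact hj i rfl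
  exact hg

/-- The group of the last coordinates as the point stabiliser. -/
noncomputable def tailEquiv :
    ↥(K hF m) ≃* ↥(MulAction.stabilizer ↥(K hF (m + 1)) (E 0 : Fin (m + 1) → F)) :=
  MulEquiv.ofBijective
    ((emb hF (Fin.succEmb m)).codRestrict _ (mem_stab_succ (hF := hF)))
    ⟨fun _ _ h => emb_injective hF _ (congrArg Subtype.val h),
     fun k => (exists_of_stab k.2).elim fun x hx => ⟨x, Subtype.ext hx⟩⟩

/-- The homomorphism on the point stabiliser. -/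
noncomputable def φ0 :
    ↥(MulAction.stabilizer ↥(K hF (m + 1)) (E 0 : Fin (m + 1) → F)) →* G :=
  D.φ.comp (tailEquiv (hF := hF) (m := m)).symm.toMonoidHom

theorem φ0_eq {k : ↥(MulAction.stabilizer ↥(K hF (m + 1)) (E 0 : Fin (m + 1) → F))}
    {x : ↥(K hF m)} (h : emb hF (Fin.succEmb m) x = k) : D.φ0 k = D.φ x := by
  show D.φ ((tailEquiv (hF := hF) (m := m)).symm k) = _
  congr 1
  rw [MulEquiv.symm_apply_eq]
  exact Subtype.ext h.symm

theorem exists_lift {gr : ↥(K hF (t + 1))} (h : gr • (E 0 : Fin (t + 1) → F) = E 0) :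
    ∃ k : ↥(MulAction.stabilizer ↥(K hF (m + 1)) (E 0 : Fin (m + 1) → F)),
      (k : ↥(K hF (m + 1))) = emb hF D.iE gr ∧ D.φ0 k = D.f gr := by
  obtain ⟨x, rfl⟩ := exists_of_stab h
  refine ⟨⟨_, mem_stab_succ (emb hF (Fin.castLEEmb D.htm) x)⟩, ?_, ?_⟩
  · show emb hF (Fin.succEmb m) (emb hF (Fin.castLEEmb D.htm) x) = _
    rw [emb_comp, emb_comp]
    exact emb_congr hF (fun i => Fin.ext rfl) x
  · rw [D.φ0_eq rfl, D.compat]

theorem comm0 {x : ↥(MulAction.stabilizer ↥(K hF (m + 1)) (E 0 : Fin (m + 1) → F))}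
    (hx : (x : ↥(K hF (m + 1))) • (E ⟨1, have := D.hm; by omega⟩ : Fin (m + 1) → F) =
      E ⟨1, have := D.hm; by omega⟩) (u : ↥(K hF 2)) :
    Commute (x : ↥(K hF (m + 1)))
        (emb hF D.iE (emb hF (Fin.castLEEmb (have := D.ht; by omega)) u)) ∧
      Commute (D.φ0 x) (D.f (emb hF (Fin.castLEEmb (have := D.ht; by omega)) u)) := by
  constructor
  · rw [emb_comp]
    refine commute_of_fix hF _ _ fun i => ?_
    fin_cases i
    · exact x.2
    · exact hx
  · obtain ⟨x', hx'⟩ := exists_of_stab x.2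
    rw [D.φ0_eq hx']
    refine (D.comm u x' ?_).symm
    apply ext0_injective (Fin.succEmb m)
    rw [← emb_ext0 hF, hx', ext0_E]
    exact hx

theorem on_E {n : ℕ} {i : Fin n} : hh hF (E i : Fin n → F) (E i) = 1 := by rw [hh_E, if_pos rfl]

theorem E01 {n : ℕ} {i j : Fin n} (h : (i : ℕ) ≠ (j : ℕ)) : hh hF (E i : Fin n → F) (E j) = 0 :=
  (adj_E hF fun e => h (by rw [e])).2.2

theorem rev_aux : ∃ j j' : ↥(MulAction.stabilizer ↥(K hF (m + 1)) (E 0 : Fin (m + 1) → F)),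
    D.s⁻¹ = j * D.s * j' ∧ (D.f D.sr)⁻¹ = D.φ0 j * D.f D.sr * D.φ0 j' := by
  have ht := D.ht
  have h1 : adj hF (E 0 : Fin (t + 1) → F) (E ⟨1, by omega⟩) :=
    adj_E hF fun h => by simpa using congrArg Fin.val h
  have h2 : adj hF (D.sr⁻¹ • (E 0 : Fin (t + 1) → F)) (E 0) := by
    have := adj_smul hF D.sr⁻¹ h1
    rwa [← D.sr_E0, inv_smul_smul] at this
  obtain ⟨k, hk, hk'⟩ := exists_K_fix hF (l := [(E 0 : Fin (t + 1) → F)])
    (ON.fam hF ⟨on_E, by simp, trivial⟩) h1.2.1 h2.1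
    (fun a ha => by rw [List.mem_singleton.1 ha]; exact (adj_symm hF h1).2.2)
    (fun a ha => by rw [List.mem_singleton.1 ha]; exact h2.2.2) (by simp; omega)
  obtain ⟨j, hj, hjf⟩ := D.exists_lift (hk' (E 0) (by simp))
  obtain ⟨j', hj', hjf'⟩ := D.exists_lift (gr := (k * D.sr)⁻¹ * D.sr⁻¹) (by
    rw [mul_smul, inv_smul_eq_iff, mul_smul, D.sr_E0, hk])
  have e : D.sr⁻¹ = k * D.sr * ((k * D.sr)⁻¹ * D.sr⁻¹) := by group
  refine ⟨j, j', ?_, ?_⟩
  · rw [hj, hj', s, ← map_inv, ← map_mul, ← map_mul, ← e]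
  · rw [hjf, hjf', ← map_inv, ← map_mul, ← map_mul, ← e]

theorem trans_aux {v : Fin (m + 1) → F} (hv : adj hF (E 0 : Fin (m + 1) → F) v) :
    ∃ k : ↥(MulAction.stabilizer ↥(K hF (m + 1)) (E 0 : Fin (m + 1) → F)),
      (k : ↥(K hF (m + 1))) • (D.s • (E 0 : Fin (m + 1) → F)) = v := by
  have hm := D.hm
  obtain ⟨k, hk, hk'⟩ := exists_K_fix hF (l := [(E 0 : Fin (m + 1) → F)])
    (u := E ⟨1, by omega⟩) (ON.fam hF ⟨on_E, by simp, trivial⟩) on_E hv.2.1
    (fun a ha => by rw [List.mem_singleton.1 ha]; exact E01 (by simp))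
    (fun a ha => by rw [List.mem_singleton.1 ha]; exact (adj_symm hF hv).2.2)
    (by simp; omega)
  refine ⟨⟨k, MulAction.mem_stabilizer_iff.2 (hk' _ (by simp))⟩, ?_⟩
  rw [D.s_E0]
  exact hk

theorem exists_turn (ht : 2 ≤ t) : ∃ kr : ↥(K hF (t + 1)),
    kr • (E 0 : Fin (t + 1) → F) = E 0 ∧
      kr • (E ⟨1, by omega⟩ : Fin (t + 1) → F) = E ⟨2, by omega⟩ := by
  obtain ⟨kr, hkr, hkr'⟩ := exists_K_fix hF (l := [(E 0 : Fin (t + 1) → F)])
    (u := E ⟨1, by omega⟩) (v := E ⟨2, by omega⟩) (ON.fam hF ⟨on_E, by simp, trivial⟩) on_E on_E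
    (fun a ha => by rw [List.mem_singleton.1 ha]; exact E01 (by simp))
    (fun a ha => by rw [List.mem_singleton.1 ha]; exact E01 (by simp))
    (by simp; omega)
  exact ⟨kr, hkr' _ (by simp), hkr⟩

theorem tri_turn : ∃ j j₂ : ↥(MulAction.stabilizer ↥(K hF (m + 1)) (E 0 : Fin (m + 1) → F)),
    (D.s * j * D.s) • (E 0 : Fin (m + 1) → F) = E ⟨2, have := D.hm; by omega⟩ ∧
      D.s * j * D.s = j * D.s * j₂ ∧
      D.f D.sr * D.φ0 j * D.f D.sr = D.φ0 j * D.f D.sr * D.φ0 j₂ := by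
  have ht := D.ht
  obtain ⟨kr, hk0, hk1⟩ := exists_turn (hF := hF) ht
  have hsks : (D.sr * kr * D.sr) • (E 0 : Fin (t + 1) → F) = E ⟨2, by omega⟩ := by
    rw [mul_smul, mul_smul, D.sr_E0, hk1, D.sr_E2 _ le_rfl]
  obtain ⟨j, hj, hjf⟩ := D.exists_lift hk0
  obtain ⟨j₂, hj₂, hjf₂⟩ := D.exists_lift (gr := (kr * D.sr)⁻¹ * (D.sr * kr * D.sr)) (by
    rw [mul_smul, hsks, inv_smul_eq_iff, mul_smul, D.sr_E0, hk1])
  have e : D.sr * kr * D.sr = kr * D.sr * ((kr * D.sr)⁻¹ * (D.sr * kr * D.sr)) := by group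
  refine ⟨j, j₂, ?_, ?_, ?_⟩
  · have h : (E 0 : Fin (m + 1) → F) = ext0 D.iE (E 0) := by rw [iE_E]; rfl
    rw [hj, s, ← map_mul, ← map_mul, h, emb_ext0, hsks, iE_E]
  · rw [hj, hj₂, s, ← map_mul, ← map_mul, ← map_mul, ← map_mul, ← e]
  · rw [hjf, hjf₂, ← map_mul, ← map_mul, ← map_mul, ← map_mul, ← e]

theorem triangle_aux {w : Fin (m + 1) → F} (hw : adj hF (E 0 : Fin (m + 1) → F) w)
    (hw' : adj hF (D.s • (E 0 : Fin (m + 1) → F)) w) : ∃ k k₁ k₂ : ↥(MulAction.stabilizer ↥(K hF (m + 1)) (E 0 : Fin (m + 1) → F)),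
    (D.s * k * D.s) • (E 0 : Fin (m + 1) → F) = w ∧ D.s * k * D.s = k₁ * D.s * k₂ ∧
      D.f D.sr * D.φ0 k * D.f D.sr = D.φ0 k₁ * D.f D.sr * D.φ0 k₂ := by
  have hm := D.hm
  rw [D.s_E0] at hw'
  obtain ⟨j, j₂, h1, h2, h3⟩ := D.tri_turn
  obtain ⟨x, hx, hx'⟩ := exists_K_fix hF
    (l := [(E 0 : Fin (m + 1) → F), E ⟨1, by omega⟩]) (u := E ⟨2, by omega⟩) (v := w)
    (ON.fam hF ⟨on_E, fun a ha => by rw [List.mem_singleton.1 ha]; exact E01 (by simp),
      on_E, by simp, trivial⟩) on_E hw.2.1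
    (fun a ha => by
      simp only [List.mem_cons, List.not_mem_nil, or_false] at ha
      rcases ha with rfl | rfl <;> exact E01 (by simp))
    (fun a ha => by
      simp only [List.mem_cons, List.not_mem_nil, or_false] at ha
      rcases ha with rfl | rfl
      · exact (adj_symm hF hw).2.2
      · exact (adj_symm hF hw').2.2)
    (by simp; omega)
  obtain ⟨y, hy⟩ : ∃ y : ↥(MulAction.stabilizer ↥(K hF (m + 1)) (E 0 : Fin (m + 1) → F)), (y : ↥(K hF (m + 1))) = x :=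
    ⟨⟨x, MulAction.mem_stabilizer_iff.2 (hx' _ (by simp))⟩, rfl⟩
  obtain ⟨c1, c2⟩ := D.comm0 (x := y) (by rw [hy]; exact hx' _ (by simp))
    (exists_s2 (hF := hF)).choose
  have c1' : D.s * (y : ↥(K hF (m + 1))) = y * D.s := c1.eq.symm
  have c2' : D.f D.sr * D.φ0 y = D.φ0 y * D.f D.sr := c2.eq.symm
  refine ⟨y * j, y * j, j₂, ?_, ?_, ?_⟩
  · rw [Subgroup.coe_mul, ← mul_assoc, c1', mul_assoc (y : ↥(K hF (m + 1))),
      mul_assoc (y : ↥(K hF (m + 1))), mul_smul, h1, hy]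
    exact hx
  · rw [Subgroup.coe_mul, ← mul_assoc, c1', mul_assoc (y : ↥(K hF (m + 1))),
      mul_assoc (y : ↥(K hF (m + 1))), h2]
    simp only [mul_assoc]
  · rw [map_mul, ← mul_assoc, c2', mul_assoc (D.φ0 y), mul_assoc (D.φ0 y), h3]
    simp only [mul_assoc]

/-- The gluing datum of the covering. -/
noncomputable def glue : Glue ↥(K hF (m + 1)) G (Fin (m + 1) → F) where
  adj := adj hF
  adj_symm _ _ := adj_symm hF
  adj_smul g _ _ := adj_smul hF g
  p := E 0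
  s := D.s
  σ := D.f D.sr
  φ := D.φ0
  adj_s := by
    rw [D.s_E0]
    exact adj_E hF fun h => by simpa using congrArg Fin.val h
  comm x hx := by
    rw [D.s_E0] at hx
    exact ⟨(D.comm0 hx (exists_s2 (hF := hF)).choose).1, (D.comm0 hx (exists_s2 (hF := hF)).choose).2⟩
  rev := D.rev_aux
  trans_nb _ hv := D.trans_aux hv
  triangle _ hw hw' := D.triangle_aux hw hw'

/-- Elements of the small group lie in the generated group. -/
theorem graph_mem (gr : ↥(K hF (t + 1))) :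
    (emb hF D.iE gr, D.f gr) ∈ D.glue.R := by
  let S : Subgroup ↥(K hF (t + 1)) := D.glue.R.comap ((emb hF D.iE).prod D.f)
  have hS : S = ⊤ := by
    refine gen_K hF (by have := D.ht; rcases D.hgen with h | h <;> omega) S (fun g hg => ?_)
      (s := D.sr) ?_ ?_
    · obtain ⟨k, hk, hkf⟩ := D.exists_lift hg
      exact Subgroup.mem_comap.2 (Subgroup.subset_closure (Or.inl ⟨k, Prod.ext hk hkf⟩))
    · exact Subgroup.mem_comap.2 (Subgroup.subset_closure (Or.inr rfl))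
    · rw [D.sr_E0]
      exact adj_E hF fun h => by simpa using congrArg Fin.val h
  have : gr ∈ S := by rw [hS]; trivial
  exact this

/-- The element of `R` given by an element of the small group. -/
noncomputable def inF (gr : ↥(K hF (t + 1))) : ↥D.glue.R := ⟨_, D.graph_mem gr⟩

theorem inF_fix {gr k : ↥(K hF (t + 1))} (hk : k • (E 0 : Fin (t + 1) → F) = E 0)
    (hgr : gr • (k • (E ⟨1, have := D.ht; by omega⟩ : Fin (t + 1) → F)) = k • E ⟨1, have := D.ht; by omega⟩) :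
    D.inF gr • D.glue.nbr D.glue.x₀ (ext0 D.iE (k • (E ⟨1, have := D.ht; by omega⟩ : Fin (t + 1) → F))) =
      D.glue.nbr D.glue.x₀ (ext0 D.iE (k • (E ⟨1, have := D.ht; by omega⟩ : Fin (t + 1) → F))) := by
  obtain ⟨j, hj, hjf⟩ := D.exists_lift hk
  have h1 : ext0 D.iE (k • (E ⟨1, have := D.ht; by omega⟩ : Fin (t + 1) → F)) =
      (j : ↥(K hF (m + 1))) • (D.glue.s • D.glue.p) := by
    show _ = (j : ↥(K hF (m + 1))) • (D.s • (E 0 : Fin (m + 1) → F))
    rw [D.s_E0, hj, ← emb_ext0 hF, iE_E]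
  rw [h1]
  erw [D.glue.nbr_base j]
  obtain ⟨i, hi, hif⟩ := D.exists_lift (gr := (k * D.sr)⁻¹ * gr * (k * D.sr)) (by
    rw [mul_smul, mul_smul k, D.sr_E0, mul_smul, hgr, inv_smul_eq_iff, mul_smul, D.sr_E0])
  have hri : D.inF gr * (D.glue.inK j * D.glue.sR) = D.glue.inK j * D.glue.sR * D.glue.inK i := by
    refine Subtype.ext (Prod.ext ?_ ?_)
    · show emb hF D.iE gr * ((j : ↥(K hF (m + 1))) * D.s) = (j : ↥(K hF (m + 1))) * D.s * i
      rw [hi, hj, s, ← map_mul, ← map_mul, ← map_mul]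
      congr 1; group
    · show D.f gr * (D.φ0 j * D.f D.sr) = D.φ0 j * D.f D.sr * D.φ0 i
      rw [hif, hjf, ← map_mul, ← map_mul, ← map_mul]
      congr 1; group
  show (QuotientGroup.mk (D.inF gr * (D.glue.inK j * D.glue.sR)) : D.glue.Pt) = _
  rw [hri]
  exact D.glue.mk_mul_inK _ i

end Datum

end CfsgLib.Phan
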