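import Cfsg.Agent.Lib.Phan.Perp

/-!
Embeddings of unitary groups of coordinate subspaces, and the action of special unitary groups on
unit vectors.
-/

set_option autoImplicit false

namespace CfsgLib.Phan

open Module CfsgLib.Classical.Herm HermSpace

variable {F : Type*} [Field F] [Fintype F] {q : ℕ} (hF : Fintype.card F = q ^ 2)

/-- The special unitary group of the standard space, as linear maps. -/
noncomputable abbrev K (n : ℕ) : Subgroup (Unit' (stdHerm hF n)) := (detHom (stdHerm hF n)).ker

/-- The action on vectors. -/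
noncomputable instance (priority := high) actK (n : ℕ) : MulAction ↥(K hF n) (Fin n → F) where
  smul g x := g.1.1 x
  one_smul _ := rfl
  mul_smul _ _ _ := rfl

theorem smul_def {n : ℕ} (g : ↥(K hF n)) (x : Fin n → F) : g • x = g.1.1 x := rfl

theorem K_ext {n : ℕ} {g g' : ↥(K hF n)} (h : ∀ x : Fin n → F, g • x = g' • x) : g = g' :=
  Subtype.ext (unit_ext h)

/-- The Hermitian form. -/
abbrev hh {n : ℕ} (x y : Fin n → F) : F := (stdHerm hF n).h x y

theorem h_smul_K {n : ℕ} (g : ↥(K hF n)) (x y : Fin n → F) : hh hF (g • x) (g • y) = hh hF x y :=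
  unit_h g.1 x y

theorem smul_add_K {n : ℕ} (g : ↥(K hF n)) (x y : Fin n → F) : g • (x + y) = g • x + g • y :=
  map_add g.1.1 x y

theorem smul_smul_K {n : ℕ} (g : ↥(K hF n)) (c : F) (x : Fin n → F) : g • (c • x) = c • g • x :=
  map_smul g.1.1 c x

variable {a b n : ℕ}

/-- Extension by zero along an embedding of coordinates. -/
noncomputable def ext0 (e : Fin a ↪ Fin n) (x : Fin a → F) : Fin n → F := Function.extend e x 0

omit [Fintype F] in
theorem ext0_apply (e : Fin a ↪ Fin n) (x : Fin a → F) (i : Fin a) : ext0 e x (e i) = x i :=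
  e.injective.extend_apply x 0 i

omit [Fintype F] in
theorem ext0_off (e : Fin a ↪ Fin n) (x : Fin a → F) {j : Fin n} (hj : ∀ i, e i ≠ j) :
    ext0 e x j = 0 := by
  rw [ext0, Function.extend_apply' _ _ _ (fun ⟨i, hi⟩ => hj i hi)]
  rfl

/-- The underlying map of the embedded element. -/
noncomputable def embFun (e : Fin a ↪ Fin n) (g : Unit' (stdHerm hF a)) (x : Fin n → F) : Fin n → F :=
  x + ext0 e (g.1 (fun i => x (e i)) - fun i => x (e i))

theorem embFun_in (e : Fin a ↪ Fin n) (g : Unit' (stdHerm hF a)) (x : Fin n → F) (i : Fin a) :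
    embFun hF e g x (e i) = g.1 (fun i => x (e i)) i := by
  simp [embFun, ext0_apply]

theorem embFun_off (e : Fin a ↪ Fin n) (g : Unit' (stdHerm hF a)) (x : Fin n → F) {j : Fin n}
    (hj : ∀ i, e i ≠ j) : embFun hF e g x j = x j := by
  simp [embFun, ext0_off e _ hj]

theorem embFun_mul (e : Fin a ↪ Fin n) (g g' : Unit' (stdHerm hF a)) (x : Fin n → F) :
    embFun hF e (g * g') x = embFun hF e g (embFun hF e g' x) := by
  funext j
  by_cases hj : ∃ i, e i = j
  · obtain ⟨i, rfl⟩ := hj
    rw [embFun_in, embFun_in, mul_apply,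
      show (fun k => embFun hF e g' x (e k)) = g'.1 fun k => x (e k) from
        funext (embFun_in hF e g' x)]
  · push Not at hj
    rw [embFun_off hF e _ _ hj, embFun_off hF e _ _ hj, embFun_off hF e _ _ hj]

theorem embFun_one (e : Fin a ↪ Fin n) (x : Fin n → F) : embFun hF e 1 x = x := by
  funext j
  by_cases hj : ∃ i, e i = j
  · obtain ⟨i, rfl⟩ := hj
    rw [embFun_in]; rfl
  · push Not at hj
    rw [embFun_off hF e _ _ hj]

theorem embFun_add (e : Fin a ↪ Fin n) (g : Unit' (stdHerm hF a)) (x y : Fin n → F) :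
    embFun hF e g (x + y) = embFun hF e g x + embFun hF e g y := by
  funext j
  by_cases hj : ∃ i, e i = j
  · obtain ⟨i, rfl⟩ := hj
    rw [Pi.add_apply, embFun_in, embFun_in, embFun_in,
      show (fun i => (x + y) (e i)) = (fun i => x (e i)) + fun i => y (e i) from rfl, map_add,
      Pi.add_apply]
  · push Not at hj
    simp [embFun_off hF e _ _ hj]

theorem embFun_smul (e : Fin a ↪ Fin n) (g : Unit' (stdHerm hF a)) (c : F) (x : Fin n → F) :
    embFun hF e g (c • x) = c • embFun hF e g x := by
  funext j
  by_cases hj : ∃ i, e i = j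
  · obtain ⟨i, rfl⟩ := hj
    rw [Pi.smul_apply, embFun_in, embFun_in,
      show (fun i => (c • x) (e i)) = c • fun i => x (e i) from rfl, map_smul, Pi.smul_apply]
  · push Not at hj
    simp [embFun_off hF e _ _ hj]

theorem hh_split (e : Fin a ↪ Fin n) (x y : Fin n → F) :
    hh hF x y = hh hF (fun i => x (e i)) (fun i => y (e i)) +
      ∑ j ∈ (Finset.univ.map e)ᶜ, x j * y j ^ q := by
  simp only [hh, stdHerm_h, Cfsg.hermForm]
  rw [← Finset.sum_add_sum_compl (Finset.univ.map e), Finset.sum_map]

/-- The embedding of unitary groups. -/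
noncomputable def embU (e : Fin a ↪ Fin n) : Unit' (stdHerm hF a) →* Unit' (stdHerm hF n) where
  toFun g :=
    ⟨{ toFun := embFun hF e g
       invFun := embFun hF e g⁻¹
       map_add' := embFun_add hF e g
       map_smul' := embFun_smul hF e g
       left_inv := fun x => by rw [← embFun_mul, inv_mul_cancel, embFun_one]
       right_inv := fun x => by rw [← embFun_mul, mul_inv_cancel, embFun_one] },
     fun x y => by
      show hh hF (embFun hF e g x) (embFun hF e g y) = hh hF x y
      rw [hh_split hF e, hh_split hF e x y]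
      congr 1
      · rw [show (fun i => embFun hF e g x (e i)) = g.1 (fun i => x (e i)) from
            funext (embFun_in hF e g x),
          show (fun i => embFun hF e g y (e i)) = g.1 (fun i => y (e i)) from
            funext (embFun_in hF e g y)]
        exact unit_h g _ _
      · refine Finset.sum_congr rfl fun j hj => ?_
        have hj' : ∀ i, e i ≠ j := fun i h => by simp [← h] at hj
        rw [embFun_off hF e g x hj', embFun_off hF e g y hj']⟩
  map_one' := unit_ext fun x => embFun_one hF e x
  map_mul' g g' := unit_ext fun x => embFun_mul hF e g g' x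

theorem embU_apply (e : Fin a ↪ Fin n) (g : Unit' (stdHerm hF a)) (x : Fin n → F) :
    (embU hF e g).1 x = embFun hF e g x := rfl

theorem hh_ext0 (e : Fin a ↪ Fin n) (x y : Fin a → F) : hh hF (ext0 e x) (ext0 e y) = hh hF x y := by
  rw [hh_split hF e, show (fun i => ext0 e x (e i)) = x from funext (ext0_apply e x),
    show (fun i => ext0 e y (e i)) = y from funext (ext0_apply e y), Finset.sum_eq_zero, add_zero]
  intro j hj
  rw [ext0_off e x (fun i h => by simp [← h] at hj), zero_mul]

theorem hh_ext0_right (e : Fin a ↪ Fin n) (x : Fin n → F) (y : Fin a → F) :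
    hh hF x (ext0 e y) = hh hF (fun i => x (e i)) y := by
  have hq : q ≠ 0 := by have := two_le_of_card hF; omega
  rw [hh_split hF e, show (fun i => ext0 e y (e i)) = y from funext (ext0_apply e y),
    Finset.sum_eq_zero, add_zero]
  intro j hj
  rw [ext0_off e y (fun i h => by simp [← h] at hj), zero_pow hq, mul_zero]

theorem embU_shear (e : Fin a ↪ Fin n) {v : Fin a → F} {c : F}
    (hc : ShearCond (stdHerm hF a) v c) :
    embU hF e (shear _ v c hc) = shear (stdHerm hF n) (ext0 e v) c (by
      unfold ShearCond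
      rw [show (stdHerm hF n).h (ext0 e v) (ext0 e v) = hh hF v v from hh_ext0 hF e v v]
      exact hc) := by
  refine unit_ext fun x => ?_
  rw [embU_apply, shear_apply,
    show (stdHerm hF n).h x (ext0 e v) = hh hF (fun i => x (e i)) v from hh_ext0_right hF e x v]
  funext j
  by_cases hj : ∃ i, e i = j
  · obtain ⟨i, rfl⟩ := hj
    rw [embFun_in, shear_apply]
    simp [ext0_apply, hh]
  · push Not at hj
    rw [embFun_off hF e _ _ hj]
    simp [ext0_off e _ hj]

theorem detHom_embU (e : Fin a ↪ Fin n) :
    (detHom (stdHerm hF n)).comp (embU hF e) = detHom (stdHerm hF a) := by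
  refine MonoidHom.eq_of_eqOn_dense closure_shear ?_
  rintro g ⟨v, c, hc, rfl⟩
  apply Units.ext
  rw [MonoidHom.comp_apply, embU_shear, detHom_shear, detHom_shear,
    show (stdHerm hF n).h (ext0 e v) (ext0 e v) = hh hF v v from hh_ext0 hF e v v]

/-- The embedding of special unitary groups. -/
noncomputable def emb (e : Fin a ↪ Fin n) : ↥(K hF a) →* ↥(K hF n) where
  toFun g := ⟨embU hF e g.1, by
    rw [MonoidHom.mem_ker]
    exact (DFunLike.congr_fun (detHom_embU hF e) g.1).trans g.2⟩
  map_one' := Subtype.ext (map_one (embU hF e))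
  map_mul' g g' := Subtype.ext (map_mul (embU hF e) g.1 g'.1)

theorem emb_in (e : Fin a ↪ Fin n) (g : ↥(K hF a)) (x : Fin n → F) (i : Fin a) :
    (emb hF e g • x) (e i) = (g • fun i => x (e i)) i := embFun_in hF e g.1 x i

theorem emb_off (e : Fin a ↪ Fin n) (g : ↥(K hF a)) (x : Fin n → F) {j : Fin n}
    (hj : ∀ i, e i ≠ j) : (emb hF e g • x) j = x j := embFun_off hF e g.1 x hj

theorem emb_ext0 (e : Fin a ↪ Fin n) (g : ↥(K hF a)) (v : Fin a → F) :
    emb hF e g • ext0 e v = ext0 e (g • v) := by
  funext j
  by_cases hj : ∃ i, e i = j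
  · obtain ⟨i, rfl⟩ := hj
    rw [emb_in, show (fun i => ext0 e v (e i)) = v from funext (ext0_apply e v), ext0_apply]
  · push Not at hj
    rw [emb_off hF e g _ hj, ext0_off e _ hj, ext0_off e _ hj]

theorem emb_fix (e : Fin a ↪ Fin n) (g : ↥(K hF a)) {x : Fin n → F} (hx : ∀ i, x (e i) = 0) :
    emb hF e g • x = x := by
  funext j
  by_cases hj : ∃ i, e i = j
  · obtain ⟨i, rfl⟩ := hj
    rw [emb_in, show (fun i => x (e i)) = 0 from funext hx, hx i]
    exact congrFun (map_zero g.1.1) i
  · push Not at hj
    rw [emb_off hF e g _ hj]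

theorem emb_injective (e : Fin a ↪ Fin n) : Function.Injective (emb hF e) := by
  intro g g' h
  refine K_ext hF fun v => funext fun i => ?_
  rw [← ext0_apply e (g • v) i, ← ext0_apply e (g' • v) i, ← emb_ext0 hF, ← emb_ext0 hF, h]

theorem emb_comp {m : ℕ} (e : Fin a ↪ Fin b) (e' : Fin b ↪ Fin m) (g : ↥(K hF a)) :
    emb hF e' (emb hF e g) = emb hF (e.trans e') g := by
  refine K_ext hF fun x => funext fun j => ?_
  by_cases hj : ∃ i, e' i = j
  · obtain ⟨i, rfl⟩ := hj
    rw [emb_in]
    by_cases hi : ∃ k, e k = i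
    · obtain ⟨k, rfl⟩ := hi
      rw [emb_in, show e' (e k) = (e.trans e') k from rfl, emb_in]
      rfl
    · push Not at hi
      rw [emb_off hF e g _ hi, emb_off hF]
      intro k hk
      exact hi k (e'.injective hk)
  · push Not at hj
    rw [emb_off hF e' _ _ hj, emb_off hF]
    intro k hk
    exact hj (e k) hk

theorem emb_congr {e e' : Fin a ↪ Fin n} (h : ∀ i, e i = e' i) (g : ↥(K hF a)) :
    emb hF e g = emb hF e' g := by
  rw [Function.Embedding.ext h]

theorem emb_refl {e : Fin n ↪ Fin n} (h : ∀ i, e i = i) (g : ↥(K hF n)) : emb hF e g = g := by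
  refine K_ext hF fun x => funext fun j => ?_
  have := emb_in hF e g x j
  simp only [h] at this
  exact this

theorem emb_commute (e : Fin a ↪ Fin n) (e' : Fin b ↪ Fin n) (hd : ∀ i k, e i ≠ e' k)
    (g : ↥(K hF a)) (g' : ↥(K hF b)) : emb hF e g * emb hF e' g' = emb hF e' g' * emb hF e g := by
  refine K_ext hF fun x => funext fun j => ?_
  rw [mul_smul, mul_smul]
  by_cases hj : ∃ i, e i = j
  · obtain ⟨i, rfl⟩ := hj
    rw [emb_off hF e' g' (emb hF e g • x) (fun k => (hd i k).symm), emb_in, emb_in,
      show (fun k => (emb hF e' g' • x) (e k)) = fun k => x (e k) from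
        funext fun k => emb_off hF e' g' x (fun l => (hd k l).symm)]
  · push Not at hj
    by_cases hj' : ∃ k, e' k = j
    · obtain ⟨k, rfl⟩ := hj'
      rw [emb_off hF e g (emb hF e' g' • x) hj, emb_in, emb_in,
        show (fun l => (emb hF e g • x) (e' l)) = fun l => x (e' l) from
          funext fun l => emb_off hF e g x (fun i => hd i l)]
    · push Not at hj'
      rw [emb_off hF e g _ hj, emb_off hF e' g' _ hj', emb_off hF e' g' _ hj', emb_off hF e g _ hj]

/-- The standard basis vectors. -/
def E (i : Fin n) : Fin n → F := Pi.single i 1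

theorem hh_E_left (i : Fin n) (x : Fin n → F) : hh hF (E i) x = x i ^ q := by
  simp only [hh, stdHerm_h, Cfsg.hermForm, E]
  rw [Finset.sum_eq_single i]
  · simp
  · intro j _ hj; simp [hj]
  · simp

theorem hh_E (i j : Fin n) : hh hF (E i) (E j : Fin n → F) = if i = j then 1 else 0 := by
  have hq : q ≠ 0 := by have := two_le_of_card hF; omega
  rw [hh_E_left]
  by_cases h : i = j
  · simp [E, h]
  · simp [E, h, zero_pow hq]

omit [Fintype F] in
theorem ext0_E (e : Fin a ↪ Fin n) (i : Fin a) : ext0 e (E i : Fin a → F) = E (e i) := by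
  funext j
  by_cases hj : ∃ k, e k = j
  · obtain ⟨k, rfl⟩ := hj
    rw [ext0_apply]
    by_cases h : k = i
    · simp [E, h]
    · simp [E, Pi.single_eq_of_ne h, Pi.single_eq_of_ne (e.injective.ne h)]
  · push Not at hj
    rw [ext0_off e _ hj, E, Pi.single_eq_of_ne (hj i).symm]

theorem apply_eq_zero_of_fix {g : ↥(K hF n)} {j : Fin n} (hg : g • (E j : Fin n → F) = E j)
    (x : Fin n → F) : (g • x) j = x j := by
  have h := h_smul_K hF g (E j) x
  rw [hg, hh_E_left, hh_E_left] at h
  have h' := congrArg (qPow hF) h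
  rw [← qPow_apply hF, ← qPow_apply hF, qPow_qPow, qPow_qPow] at h'
  exact h'

/-- An element fixing all basis vectors outside the image comes from the embedded group. -/
theorem exists_emb (e : Fin a ↪ Fin n) (g : ↥(K hF n))
    (hg : ∀ j, (∀ i, e i ≠ j) → g • (E j : Fin n → F) = E j) : ∃ g', emb hF e g' = g := by
  have hsupp : ∀ (k : ↥(K hF n)), (∀ j, (∀ i, e i ≠ j) → k • (E j : Fin n → F) = E j) →
      ∀ v : Fin a → F, ext0 e (fun i => (k • ext0 e v) (e i)) = k • ext0 e v := by
    intro k hk v
    funext j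
    by_cases hj : ∃ i, e i = j
    · obtain ⟨i, rfl⟩ := hj
      rw [ext0_apply]
    · push Not at hj
      rw [ext0_off e _ hj, apply_eq_zero_of_fix hF (hk j hj), ext0_off e _ hj]
  have hg' : ∀ j, (∀ i, e i ≠ j) → g⁻¹ • (E j : Fin n → F) = E j := fun j hj => by
    conv_lhs => rw [← hg j hj]
    rw [inv_smul_smul]
  let T : Unit' (stdHerm hF a) :=
    ⟨{ toFun := fun v i => (g • ext0 e v) (e i)
       invFun := fun v i => (g⁻¹ • ext0 e v) (e i)
       map_add' := fun x y => by
        funext i
        rw [show ext0 e (x + y) = ext0 e x + (ext0 e y : Fin n → F) by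
          funext j
          by_cases hj : ∃ i, e i = j
          · obtain ⟨i, rfl⟩ := hj; simp [ext0_apply]
          · push Not at hj; simp [ext0_off e _ hj], smul_add_K]
        rfl
       map_smul' := fun c x => by
        funext i
        rw [show ext0 e (c • x) = c • (ext0 e x : Fin n → F) by
          funext j
          by_cases hj : ∃ i, e i = j
          · obtain ⟨i, rfl⟩ := hj; simp [ext0_apply]
          · push Not at hj; simp [ext0_off e _ hj], smul_smul_K]
        rfl
       left_inv := fun v => by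
        funext i
        show (g⁻¹ • ext0 e (fun i => (g • ext0 e v) (e i))) (e i) = v i
        rw [hsupp g hg, inv_smul_smul, ext0_apply]
       right_inv := fun v => by
        funext i
        show (g • ext0 e (fun i => (g⁻¹ • ext0 e v) (e i))) (e i) = v i
        rw [hsupp g⁻¹ hg', smul_inv_smul, ext0_apply] },
     fun x y => by
      show hh hF (fun i => (g • ext0 e x) (e i)) (fun i => (g • ext0 e y) (e i)) = hh hF x y
      rw [← hh_ext0 hF e, hsupp g hg, hsupp g hg, h_smul_K, hh_ext0]⟩
  have hT : embU hF e T = g.1 := by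
    refine unit_ext fun x => funext fun j => ?_
    rw [embU_apply]
    by_cases hj : ∃ i, e i = j
    · obtain ⟨i, rfl⟩ := hj
      rw [embFun_in]
      show (g • ext0 e (fun i => x (e i))) (e i) = (g • x) (e i)
      set x1 : Fin n → F := ext0 e (fun i => x (e i)) with hx1
      have hd : g • (x - x1) = x - x1 := by
        have hfix : ∀ j, g • (((x - x1) j) • (E j : Fin n → F)) = ((x - x1) j) • E j := by
          intro j
          by_cases hj : ∃ i, e i = j
          · obtain ⟨i, rfl⟩ := hj
            rw [show (x - x1) (e i) = 0 by simp [x1, ext0_apply], zero_smul]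
            exact map_zero g.1.1
          · push Not at hj
            rw [smul_smul_K, hg j hj]
        have hsum : x - x1 = ∑ j, ((x - x1) j) • (E j : Fin n → F) := by
          simpa [E] using pi_eq_sum_univ' (x - x1)
        conv_lhs => rw [hsum]
        rw [smul_def, map_sum]
        conv_rhs => rw [hsum]
        exact Finset.sum_congr rfl fun j _ => hfix j
      have hx : g • x = g • x1 + (x - x1) := by
        rw [← hd, ← smul_add_K, add_sub_cancel]
      rw [hx]
      simp [x1, ext0_apply]
    · push Not at hj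
      rw [embFun_off hF e _ _ hj]
      exact (apply_eq_zero_of_fix hF (hg j hj) x).symm
  refine ⟨⟨T, ?_⟩, Subtype.ext hT⟩
  rw [MonoidHom.mem_ker, ← DFunLike.congr_fun (detHom_embU hF e) T, MonoidHom.comp_apply, hT]
  exact g.2

theorem det_norm (g : Unit' (stdHerm hF n)) :
    (detHom (stdHerm hF n) g : F) * (stdHerm hF n).conj (detHom (stdHerm hF n) g : F) = 1 := by
  have h := detHom_normOne hF n g
  rw [MonoidHom.mem_ker, powMonoidHom_apply] at h
  rw [stdHerm_conj, ← pow_succ', ← Units.val_pow_eq_pow_val, h, Units.val_one]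

theorem exists_K_fix {l : List (Fin n → F)} (hl : Fam (stdHerm hF n) l) {u v : Fin n → F}
    (hu : hh hF u u = 1) (hv : hh hF v v = 1) (hul : ∀ a ∈ l, hh hF u a = 0)
    (hvl : ∀ a ∈ l, hh hF v a = 0) (hk : l.length + 1 < n) :
    ∃ g : ↥(K hF n), g • u = v ∧ ∀ a ∈ l, g • a = a := by
  obtain ⟨g, hg, hgu, hga⟩ := exists_map_fix hl hu hv hul hvl (by simpa using hk) (det_norm hF)
  exact ⟨⟨g, hg⟩, hgu, hga⟩

/-- Orthonormal lists. -/
def ON : List (Fin n → F) → Prop
  | [] => True
  | e :: l => hh hF e e = 1 ∧ (∀ a ∈ l, hh hF e a = 0) ∧ ON l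

theorem ON.fam {l : List (Fin n → F)} (hl : ON hF l) : Fam (stdHerm hF n) l := by
  induction l with
  | nil => trivial
  | cons e l ih => exact ⟨by rw [show (stdHerm hF n).h e e = 1 from hl.1]; exact one_ne_zero, hl.2.1, ih hl.2.2⟩

/-- Special unitary groups act transitively on short orthonormal lists. -/
theorem exists_K_map : ∀ {l l' : List (Fin n → F)}, ON hF l → ON hF l' → l.length = l'.length →
    l.length < n → ∃ g : ↥(K hF n), l.map (g • ·) = l' := by
  intro l
  induction l with
  | nil =>
    intro l' _ _ hlen _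
    exact ⟨1, by simpa using (List.length_eq_zero_iff.1 hlen.symm).symm⟩
  | cons u l ih =>
    intro l' hl hl' hlen hn
    match l' with
    | [] => simp at hlen
    | v :: m =>
      simp only [List.length_cons, Nat.succ.injEq] at hlen hn
      obtain ⟨g, hg⟩ := ih hl.2.2 hl'.2.2 hlen (by omega)
      obtain ⟨k, hk, hkm⟩ := exists_K_fix hF (ON.fam hF hl'.2.2) (u := g • u) (v := v)
        (by rw [h_smul_K]; exact hl.1) hl'.1 (by
          intro a ha
          rw [← hg, List.mem_map] at ha
          obtain ⟨b, hb, rfl⟩ := ha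
          show hh hF (g • u) (g • b) = 0
          rw [h_smul_K]; exact hl.2.1 b hb) hl'.2.1 (by rw [← hlen]; omega)
      refine ⟨k * g, ?_⟩
      rw [List.map_cons, mul_smul, hk, List.cons.injEq]
      refine ⟨rfl, ?_⟩
      rw [← hg, List.map_inj_left]
      intro b hb
      show (k * g) • b = g • b
      rw [mul_smul]
      exact hkm _ (by rw [← hg]; exact List.mem_map.2 ⟨b, hb, rfl⟩)

end CfsgLib.Phan
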