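import Cfsg.Agent.Lib.Phan.ThreeLifts

/-!
Normal forms for commuting involutions in the four-dimensional special unitary group.
-/

set_option autoImplicit false
set_option maxHeartbeats 800000
set_option synthInstance.maxHeartbeats 100000

namespace CfsgLib.Phan

open Module CfsgLib.Classical.Herm HermSpace
open scoped Matrix

variable {F : Type*} [Field F] [Fintype F] {q : ℕ} {hF : Fintype.card F = q ^ 2} {n : ℕ}

/-- Entries of embedded elements. -/
theorem mat_emb {a : ℕ} (e : Fin a ↪ Fin n) (g : ↥(K hF a)) (i j : Fin a) :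
    mat hF (emb hF e g) (e i) (e j) = mat hF g i j := by
  rw [mat_apply, mat_apply, ← ext0_E e j, emb_ext0, ext0_apply]

/-- The action of a diagonal element. -/
theorem smul_of_diagonal {g : ↥(K hF n)} {t : Fin n → F} (ht : mat hF g = Matrix.diagonal t)
    (v : Fin n → F) : g • v = fun i => t i * v i := by
  rw [← mulVec_mat, ht]
  funext i
  exact Matrix.mulVec_diagonal t v i

/-- Embedded diagonal elements are diagonal. -/
theorem mat_emb_diag {a : ℕ} (e : Fin a ↪ Fin n) {g : ↥(K hF a)} {t : Fin a → F}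
    (ht : mat hF g = Matrix.diagonal t) {t' : Fin n → F} (h1 : ∀ i, t' (e i) = t i)
    (h2 : ∀ j, (∀ i, e i ≠ j) → t' j = 1) : mat hF (emb hF e g) = Matrix.diagonal t' := by
  ext i j
  rw [mat_apply, Matrix.diagonal_apply]
  by_cases hi : ∃ l, e l = i
  · obtain ⟨l, rfl⟩ := hi
    rw [emb_in, smul_of_diagonal ht]
    by_cases h : e l = j
    · subst h; simp [E, h1]
    · simp [E, Pi.single_eq_of_ne h, h]
  · push Not at hi
    rw [emb_off hF e g _ hi]
    by_cases h : i = j
    · subst h; simp [E, h2 i hi]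
    · simp [E, Pi.single_eq_of_ne h, h]

/-- Central diagonal elements have equal entries. -/
theorem diag_eq_of_central {g : ↥(K hF n)} {t : Fin n → F} (ht : mat hF g = Matrix.diagonal t)
    (hg : g ∈ Subgroup.center ↥(K hF n)) (hn : 2 ≤ n) (i j : Fin n) : t i = t j := by
  obtain ⟨k, hk⟩ := exists_K_map hF (l := [(E i : Fin n → F)]) (l' := [E j])
    ⟨Datum.on_E, by simp, trivial⟩ ⟨Datum.on_E, by simp, trivial⟩ rfl (by simp; omega)
  simp only [List.map_cons, List.map_nil, List.cons.injEq, and_true] at hk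
  have hl : ∀ l : Fin n, g • (E l : Fin n → F) = t l • E l := fun l => by
    rw [smul_of_diagonal ht]
    funext m
    by_cases h : m = l
    · subst h; simp
    · simp [E, Pi.single_eq_of_ne h]
  have h := congrArg (fun v : Fin n → F => k • v) (hl i)
  simp only [smul_smul_K, hk] at h
  rw [← mul_smul, Subgroup.mem_center_iff.1 hg k, mul_smul, hk, hl j] at h
  have := congrFun h j
  simpa [E] using this.symm

/-- Scalar matrices are central. -/
theorem central_of_scalar {g : ↥(K hF n)} {c : F} (h : mat hF g = Matrix.diagonal fun _ => c) :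
    g ∈ Subgroup.center ↥(K hF n) := by
  rw [Subgroup.mem_center_iff]
  intro k
  apply mat_injective hF
  rw [map_mul, map_mul, h, ← Matrix.smul_one_eq_diagonal, Matrix.smul_mul, Matrix.mul_smul,
    Matrix.one_mul, Matrix.mul_one]

theorem exists_eigen_unit (h2 : (2 : F) ≠ 0) {z : ↥(K hF n)} (hz : z * z = 1)
    {x : Fin n → F} (hx : hh hF x x ≠ 0) :
    ∃ a : F, a * a = 1 ∧ hh hF (x + a • z • x) (x + a • z • x) ≠ 0 ∧
      z • (x + a • z • x) = a • (x + a • z • x) := by
  set H := stdHerm hF n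
  set y := z • x with hy
  have hzy : z • y = x := by rw [hy, ← mul_smul, hz, one_smul]
  have hyy : hh hF y y = hh hF x x := h_smul_K hF z x x
  have heig : ∀ a : F, a * a = 1 → z • (x + a • y) = a • (x + a • y) := by
    intro a ha
    rw [smul_add_K, smul_smul_K, hzy, smul_add, smul_smul, ha, one_smul, ← hy, add_comm]
  by_contra hcon
  push Not at hcon
  have hz0 : ∀ a : F, a * a = 1 → hh hF (x + a • y) (x + a • y) = 0 := fun a ha => by
    by_contra h
    exact hcon a ha h (heig a ha)
  have hp := hz0 1 (one_mul 1)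
  have hm := hz0 (-1) (by norm_num)
  simp only [hh, one_smul, neg_smul] at hp hm
  rw [H.add_left, H.add_right, H.add_right] at hp
  rw [H.add_left, H.add_right, H.add_right, H.neg_left, H.neg_left, H.neg_right, H.neg_right] at hm
  change H.h y y = H.h x x at hyy
  have h4 : (2 : F) * 2 * H.h x x = 0 := by linear_combination hp + hm - 2 * hyy
  exact hx ((mul_eq_zero.1 h4).resolve_left (mul_ne_zero h2 h2))

/-- Orthonormal common eigenvectors of two commuting involutions. -/
theorem exists_frame_list (h2 : (2 : F) ≠ 0) {za zb : ↥(K hF n)} (ha : za * za = 1)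
    (hb : zb * zb = 1) (hab : Commute za zb) :
    ∀ m, m ≤ n → ∃ l : List (Fin n → F), l.length = m ∧ ON hF l ∧
      ∀ v ∈ l, ∃ a b : F, a * a = 1 ∧ b * b = 1 ∧ za • v = a • v ∧ zb • v = b • v := by
  set H := stdHerm hF n
  intro m
  induction m with
  | zero => exact fun _ => ⟨[], rfl, trivial, by simp⟩
  | succ m ih =>
    intro hm
    obtain ⟨l, hl, hon, hev⟩ := ih (by omega)
    obtain ⟨x, hx, hxl⟩ := exists_unit_perp (ON.fam hF hon) (by simp; omega)
    have keep : ∀ (z : ↥(K hF n)) (a : F) (y : Fin n → F), (∀ v ∈ l, ∃ c : F, z • v = c • v) →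
        z * z = 1 → (∀ v ∈ l, H.h y v = 0) → ∀ v ∈ l, H.h (y + a • z • y) v = 0 := by
      intro z a y hzl hz hy v hv
      obtain ⟨c, hc⟩ := hzl v hv
      have h1 : H.h (z • y) v = H.h y (z • v) := by
        have := h_smul_K hF z y (z • v)
        rw [← mul_smul, hz, one_smul] at this
        exact this
      rw [H.add_left, H.smul_left, h1, hc, H.smul_right, hy v hv, mul_zero, mul_zero, add_zero]
    obtain ⟨a, haa, hne, heig⟩ := exists_eigen_unit h2 ha
      (x := x) (by rw [show hh hF x x = 1 from hx]; exact one_ne_zero)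
    set y := x + a • za • x with hy
    have hyl := keep za a x (fun v hv => let ⟨c, _, _, _, h, _⟩ := hev v hv; ⟨c, h⟩) ha hxl
    obtain ⟨b, hbb, hne', heig'⟩ := exists_eigen_unit h2 hb (x := y) hne
    set w := y + b • zb • y with hw
    have hwl := keep zb b y (fun v hv => let ⟨_, c, _, _, _, h⟩ := hev v hv; ⟨c, h⟩) hb hyl
    clear_value y
    have hzaw : za • w = a • w := by
      rw [hw, smul_add_K, smul_smul_K, ← mul_smul za zb, hab.eq, mul_smul, heig, smul_smul_K,
        smul_add, smul_comm b a]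
    obtain ⟨c, -, hc⟩ := exists_unit_scale hF hne'
    refine ⟨(c • w) :: l, by simp [hl], ⟨hc, fun v hv => ?_, hon⟩, fun v hv => ?_⟩
    · show H.h (c • w) v = 0
      rw [H.smul_left, hwl v hv, mul_zero]
    · rcases List.mem_cons.1 hv with rfl | hv
      · exact ⟨a, b, haa, hbb, by rw [smul_smul_K, hzaw, smul_comm],
          by rw [smul_smul_K, heig', smul_comm]⟩
      · exact hev v hv

theorem pattern : ∀ a b : Fin 4 → Bool,
    (a 0).xor ((a 1).xor ((a 2).xor (a 3))) = false → (b 0).xor ((b 1).xor ((b 2).xor (b 3))) = false →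
    (∃ i, a i ≠ a 0) → (∃ i, b i ≠ b 0) → (∃ i, (a i).xor (b i) ≠ (a 0).xor (b 0)) →
    ∀ u v : Bool, ∃ i, a i = u ∧ b i = v := by decide

/-- Commuting involutions in four dimensions, up to automorphisms. -/
theorem exists_normal (h2 : (2 : F) ≠ 0) {za zb : ↥(K hF 4)} (ha : za * za = 1)
    (hb : zb * zb = 1) (hab : Commute za zb) (hca : za ∉ Subgroup.center ↥(K hF 4))
    (hcb : zb ∉ Subgroup.center ↥(K hF 4)) (hcab : za * zb ∉ Subgroup.center ↥(K hF 4)) :
    ∃ τ : ↥(K hF 4) ≃* ↥(K hF 4), mat hF (τ.symm za) = Matrix.diagonal ![-1, -1, 1, 1] ∧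
      mat hF (τ.symm zb) = Matrix.diagonal ![1, -1, -1, 1] := by
  classical
  obtain ⟨l, hl, hon, hev⟩ := exists_frame_list h2 ha hb hab 3 (by omega)
  obtain ⟨v0, v1, v2, rfl⟩ := List.length_eq_three.1 hl
  obtain ⟨k, hk⟩ := exists_K_map hF (l := [(E 0 : Fin 4 → F), E 1, E 2]) (l' := [v0, v1, v2])
    ⟨Datum.on_E, fun v hv => by
        simp only [List.mem_cons, List.not_mem_nil, or_false] at hv
        rcases hv with rfl | rfl <;> exact Datum.E01 (by decide),
      Datum.on_E, fun v hv => by
        rw [List.mem_singleton.1 hv]; exact Datum.E01 (by decide),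
      Datum.on_E, by simp, trivial⟩ hon rfl (by simp)
  simp only [List.map_cons, List.map_nil, List.cons.injEq, and_true] at hk
  have hdiag : ∀ z : ↥(K hF 4), z * z = 1 → (∀ v ∈ [v0, v1, v2], ∃ c : F, z • v = c • v) →
      ∃ s : Fin 4 → F, (∀ i, s i * s i = 1) ∧ mat hF (k⁻¹ * z * k) = Matrix.diagonal s := by
    intro z hz hzl
    set g := k⁻¹ * z * k with hg
    have hg2 : g * g = 1 := by
      rw [hg, show k⁻¹ * z * k * (k⁻¹ * z * k) = k⁻¹ * (z * z) * k by group, hz]
      group
    have hcol : ∀ i : Fin 4, i ≠ 3 → ∃ c : F, g • (E i : Fin 4 → F) = c • E i := by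
      intro i hi
      have hki : k • (E i : Fin 4 → F) ∈ [v0, v1, v2] := by
        fin_cases i
        · simp [show k • (E 0 : Fin 4 → F) = v0 from hk.1]
        · simp [show k • (E 1 : Fin 4 → F) = v1 from hk.2.1]
        · simp [show k • (E 2 : Fin 4 → F) = v2 from hk.2.2]
        · exact absurd rfl hi
      obtain ⟨c, hc⟩ := hzl _ hki
      exact ⟨c, by rw [hg, mul_smul, mul_smul, hc, smul_smul_K, inv_smul_smul]⟩
    have hoff : ∀ i j : Fin 4, i ≠ j → mat hF g i j = 0 := by
      intro i j hij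
      by_cases hj : j = 3
      · subst hj
        obtain ⟨c, hc⟩ := hcol i hij
        have hc0 : c ≠ 0 := by
          rintro rfl
          have h3 := congrArg (fun v : Fin 4 → F => g • v) hc
          simp only [zero_smul, ← mul_smul, hg2, one_smul] at h3
          have h4 : g • (0 : Fin 4 → F) = 0 := map_zero g.1.1
          rw [h4] at h3
          have := congrFun h3 i
          simp [E] at this
        have h := h_smul_K hF g (E i) (E 3)
        rw [hc, show hh hF (c • (E i : Fin 4 → F)) (g • E 3) = c * hh hF (E i) (g • E 3) from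
          (stdHerm hF 4).smul_left _ _ _, hh_E_left, hh_E_left, ← mat_apply,
          show (E 3 : Fin 4 → F) i = 0 from E_apply_ne (Ne.symm hij).symm,
          zero_pow (by have := two_le_of_card hF; omega)] at h
        exact eq_zero_of_pow_eq_zero ((mul_eq_zero.1 h).resolve_left hc0)
      · obtain ⟨c, hc⟩ := hcol j hj
        rw [mat_apply, hc]
        simp [E, Pi.single_eq_of_ne hij]
    refine ⟨fun i => mat hF g i i, fun i => ?_, ?_⟩
    · have h := congrFun (congrFun (congrArg (mat hF) hg2) i) i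
      rw [map_mul, map_one, Matrix.mul_apply, Finset.sum_eq_single i
        (fun j _ hj => by rw [hoff i j (Ne.symm hj), zero_mul]) (by simp), Matrix.one_apply_eq] at h
      exact h
    · ext i j
      by_cases h : i = j
      · subst h; simp
      · simp [hoff i j h, h]
  obtain ⟨sa, hsa, hma⟩ := hdiag za ha fun v hv => let ⟨c, _, _, _, h, _⟩ := hev v hv; ⟨c, h⟩
  obtain ⟨sb, hsb, hmb⟩ := hdiag zb hb fun v hv => let ⟨_, c, _, _, _, h⟩ := hev v hv; ⟨c, h⟩
  have hne1 : (-1 : F) ≠ 1 := fun h => h2 (by linear_combination -h)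
  let bit : F → Bool := fun x => decide (x = -1)
  have hbit : ∀ x : F, x * x = 1 → x = if bit x then -1 else 1 := fun x hx => by
    rcases mul_self_eq_one_iff.1 hx with rfl | rfl <;> simp [bit, hne1.symm]
  have hpar : ∀ (g : ↥(K hF 4)) (s : Fin 4 → F), (∀ i, s i * s i = 1) →
      mat hF g = Matrix.diagonal s →
      (bit (s 0)).xor ((bit (s 1)).xor ((bit (s 2)).xor (bit (s 3)))) = false := by
    intro g s hs hg
    have hd := det_mat hF g
    rw [hg, Matrix.det_diagonal, Fin.prod_univ_four, hbit _ (hs 0), hbit _ (hs 1), hbit _ (hs 2),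
      hbit _ (hs 3)] at hd
    revert hd
    cases bit (s 0) <;> cases bit (s 1) <;> cases bit (s 2) <;> cases bit (s 3) <;>
      simp [hne1]
  have hnc : ∀ (z : ↥(K hF 4)) (s : Fin 4 → F), mat hF (k⁻¹ * z * k) = Matrix.diagonal s →
      z ∉ Subgroup.center ↥(K hF 4) → ∃ i, s i ≠ s 0 := by
    intro z s hs hz
    by_contra hcon
    push Not at hcon
    have hc := central_of_scalar (g := k⁻¹ * z * k) (c := s 0)
      (by rw [hs]; exact congrArg Matrix.diagonal (funext hcon))
    refine hz (Subgroup.mem_center_iff.2 fun g => ?_)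
    have h := Subgroup.mem_center_iff.1 hc (k⁻¹ * g * k)
    calc g * z = k * ((k⁻¹ * g * k) * (k⁻¹ * z * k)) * k⁻¹ := by group
      _ = z * g := by rw [h]; group
  have hbinj : ∀ x y : F, x * x = 1 → y * y = 1 → bit x = bit y → x = y := fun x y hx hy h => by
    rw [hbit x hx, hbit y hy, h]
  have hmab : mat hF (k⁻¹ * (za * zb) * k) = Matrix.diagonal fun i => sa i * sb i := by
    rw [show k⁻¹ * (za * zb) * k = (k⁻¹ * za * k) * (k⁻¹ * zb * k) by group, map_mul, hma, hmb,
      Matrix.diagonal_mul_diagonal]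
  obtain ⟨ia, hia⟩ := hnc za sa hma hca
  obtain ⟨ib, hib⟩ := hnc zb sb hmb hcb
  obtain ⟨iab, hiab⟩ := hnc (za * zb) _ hmab hcab
  have hpat := pattern (fun i => bit (sa i)) (fun i => bit (sb i)) (hpar _ sa hsa hma)
    (hpar _ sb hsb hmb) ⟨ia, fun h => hia (hbinj _ _ (hsa _) (hsa _) h)⟩
    ⟨ib, fun h => hib (hbinj _ _ (hsb _) (hsb _) h)⟩
    ⟨iab, fun h => hiab (by
      rw [hbit _ (hsa iab), hbit _ (hsb iab), hbit _ (hsa 0), hbit _ (hsb 0)]
      revert h
      cases bit (sa iab) <;> cases bit (sb iab) <;> cases bit (sa 0) <;> cases bit (sb 0) <;> simp)⟩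
  let A : Fin 4 → Bool := ![true, true, false, false]
  let B : Fin 4 → Bool := ![false, true, true, false]
  choose σ hσa hσb using fun i : Fin 4 => hpat (A i) (B i)
  have hinj : Function.Injective σ := by
    intro i j h
    have h1 : A i = A j := by rw [← hσa i, ← hσa j, h]
    have h2' : B i = B j := by rw [← hσb i, ← hσb j, h]
    revert h1 h2'
    fin_cases i <;> fin_cases j <;> simp [A, B]
  let e : Fin 4 ↪ Fin 4 := ⟨σ, hinj⟩
  let τ : ↥(K hF 4) ≃* ↥(K hF 4) := (MulEquiv.ofBijective (emb hF e)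
    (Finite.injective_iff_bijective.1 (emb_injective hF e))).trans (MulAut.conj k)
  have hτ : ∀ z, emb hF e (τ.symm z) = k⁻¹ * z * k := fun z => by
    have h : k * emb hF e (τ.symm z) * k⁻¹ = z := τ.apply_symm_apply z
    calc emb hF e (τ.symm z) = k⁻¹ * (k * emb hF e (τ.symm z) * k⁻¹) * k := by group
      _ = _ := by rw [h]
  have hval : ∀ (z : ↥(K hF 4)) (s : Fin 4 → F) (D : Fin 4 → Bool), (∀ i, s i * s i = 1) →
      mat hF (k⁻¹ * z * k) = Matrix.diagonal s → (∀ i, bit (s (σ i)) = D i) →
      mat hF (τ.symm z) = Matrix.diagonal fun i => if D i then -1 else 1 := by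
    intro z s D hs hms hD
    ext i j
    rw [← mat_emb e, hτ, hms]
    by_cases h : i = j
    · subst h
      rw [Matrix.diagonal_apply_eq, Matrix.diagonal_apply_eq]
      exact (hbit _ (hs (e i))).trans (by rw [show bit (s (e i)) = D i from hD i])
    · rw [Matrix.diagonal_apply_ne _ (e.injective.ne h), Matrix.diagonal_apply_ne _ h]
  refine ⟨τ, ?_, ?_⟩
  · rw [hval za sa A hsa hma hσa]
    congr 1; funext i; fin_cases i <;> simp [A]
  · rw [hval zb sb B hsb hmb hσb]
    congr 1; funext i; fin_cases i <;> simp [B]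

end CfsgLib.Phan
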