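import Cfsg.Agent.Lib.Phan.NullIso

/-!
Degenerate quadrangles, pentagons, and the gluing theorem.
-/

set_option autoImplicit false
set_option maxHeartbeats 1600000
set_option synthInstance.maxHeartbeats 100000

namespace CfsgLib.Phan

open Module CfsgLib.Classical.Herm HermSpace

variable {F : Type*} [Field F] [Fintype F] {q : ℕ} {hF : Fintype.card F = q ^ 2}

theorem two_eq_zero_of {k : ℕ} (hF : Fintype.card F = q ^ 2) (hq : q = 2 ^ k) : (2 : F) = 0 := by
  have h := FiniteField.cast_card_eq_zero F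
  rw [hF, hq] at h
  push_cast at h
  exact eq_zero_of_pow_eq_zero (eq_zero_of_pow_eq_zero h)

theorem qPow_hh {n : ℕ} (x y : Fin n → F) : qPow hF (hh hF x y) = hh hF y x :=
  (stdHerm hF n).symm' x y

/-- The values used for the vector `y`. -/
def Good (hF : Fintype.card F = q ^ 2) (B : F) : Prop :=
  ∃ A : F, qPow hF A = A ∧ A ≠ 0 ∧ A ≠ 1 ∧ A * B ≠ 1 ∧ A * (1 + B) ≠ 1

theorem good_of_five (hq : 5 ≤ q) (B : F) : Good hF B := by
  classical
  obtain ⟨A, hA, hA'⟩ := exists_fixed_notMem hF {0, 1, B⁻¹, (1 + B)⁻¹}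
    (lt_of_le_of_lt Finset.card_le_four (by omega))
  simp only [Finset.mem_insert, Finset.mem_singleton, not_or] at hA'
  exact ⟨A, hA, hA'.1, hA'.2.1, fun h => hA'.2.2.1 (eq_inv_of_mul_eq_one_left h),
    fun h => hA'.2.2.2 (eq_inv_of_mul_eq_one_left h)⟩

theorem good_four (hq : q = 4) {B : F} (hB : B = 0 ∨ B = 1) : Good hF B := by
  classical
  have h2 : (2 : F) = 0 := two_eq_zero_of (k := 2) hF (by rw [hq]; norm_num)
  obtain ⟨A, hA, hA'⟩ := exists_fixed_notMem hF {0, 1} (lt_of_le_of_lt Finset.card_le_two (by omega))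
  simp only [Finset.mem_insert, Finset.mem_singleton, not_or] at hA'
  refine ⟨A, hA, hA'.1, hA'.2, ?_, ?_⟩
  · rcases hB with rfl | rfl
    · simp
    · simpa using hA'.2
  · rcases hB with rfl | rfl
    · simpa using hA'.2
    · rw [show (1 : F) + 1 = 0 by linear_combination h2, mul_zero]; exact zero_ne_one

/-- For `q = 4` every scalar is a value or a sum of two scalars of norm one. -/
theorem good_or_split (hq : 4 ≤ q) (β : F) : Good hF (nm hF β) ∨
    ∃ β₁ β₂ : F, β = β₁ + β₂ ∧ Good hF (nm hF β₁) ∧ Good hF (nm hF β₂) := by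
  rcases Nat.lt_or_ge q 5 with h5 | h5
  swap
  · exact Or.inl (good_of_five h5 _)
  have hq4 : q = 4 := by omega
  by_cases hB01 : nm hF β = 0 ∨ nm hF β = 1
  · exact Or.inl (good_four hq4 hB01)
  push Not at hB01
  have h2 : (2 : F) = 0 := two_eq_zero_of (k := 2) hF (by rw [hq4]; norm_num)
  set B := nm hF β with hB
  have hB4 : B ^ 4 = B := by
    have h : qPow hF B = B := nm_fixed hF β
    rw [qPow_apply] at h
    rwa [hq4] at h
  have hB3 : B ^ 2 + B + 1 = 0 := by
    have e : B * (B - 1) * (B ^ 2 + B + 1) = 0 := by linear_combination hB4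
    exact (mul_eq_zero.1 e).resolve_left (mul_ne_zero hB01.1 (sub_ne_zero.2 hB01.2))
  obtain ⟨u, hu, hu1⟩ := (stdHerm hF 1).exists_norm_one_ne_one
  change u * qPow hF u = 1 at hu
  have hu5 : u ^ 5 = 1 := by
    rw [qPow_apply] at hu
    rw [← hu, hq4]; ring
  have hu0 : u ≠ 0 := left_ne_zero_of_mul_eq_one hu
  have hsum : u ^ 4 + u ^ 3 + u ^ 2 + u + 1 = 0 := by
    have e : (u - 1) * (u ^ 4 + u ^ 3 + u ^ 2 + u + 1) = 0 := by linear_combination hu5
    exact (mul_eq_zero.1 e).resolve_left (sub_ne_zero.2 hu1)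
  set v := β * B
  have hv : nm hF v = 1 := by
    simp only [v, nm, map_mul, qPow_qPow]
    have : β * qPow hF β = B := rfl
    linear_combination (B * qPow hF B) * this + B * B * nm_fixed hF β + (B - 1) * hB3
  have hqu : qPow hF u = u ^ 4 := by rw [qPow_apply, hq4]
  have fin : ∀ w : F, nm hF w = 1 → B ^ 2 = w + qPow hF w →
      ∃ β₁ β₂ : F, β = β₁ + β₂ ∧ Good hF (nm hF β₁) ∧ Good hF (nm hF β₂) := by
    intro w hw hBw
    refine ⟨v * w, v * qPow hF w, ?_, good_four hq4 (Or.inr ?_), good_four hq4 (Or.inr ?_)⟩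
    · rw [← mul_add, ← hBw]
      simp only [v]
      linear_combination (-β * (B - 1)) * hB3
    · simp only [nm, map_mul]
      linear_combination (v * qPow hF v) * hw + hv
    · simp only [nm, map_mul, qPow_qPow]
      linear_combination (v * qPow hF v) * hw + hv
  right
  have hcases : (B ^ 2 - (u + u ^ 4)) * (B ^ 2 - (u ^ 2 + u ^ 3)) = 0 := by
    linear_combination (B ^ 2 - B + 1) * hB3 - B ^ 2 * hsum + hsum +
      (u + u ^ 2) * hu5 + (-1) * h2
  rcases mul_eq_zero.1 hcases with h | h
  · exact fin u hu (by rw [hqu]; linear_combination h)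
  · refine fin (u ^ 2) ?_ ?_
    · simp only [nm, map_pow]
      linear_combination (u * qPow hF u + 1) * hu
    · rw [map_pow, hqu, sub_eq_zero.1 h]
      linear_combination (-u ^ 3) * hu5

namespace Datum

variable {G : Type*} [Group G] {m t : ℕ} (D : Datum hF G m t)

theorem cond_size (hcond : D.Cond) :
    (1 : ℕ) + 3 < m + 1 ∨ (3 ≤ q ∧ (1 : ℕ) + 2 < m + 1) := by
  have := D.hm
  rcases hcond with ⟨-, -, h⟩ | ⟨h, -⟩ | ⟨h, -⟩
  · exact Or.inr ⟨by omega, by omega⟩
  · exact Or.inl (by omega)
  · exact Or.inl (by omega)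

/-- Proportional pairs. -/
theorem same_prop (hcond : D.Cond) {a c b d : Fin (m + 1) → F} (ha : hh hF a a = 1)
    (hc : hh hF c c = 1) (hw : c - hh hF c a • a = 0) (hb : Common hF a c b)
    (hd : Common hF a c d) : D.Same a c b d := by
  have hl : ∀ v, Common hF a c v → ∀ e ∈ [a], hh hF v e = 0 := fun v hv e he => by
    rw [List.mem_singleton.1 he]; exact (stdHerm hF (m + 1)).h_comm_zero hv.2.1
  refine D.same_conn ha hc (l := [a])
    ⟨by rw [show (stdHerm hF (m + 1)).h a a = 1 from ha]; exact one_ne_zero, by simp, trivial⟩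
    (D.cond_size hcond) (fun v hv hvl => ?_) hb.1 hd.1 (hl b hb) (hl d hd)
  have h : hh hF v a = 0 := hvl a (by simp)
  refine ⟨hv, (stdHerm hF (m + 1)).h_comm_zero h, ?_⟩
  rw [sub_eq_zero.1 hw]
  show (stdHerm hF (m + 1)).h v _ = 0
  rw [(stdHerm hF (m + 1)).smul_right, show (stdHerm hF (m + 1)).h v a = 0 from h, mul_zero]

/-- A third vertex adjacent to the middle and the end. -/
theorem T_third {a c b y : Fin (m + 1) → F} {x : D.glue.Pt} (hx : D.glue.proj x = a)
    (ha : hh hF a a = 1) (hc : hh hF c c = 1) (hb : Common hF a c b) (hy : hh hF y y = 1)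
    (hby : hh hF b y = 0) (hyc : hh hF y c = 0) :
    D.T x c b = D.glue.nbr (D.T x y b) c := by
  have h1 : D.glue.proj (D.glue.nbr x b) = b :=
    D.glue.proj_nbr x b (by rw [hx]; exact ⟨ha, hb.1, hb.2.1⟩)
  exact (D.glue.cover.tri (D.glue.nbr x b) y c
    (show adj hF (D.glue.proj (D.glue.nbr x b)) y by rw [h1]; exact ⟨hb.1, hy, hby⟩)
    (show adj hF (D.glue.proj (D.glue.nbr x b)) c by rw [h1]; exact ⟨hb.1, hc, hb.2.2⟩)
    ⟨hy, hc, hyc⟩).symm

/-- The vector `y` for a degenerate pair. -/
theorem exists_y {a c u₁ : Fin (m + 1) → F} (ha : hh hF a a = 1) (hlam : nm hF (hh hF c a) = 1)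
    (hiso : hh hF (c - hh hF c a • a) (c - hh hF c a • a) = 0)
    (hu : hh hF u₁ u₁ = 1) (hua : hh hF u₁ a = 0)
    (huw : hh hF u₁ (c - hh hF c a • a) = 1) {A : F} (hA : qPow hF A = A) (hA0 : A ≠ 0) :
    ∃ y : Fin (m + 1) → F, hh hF y y = 1 ∧ hh hF y c = 0 ∧ nm hF (hh hF y a) = A ∧
      nm hF (hh hF y (c - hh hF c a • a)) = A ∧
      ∀ v, hh hF v a = 0 → hh hF v u₁ = 0 → hh hF v (c - hh hF c a • a) = 0 → hh hF v y = 0 := by
  set H := stdHerm hF (m + 1) with hH
  set w := c - hh hF c a • a with hw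
  have hwa : H.h w a = 0 := by
    show hh hF w a = 0
    simp only [hw, hh, H, (stdHerm hF (m + 1)).sub_left, (stdHerm hF (m + 1)).smul_left] at ha ⊢
    rw [ha]; ring
  obtain ⟨y1, hy1⟩ := exists_norm_eq hF A hA
  set l := hh hF c a with hl
  set ν := -(y1 * qPow hF l) with hν
  have hνA : nm hF ν = A := by
    simp only [hν, nm, map_neg, map_mul, qPow_qPow]
    linear_combination (l * qPow hF l) * hy1 + A * hlam
  have hν0 : ν ≠ 0 := fun h => hA0 (by rw [← hνA, h]; simp [nm])
  obtain ⟨x, hx⟩ := H.exists_trace (c := 1 - A - A) (by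
    change qPow hF _ = _
    rw [map_sub, map_sub, map_one, hA])
  change x + qPow hF x = _ at hx
  have hν' : qPow hF ν ≠ 0 := fun h => hν0 ((map_eq_zero (qPow hF)).1 h)
  set τ := x / qPow hF ν
  have e1 : H.h a u₁ = 0 := H.h_comm_zero hua
  have e2 : H.h a w = 0 := H.h_comm_zero hwa
  have e3 : H.h w u₁ = 1 := H.h_comm_one huw
  set y := y1 • a + (ν • u₁ + τ • w) with hy
  have hya : H.h y a = y1 := by
    simp only [hy, H.add_left, H.smul_left, show H.h a a = 1 from ha, show H.h u₁ a = 0 from hua,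
      hwa]
    ring
  have hyw : H.h y w = ν := by
    simp only [hy, H.add_left, H.smul_left, e2, show H.h u₁ w = 1 from huw,
      show H.h w w = 0 from hiso]
    ring
  refine ⟨y, ?_, ?_, ?_, ?_, fun v h1 h2 h3 => ?_⟩
  · show H.h y y = 1
    simp only [hy, H.add_left, H.add_right, H.smul_left, H.smul_right,
      show H.h a a = 1 from ha, show H.h u₁ a = 0 from hua, hwa, e1, e2, e3,
      show H.h u₁ w = 1 from huw, show H.h w w = 0 from hiso, show H.h u₁ u₁ = 1 from hu,
      show H.conj = qPow hF from rfl]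
    simp only [τ, map_div₀, qPow_qPow]
    change y1 * qPow hF y1 = A at hy1
    change ν * qPow hF ν = A at hνA
    field_simp
    linear_combination (ν * qPow hF ν) * hx + (ν * qPow hF ν) * hy1 + (ν * qPow hF ν) * hνA
  · show H.h y c = 0
    rw [show c = l • a + w by rw [hw]; abel, H.add_right, H.smul_right, hya, hyw, hν]
    show qPow hF l * y1 + _ = 0
    ring
  · show nm hF (H.h y a) = A
    rw [hya]; exact hy1
  · show nm hF (H.h y w) = A
    rw [hyw]; exact hνA
  · show H.h v y = 0
    rw [hy, H.add_right, H.add_right, H.smul_right, H.smul_right, H.smul_right,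
      show H.h v a = 0 from h1, show H.h v u₁ = 0 from h2, show H.h v w = 0 from h3]
    ring

/-- Degenerate pairs, dimension at least five, reduced vertices. -/
theorem same_iso_R (hcond : D.Cond) (hm : 4 ≤ m) {a c b d u₁ : Fin (m + 1) → F}
    (ha : hh hF a a = 1) (hc : hh hF c c = 1) (hlam : nm hF (hh hF c a) = 1)
    (hu : hh hF u₁ u₁ = 1) (hua : hh hF u₁ a = 0) (huw : hh hF u₁ (c - hh hF c a • a) = 1)
    (hfam : Fam (stdHerm hF (m + 1)) [c - hh hF c a • a - u₁, u₁, a])
    (hb : hh hF b b = 1) (hd : hh hF d d = 1)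
    (hbR : ∀ e ∈ [c - hh hF c a • a - u₁, u₁, a], hh hF b e = 0)
    (hdR : ∀ e ∈ [c - hh hF c a • a - u₁, u₁, a], hh hF d e = 0) : D.Same a c b d := by
  classical
  set H := stdHerm hF (m + 1) with hH
  have hiso : hh hF (c - hh hF c a • a) (c - hh hF c a • a) = 0 := by
    rw [(w_facts ha hc).2, hlam, sub_self]
  set w := c - hh hF c a • a with hw
  have hRw : ∀ v, (∀ e ∈ [w - u₁, u₁, a], hh hF v e = 0) → hh hF v w = 0 := fun v hv => by
    have h1 : H.h v (w - u₁) = 0 := hv (w - u₁) (by simp)
    have h2 : H.h v u₁ = 0 := hv u₁ (by simp)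
    rw [H.sub_right, h2, sub_zero] at h1
    exact h1
  have hcommon : ∀ v, hh hF v v = 1 → (∀ e ∈ [w - u₁, u₁, a], hh hF v e = 0) →
      Common hF a c v := fun v hv hvR => by
    refine ⟨hv, H.h_comm_zero (hvR a (by simp)), ?_⟩
    show H.h v c = 0
    rw [show c = hh hF c a • a + w by rw [hw]; abel, H.add_right, H.smul_right,
      show H.h v a = 0 from hvR a (by simp), show H.h v w = 0 from hRw v hvR]
    ring
  have big : 3 ≤ q → D.Same a c b d := by
    intro hq x hx
    obtain ⟨A, hA, hA'⟩ := exists_fixed_notMem hF {0, 1}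
      (lt_of_le_of_lt Finset.card_le_two (by omega))
    simp only [Finset.mem_insert, Finset.mem_singleton, not_or] at hA'
    obtain ⟨y, hy1, hyc, hya, -, hyR⟩ := exists_y ha hlam hiso hu hua huw hA hA'.1
    have hby : hh hF b y = 0 := hyR b (hbR a (by simp)) (hbR u₁ (by simp)) (hRw b hbR)
    have hdy : hh hF d y = 0 := hyR d (hdR a (by simp)) (hdR u₁ (by simp)) (hRw d hdR)
    rw [D.T_third hx ha hc (hcommon b hb hbR) hy1 hby hyc,
      D.T_third hx ha hc (hcommon d hd hdR) hy1 hdy hyc]
    rw [D.same_nondeg hcond ha hy1 (by rw [hya]; exact hA'.2)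
      ⟨hb, (hcommon b hb hbR).2.1, hby⟩ ⟨hd, (hcommon d hd hdR).2.1, hdy⟩ x hx]
  rcases hcond with ⟨h3, -⟩ | ⟨-, hq⟩ | ⟨-, hq, h6⟩
  · omega
  · exact big hq
  rcases Nat.lt_or_ge m 6 with h | h
  swap
  · exact D.same_conn ha hc hfam (Or.inl (by simp; omega)) hcommon hb hd hbR hdR
  rcases (show m = 5 ∨ m = 4 by omega) with hm5 | hm4
  · exact D.same_six hm5 hq h6 ha hc hu hua huw hiso hb hd hbR hdR
  by_cases hdb : hh hF b d = 0
  · exact D.same_adj ha hc (hcommon b hb hbR) (hcommon d hd hdR) hdb
  have hfam4 : Fam H (b :: [w - u₁, u₁, a]) :=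
    ⟨by rw [show H.h b b = 1 from hb]; exact one_ne_zero, hbR, hfam⟩
  obtain ⟨e, he, he'⟩ := exists_unit_perp hfam4
    (by rw [Module.finrank_fin_fun]; simp only [List.length_cons, List.length_nil]; omega)
  have h0 := proj_eq_zero (l := e :: b :: [w - u₁, u₁, a])
    ⟨by rw [show H.h e e = 1 from he]; exact one_ne_zero, he', hfam4⟩
    (by rw [Module.finrank_fin_fun]; simp only [List.length_cons, List.length_nil]; omega) d
  have h1 : H.h (proj H (e :: b :: [w - u₁, u₁, a]) d) d = 0 := by rw [h0, H.zero_left]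
  simp only [proj, H.sub_left, H.smul_left, show H.h d (w - u₁) = 0 from hdR (w - u₁) (by simp),
    show H.h d u₁ = 0 from hdR u₁ (by simp), show H.h d a = 0 from hdR a (by simp),
    show H.h e e = 1 from he, show H.h b b = 1 from hb, zero_div, zero_smul, sub_zero, div_one,
    show H.h d d = 1 from hd] at h1
  have hbd1 : H.h d b * H.h b d = 1 := by
    have hb0 : H.h d b ≠ 0 := fun h => hdb (H.h_comm_zero h)
    rcases fixed_two hF hq (nm_fixed hF (hh hF d b)) with h | h
    · exact absurd (nm_eq_zero hF h) hb0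
    · have := qPow_hh (hF := hF) d b
      rw [nm, this] at h
      exact h
  have hde : hh hF d e = 0 := nm_eq_zero hF (by
    rw [nm, qPow_hh]
    show H.h d e * H.h e d = 0
    linear_combination -h1 - hbd1)
  have heR : ∀ z ∈ [w - u₁, u₁, a], hh hF e z = 0 := fun z hz => he' z (by simp [hz])
  exact Same.trans D
    (D.same_adj ha hc (hcommon b hb hbR) (hcommon e he heR) (H.h_comm_zero (he' b (by simp))))
    (D.same_adj ha hc (hcommon e he heR) (hcommon d hd hdR) (H.h_comm_zero hde))

/-- Degenerate pairs, dimension at least five. -/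
theorem same_iso_big (hcond : D.Cond) (hm : 4 ≤ m) {a c b d : Fin (m + 1) → F}
    (ha : hh hF a a = 1) (hc : hh hF c c = 1) (hlam : nm hF (hh hF c a) = 1)
    (hw0 : c - hh hF c a • a ≠ 0) (hb : Common hF a c b) (hd : Common hF a c d) :
    D.Same a c b d := by
  set H := stdHerm hF (m + 1) with hH
  have hwa : hh hF (c - hh hF c a • a) a = 0 := (w_facts ha hc).1
  have hiso : hh hF (c - hh hF c a • a) (c - hh hF c a • a) = 0 := by
    rw [(w_facts ha hc).2, hlam, sub_self]
  have hbw : ∀ v, Common hF a c v → hh hF v (c - hh hF c a • a) = 0 := fun v hv => ortho_w hv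
  obtain ⟨u₁, hu, hul, huw⟩ := exists_value hF (l := [a])
    ⟨by rw [show H.h a a = 1 from ha]; exact one_ne_zero, by simp, trivial⟩ hw0 hiso
    (fun e he => by rw [List.mem_singleton.1 he]; exact hwa) (ν := 1) one_ne_zero (map_one _)
  set w := c - hh hF c a • a with hw
  have hua : hh hF u₁ a = 0 := hul a (by simp)
  have hwu : H.h w u₁ = 1 := H.h_comm_one huw
  set u₂ := w - u₁ with hu2
  have hfam : Fam H [u₂, u₁, a] := by
    refine ⟨?_, fun e he => ?_, by rw [show H.h u₁ u₁ = 1 from hu]; exact one_ne_zero,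
      fun e he => by rw [List.mem_singleton.1 he]; exact hua,
      by rw [show H.h a a = 1 from ha]; exact one_ne_zero, by simp, trivial⟩
    · simp only [hu2, H.sub_left, H.sub_right, show H.h w w = 0 from hiso, hwu,
        show H.h u₁ w = 1 from huw, show H.h u₁ u₁ = 1 from hu]
      norm_num
    · simp only [List.mem_cons, List.not_mem_nil, or_false] at he
      rcases he with rfl | rfl
      · rw [hu2, H.sub_left, hwu, show H.h e e = 1 from hu, sub_self]
      · rw [hu2, H.sub_left, show H.h w e = 0 from hwa, show H.h u₁ e = 0 from hua, sub_zero]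
  have red : ∀ v, Common hF a c v → ∃ v', hh hF v' v' = 1 ∧
      (∀ e ∈ [u₂, u₁, a], hh hF v' e = 0) ∧ Common hF a c v' ∧ D.Same a c v v' := by
    intro v hv
    set ξ := H.h v u₁
    have hva : H.h v a = 0 := H.h_comm_zero hv.2.1
    have hvw : H.h v w = 0 := hbw v hv
    have hwv : H.h w v = 0 := H.h_comm_zero hvw
    set v' := v - ξ • w
    have h1 : H.h v' v' = 1 := by
      simp only [v', H.sub_left, H.sub_right, H.smul_left, H.smul_right, hvw, hwv,
        show H.h w w = 0 from hiso, show H.h v v = 1 from hv.1]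
      ring
    have hva' : H.h v' a = 0 := by
      simp only [v', H.sub_left, H.smul_left, hva, show H.h w a = 0 from hwa]; ring
    have hvw' : H.h v' w = 0 := by
      simp only [v', H.sub_left, H.smul_left, hvw, show H.h w w = 0 from hiso]; ring
    have hvu' : H.h v' u₁ = 0 := by
      simp only [v', H.sub_left, H.smul_left, hwu, mul_one]; exact sub_self _
    have h2 : ∀ e ∈ [u₂, u₁, a], hh hF v' e = 0 := fun e he => by
      simp only [List.mem_cons, List.not_mem_nil, or_false] at he
      show H.h v' e = 0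
      rcases he with rfl | rfl | rfl
      · rw [hu2, H.sub_right, hvw', hvu', sub_zero]
      · exact hvu'
      · exact hva'
    have hcv : ∀ z, H.h z a = 0 → H.h z w = 0 → hh hF z z = 1 → Common hF a c z := by
      intro z hza hzw hz
      refine ⟨hz, H.h_comm_zero hza, ?_⟩
      show H.h z c = 0
      rw [show c = hh hF c a • a + w by rw [hw]; abel, H.add_right, H.smul_right, hza, hzw]
      ring
    have hv' := hcv v' hva' hvw' h1
    obtain ⟨e, he, he'⟩ := exists_unit_perp (l := v' :: [u₂, u₁, a])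
      ⟨by rw [h1]; exact one_ne_zero, h2, hfam⟩
      (by rw [Module.finrank_fin_fun]; simp only [List.length_cons, List.length_nil]; omega)
    have hew : H.h e w = 0 := by
      have h3 := he' u₂ (by simp)
      rw [hu2, H.sub_right, show H.h e u₁ = 0 from he' u₁ (by simp), sub_zero] at h3
      exact h3
    have hec := hcv e (he' a (by simp)) hew he
    have hev : H.h e v = 0 := by
      rw [show v = v' + ξ • w by simp [v'], H.add_right, H.smul_right, hew,
        show H.h e v' = 0 from he' v' (by simp)]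
      ring
    exact ⟨v', h1, h2, hv', Same.trans D (D.same_adj ha hc hv hec (H.h_comm_zero hev))
      (D.same_adj ha hc hec hv' (he' v' (by simp)))⟩
  obtain ⟨b', hb1, hb2, -, hbb⟩ := red b hb
  obtain ⟨d', hd1, hd2, -, hdd⟩ := red d hd
  intro x hx
  rw [hbb x hx, hdd x hx]
  exact D.same_iso_R hcond hm ha hc hlam hu hua huw hfam hb1 hd1 hb2 hd2 x hx

/-- Degenerate pairs in dimension four: one step. -/
theorem same_iso_good (hcond : D.Cond) (hm : m = 3) {a c b d : Fin (m + 1) → F}
    (ha : hh hF a a = 1) (hc : hh hF c c = 1) (hlam : nm hF (hh hF c a) = 1)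
    (hw0 : c - hh hF c a • a ≠ 0) (hb : Common hF a c b) (hd : Common hF a c d) {μ β : F}
    (hdb : d = μ • b + β • (c - hh hF c a • a)) (hgood : Good hF (nm hF β)) :
    D.Same a c b d := by
  intro x hx
  obtain ⟨A, hA, hA0, hA1, hAB, hAB'⟩ := hgood
  set H := stdHerm hF (m + 1) with hH
  have hwa : hh hF (c - hh hF c a • a) a = 0 := (w_facts ha hc).1
  have hiso : hh hF (c - hh hF c a • a) (c - hh hF c a • a) = 0 := by
    rw [(w_facts ha hc).2, hlam, sub_self]
  have hbw : hh hF b (c - hh hF c a • a) = 0 := ortho_w hb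
  have hba : H.h b a = 0 := H.h_comm_zero hb.2.1
  have hfam : Fam H [b, a] :=
    ⟨by rw [show H.h b b = 1 from hb.1]; exact one_ne_zero,
      fun e he => by rw [List.mem_singleton.1 he]; exact hba,
      by rw [show H.h a a = 1 from ha]; exact one_ne_zero, by simp, trivial⟩
  obtain ⟨u₁, hu, hul, huw⟩ := exists_value hF hfam hw0 hiso
    (fun e he => by
      simp only [List.mem_cons, List.not_mem_nil, or_false] at he
      rcases he with rfl | rfl
      exacts [H.h_comm_zero hbw, hwa]) (ν := 1) one_ne_zero (map_one _)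
  obtain ⟨y, hy1, hyc, hya, hyw, hyR⟩ :=
    exists_y ha hlam hiso hu (hul a (by simp)) huw hA hA0
  have hby : hh hF b y = 0 := hyR b hba (H.h_comm_zero (hul b (by simp))) hbw
  set w := c - hh hF c a • a with hw
  have hyd : nm hF (hh hF y d) = nm hF β * A := by
    have hval : H.h y d = qPow hF β * H.h y w := by
      rw [hdb, H.add_right, H.smul_right, H.smul_right, show H.h y b = 0 from H.h_comm_zero hby,
        mul_zero, zero_add]
      rfl
    show nm hF (H.h y d) = _
    rw [hval, nm, map_mul, qPow_qPow]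
    change hh hF y w * qPow hF (hh hF y w) = A at hyw
    linear_combination (β * qPow hF β) * hyw
  -- the vertex `e`
  obtain ⟨e, he, he', hey⟩ := exists_unit_perp_one hfam (w := y)
    (by rw [Module.finrank_fin_fun]; simp; omega) (by
      have hyb : H.h y b = 0 := H.h_comm_zero hby
      simp only [proj, show H.h b b = 1 from hb.1, show H.h a a = 1 from ha, div_one, hyb,
        zero_smul, sub_zero]
      simp only [H.sub_left, H.sub_right, H.smul_left, H.smul_right, show H.h y y = 1 from hy1,
        show H.h a a = 1 from ha, show H.conj = qPow hF from rfl]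
      have hs : qPow hF (H.h y a) = H.h a y := qPow_hh y a
      rw [hs]
      change hh hF y a * qPow hF (hh hF y a) = A at hya
      rw [show qPow hF (hh hF y a) = hh hF a y from qPow_hh y a] at hya
      intro h0
      exact hA1 (by rw [← hya]; linear_combination -h0))
  have hea : hh hF a e = 0 := H.h_comm_zero (he' a (by simp))
  have heb : hh hF b e = 0 := H.h_comm_zero (he' b (by simp))
  -- the vertex `z`
  have hda : H.h d a = 0 := H.h_comm_zero hd.2.1
  obtain ⟨z, hz, hz', hzy⟩ := exists_unit_perp_one (l := [d, a]) (w := y)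
    ⟨by rw [show H.h d d = 1 from hd.1]; exact one_ne_zero,
      fun v hv => by rw [List.mem_singleton.1 hv]; exact hda,
      by rw [show H.h a a = 1 from ha]; exact one_ne_zero, by simp, trivial⟩
    (by rw [Module.finrank_fin_fun]; simp; omega) (by
      simp only [proj, show H.h d d = 1 from hd.1, show H.h a a = 1 from ha, div_one]
      simp only [H.sub_left, H.sub_right, H.smul_left, H.smul_right, show H.h y y = 1 from hy1,
        show H.h a a = 1 from ha, show H.h d d = 1 from hd.1, hda,
        show H.h a d = 0 from hd.2.1, show H.conj = qPow hF from rfl]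
      have hs : qPow hF (H.h y a) = H.h a y := qPow_hh y a
      have hs' : qPow hF (H.h y d) = H.h d y := qPow_hh y d
      rw [hs, hs']
      change hh hF y a * qPow hF (hh hF y a) = A at hya
      rw [show qPow hF (hh hF y a) = hh hF a y from qPow_hh y a] at hya
      change hh hF y d * qPow hF (hh hF y d) = nm hF β * A at hyd
      rw [show qPow hF (hh hF y d) = hh hF d y from qPow_hh y d] at hyd
      intro h0
      exact hAB' (by linear_combination -h0 - hya - hyd))
  have hza : hh hF a z = 0 := H.h_comm_zero (hz' a (by simp))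
  have hzd : hh hF z d = 0 := hz' d (by simp)
  have hay : nm hF (hh hF y a) ≠ 1 := by rw [hya]; exact hA1
  rw [D.T_third hx ha hc hb hy1 hby hyc,
    D.same_adj ha hy1 (a := a) (c := y) ⟨hb.1, hb.2.1, hby⟩ ⟨he, hea, hey⟩ heb x hx,
    D.same_nondeg hcond ha hy1 hay ⟨he, hea, hey⟩ ⟨hz, hza, hzy⟩ x hx]
  set Z := D.T x y z with hZ
  have haz : adj hF (D.glue.proj x) z := by rw [hx]; exact ⟨ha, hz, hza⟩
  have hX : D.glue.proj (D.glue.nbr x z) = z := D.glue.proj_nbr x z haz
  have hXy : adj hF (D.glue.proj (D.glue.nbr x z)) y := by rw [hX]; exact ⟨hz, hy1, hzy⟩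
  have hZp : D.glue.proj Z = y := D.glue.proj_nbr _ y hXy
  have hne : nm hF (hh hF d y) ≠ 1 := by
    rw [nm_symm, hyd, mul_comm]; exact hAB
  have k1 : D.T Z d c = D.T Z d z :=
    D.same_nondeg hcond hy1 hd.1 hne ⟨hc, hyc, H.h_comm_zero hd.2.2⟩
      ⟨hz, H.h_comm_zero hzy, hzd⟩ Z hZp
  have k2 : D.T Z d z = D.glue.nbr x d := by
    show D.glue.nbr (D.glue.nbr Z z) d = _
    have hb2 : D.glue.nbr Z z = D.glue.nbr x z := by
      have := D.glue.back_mk (D.glue.nbr x z) y hXy
      rwa [hX] at this
    rw [hb2]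
    exact D.glue.cover.tri x z d haz
      (show adj hF (D.glue.proj x) d by rw [hx]; exact ⟨ha, hd.1, hd.2.1⟩) ⟨hz, hd.1, hzd⟩
  show D.glue.nbr Z c = D.glue.nbr (D.glue.nbr x d) c
  rw [← k2, ← k1]
  have hZc : adj hF (D.glue.proj Z) c := by rw [hZp]; exact ⟨hy1, hc, hyc⟩
  have hp : D.glue.proj (D.glue.nbr Z c) = c := D.glue.proj_nbr Z c hZc
  have := D.glue.back_mk (D.glue.nbr Z c) d
    (show adj hF (D.glue.proj (D.glue.nbr Z c)) d by rw [hp]; exact adj_symm hF ⟨hd.1, hc, hd.2.2⟩)
  rw [hp] at this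
  exact this.symm

/-- Degenerate pairs in dimension four. -/
theorem same_iso_four (hcond : D.Cond) (hm : m = 3) {a c b d : Fin (m + 1) → F}
    (ha : hh hF a a = 1) (hc : hh hF c c = 1) (hlam : nm hF (hh hF c a) = 1)
    (hw0 : c - hh hF c a • a ≠ 0) (hb : Common hF a c b) (hd : Common hF a c d) :
    D.Same a c b d := by
  have hq : 4 ≤ q := by
    rcases hcond with ⟨-, -, h⟩ | ⟨h, -⟩ | ⟨h, -⟩ <;> omega
  set H := stdHerm hF (m + 1) with hH
  have hwa : hh hF (c - hh hF c a • a) a = 0 := (w_facts ha hc).1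
  have hiso : hh hF (c - hh hF c a • a) (c - hh hF c a • a) = 0 := by
    rw [(w_facts ha hc).2, hlam, sub_self]
  have hbw : hh hF b (c - hh hF c a • a) = 0 := ortho_w hb
  have hdw : hh hF d (c - hh hF c a • a) = 0 := ortho_w hd
  have hba : H.h b a = 0 := H.h_comm_zero hb.2.1
  have hda : H.h d a = 0 := H.h_comm_zero hd.2.1
  obtain ⟨u₁, hu, hul, huw⟩ := exists_value hF (l := [b, a])
    ⟨by rw [show H.h b b = 1 from hb.1]; exact one_ne_zero,
      fun e he => by rw [List.mem_singleton.1 he]; exact hba,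
      by rw [show H.h a a = 1 from ha]; exact one_ne_zero, by simp, trivial⟩ hw0 hiso
    (fun e he => by
      simp only [List.mem_cons, List.not_mem_nil, or_false] at he
      rcases he with rfl | rfl
      exacts [H.h_comm_zero hbw, hwa]) (ν := 1) one_ne_zero (map_one _)
  set w := c - hh hF c a • a with hw
  have hwu : H.h w u₁ = 1 := H.h_comm_one huw
  have hua : H.h u₁ a = 0 := hul a (by simp)
  have hub : H.h u₁ b = 0 := hul b (by simp)
  set u₂ := w - u₁ with hu2
  have h22 : H.h u₂ u₂ = -1 := by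
    simp only [hu2, H.sub_left, H.sub_right, show H.h w w = 0 from hiso, hwu,
      show H.h u₁ w = 1 from huw, show H.h u₁ u₁ = 1 from hu]
    ring
  have hfam : Fam H [b, u₂, u₁, a] := by
    refine ⟨by rw [show H.h b b = 1 from hb.1]; exact one_ne_zero, fun e he => ?_,
      by rw [h22]; norm_num, fun e he => ?_,
      by rw [show H.h u₁ u₁ = 1 from hu]; exact one_ne_zero,
      fun e he => by rw [List.mem_singleton.1 he]; exact hua,
      by rw [show H.h a a = 1 from ha]; exact one_ne_zero, by simp, trivial⟩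
    · simp only [List.mem_cons, List.not_mem_nil, or_false] at he
      rcases he with rfl | rfl | rfl
      · rw [hu2, H.sub_right, show H.h b w = 0 from hbw, H.h_comm_zero hub, sub_zero]
      · exact H.h_comm_zero hub
      · exact hba
    · simp only [List.mem_cons, List.not_mem_nil, or_false] at he
      rcases he with rfl | rfl
      · rw [hu2, H.sub_left, hwu, show H.h e e = 1 from hu, sub_self]
      · rw [hu2, H.sub_left, show H.h w e = 0 from hwa, show H.h u₁ e = 0 from hua, sub_zero]
  have h0 := proj_eq_zero hfam (by rw [Module.finrank_fin_fun]; simp; omega) d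
  set μ := H.h d b with hμ
  set β := H.h d u₁ with hβ
  have hd2 : H.h d u₂ = -β := by rw [hu2, H.sub_right, show H.h d w = 0 from hdw, zero_sub]
  simp only [proj, h22, hd2, hda, show H.h u₁ u₁ = 1 from hu, show H.h b b = 1 from hb.1,
    zero_div, zero_smul, sub_zero, div_one, neg_div_neg_eq] at h0
  have hdec : d = μ • b + β • w := by
    rw [hμ, hβ, show w = u₂ + u₁ by simp [hu2], smul_add]
    linear_combination (norm := module) h0
  have hμ1 : nm hF μ = 1 := by
    have h := hd.1
    change H.h d d = 1 at h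
    rw [hdec] at h
    simp only [H.add_left, H.add_right, H.smul_left, H.smul_right, show H.h b b = 1 from hb.1,
      show H.h b w = 0 from hbw, show H.h w w = 0 from hiso, H.h_comm_zero (show H.h b w = 0 from hbw)]
      at h
    show μ * qPow hF μ = 1
    rw [← h]
    show μ * qPow hF μ = _
    simp only [show H.conj = qPow hF from rfl]
    ring
  rcases good_or_split (hF := hF) hq β with hg | ⟨β₁, β₂, hsum, hg1, hg2⟩
  · exact D.same_iso_good hcond hm ha hc hlam hw0 hb hd hdec hg
  · set z := μ • b + β₁ • w with hz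
    have hza : H.h z a = 0 := by
      rw [hz, H.add_left, H.smul_left, H.smul_left, hba, show H.h w a = 0 from hwa]; ring
    have hzw : H.h z w = 0 := by
      rw [hz, H.add_left, H.smul_left, H.smul_left, show H.h b w = 0 from hbw,
        show H.h w w = 0 from hiso]; ring
    have hzz : H.h z z = 1 := by
      simp only [hz, H.add_left, H.add_right, H.smul_left, H.smul_right,
        show H.h b b = 1 from hb.1, show H.h b w = 0 from hbw, show H.h w w = 0 from hiso,
        H.h_comm_zero (show H.h b w = 0 from hbw), show H.conj = qPow hF from rfl]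
      change μ * qPow hF μ = 1 at hμ1
      linear_combination hμ1
    have hzc : Common hF a c z := by
      refine ⟨hzz, H.h_comm_zero hza, ?_⟩
      show H.h z c = 0
      rw [show c = hh hF c a • a + w by rw [hw]; abel, H.add_right, H.smul_right, hza, hzw]
      ring
    refine Same.trans D (D.same_iso_good hcond hm ha hc hlam hw0 hb hzc hz hg1)
      (D.same_iso_good hcond hm ha hc hlam hw0 hzc hd (μ := 1) ?_ hg2)
    rw [one_smul, hz, add_assoc, ← add_smul, ← hsum]
    exact hdec

/-- All quadrangles close. -/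
theorem null (hcond : D.Cond) (a c : Fin (m + 1) → F) : D.glue.cover.Null a c := by
  refine D.null_of_same fun ha hc b d hb hd => ?_
  by_cases hw0 : c - hh hF c a • a = 0
  · exact D.same_prop hcond ha hc hw0 hb hd
  by_cases hlam : nm hF (hh hF c a) = 1
  swap
  · exact D.same_nondeg hcond ha hc hlam hb hd
  rcases Nat.lt_or_ge m 4 with hm | hm
  · exact D.same_iso_four hcond (by have := D.hm; omega) ha hc hlam hw0 hb hd
  · exact D.same_iso_big hcond hm ha hc hlam hw0 hb hd

include D in
/-- A vertex orthogonal to the ends of an edge and to a further vertex. -/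
theorem exists_apex {p u v : Fin (m + 1) → F} (hp : hh hF p p = 1) (huv : adj hF u v)
    (h : 4 ≤ m ∨ nm hF (hh hF p u) + nm hF (hh hF p v) ≠ 1) :
    ∃ z, adj hF p z ∧ adj hF z u ∧ adj hF z v := by
  set H := stdHerm hF (m + 1) with hH
  have hm := D.hm
  have hfam : Fam H [u, v] :=
    ⟨by rw [show H.h u u = 1 from huv.1]; exact one_ne_zero,
      fun e he => by rw [List.mem_singleton.1 he]; exact huv.2.2,
      by rw [show H.h v v = 1 from huv.2.1]; exact one_ne_zero, by simp, trivial⟩
  obtain ⟨z, hz, hz', hzp⟩ : ∃ z, H.h z z = 1 ∧ (∀ a ∈ [u, v], H.h z a = 0) ∧ H.h z p = 0 := by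
    by_cases h4 : 4 ≤ m
    · exact exists_unit_perp_vec hfam p (by rw [Module.finrank_fin_fun]; simp; omega)
    refine exists_unit_perp_one hfam (by rw [Module.finrank_fin_fun]; simp; omega) ?_
    simp only [proj, show H.h u u = 1 from huv.1, show H.h v v = 1 from huv.2.1, div_one]
    simp only [H.sub_left, H.sub_right, H.smul_left, H.smul_right, show H.h p p = 1 from hp,
      show H.h u u = 1 from huv.1, show H.h v v = 1 from huv.2.1, show H.h u v = 0 from huv.2.2,
      H.h_comm_zero (show H.h u v = 0 from huv.2.2), show H.conj = qPow hF from rfl]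
    have hs : qPow hF (H.h p u) = H.h u p := qPow_hh p u
    have hs' : qPow hF (H.h p v) = H.h v p := qPow_hh p v
    rw [hs, hs']
    intro h0
    refine h.resolve_left h4 ?_
    simp only [nm, qPow_hh]
    show H.h p u * H.h u p + H.h p v * H.h v p = 1
    linear_combination -h0
  exact ⟨z, ⟨hp, hz, H.h_comm_zero hzp⟩, ⟨hz, huv.1, hz' u (by simp)⟩,
    ⟨hz, huv.2.1, hz' v (by simp)⟩⟩

/-- All pentagons close. -/
theorem edgeOK (hcond : D.Cond) {u v : Fin (m + 1) → F} (huv : adj hF u v) :
    D.glue.cover.EdgeOK D.glue.x₀ u v := by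
  have hnull := D.null hcond
  have hm3 := D.hm
  set x := D.glue.x₀
  set p := D.glue.cover.π x with hpdef
  intro w w' hw hwu hw' hw'v
  change adj hF p w at hw
  change adj hF w u at hwu
  change adj hF p w' at hw'
  change adj hF w' v at hw'v
  have hpp : hh hF p p = 1 := hw.1
  by_cases c1 : 4 ≤ m ∨ nm hF (hh hF p u) + nm hF (hh hF p v) ≠ 1
  · obtain ⟨z, hz, hzu, hzv⟩ := D.exists_apex hpp huv c1
    exact D.glue.cover.edgeOK_base hnull huv hz hzu hzv w w' hw hwu hw' hw'v
  push Not at c1
  obtain ⟨hm4, c1⟩ := c1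
  have base_u : ∀ w, adj hF p w → adj hF w u →
      nm hF (hh hF u w') + nm hF (hh hF u p) ≠ 1 →
      D.glue.cover.nb (D.glue.cover.nb (D.glue.cover.nb x w) u) v =
        D.glue.cover.nb (D.glue.cover.nb x w') v := by
    intro w hw hwu h
    obtain ⟨z, hzu, hzw', hzp⟩ := D.exists_apex huv.1 (adj_symm hF hw') (Or.inr h)
    exact D.glue.cover.edgeOK_mid hnull huv hw hwu hw' hw'v (adj_symm hF hzu) (adj_symm hF hzp) hzw'
  by_cases c2 : nm hF (hh hF u w') + nm hF (hh hF u p) ≠ 1
  · exact base_u w hw hwu c2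
  have base_v : ∀ w, adj hF p w → adj hF w u →
      nm hF (hh hF v p) + nm hF (hh hF v w) ≠ 1 →
      D.glue.cover.nb (D.glue.cover.nb (D.glue.cover.nb x w) u) v =
        D.glue.cover.nb (D.glue.cover.nb x w') v := by
    intro w hw hwu h
    obtain ⟨z, hzv, hzp, hzw⟩ := D.exists_apex huv.2.1 hw (Or.inr h)
    have h1 := D.glue.cover.edgeOK_mid hnull (adj_symm hF huv) hw' hw'v hw hwu (adj_symm hF hzv)
      (adj_symm hF hzp) hzw
    rw [← h1]
    have e1 : D.glue.cover.π (D.glue.cover.nb x w') = w' := D.glue.cover.π_nb x w' hw'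
    have e2 : D.glue.cover.π (D.glue.cover.nb (D.glue.cover.nb x w') v) = v :=
      D.glue.cover.π_nb _ v (by rw [e1]; exact hw'v)
    have := D.glue.cover.back (D.glue.cover.nb (D.glue.cover.nb x w') v) u
      (by rw [e2]; exact adj_symm hF huv)
    rwa [e2] at this
  by_cases c3 : nm hF (hh hF v p) + nm hF (hh hF v w) ≠ 1
  · exact base_v w hw hwu c3
  by_cases c4 : nm hF (hh hF w v) + nm hF (hh hF w w') ≠ 1
  · obtain ⟨z, hzw, hzv, hzw'⟩ := D.exists_apex hw.2.1 (adj_symm hF hw'v) (Or.inr c4)
    exact D.glue.cover.edgeOK_left hnull huv hw hwu hw' hw'v (adj_symm hF hzw) hzv hzw'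
  by_cases c5 : nm hF (hh hF w' u) + nm hF (hh hF w' w) ≠ 1
  · obtain ⟨z, hzw', hzu, hzw⟩ := D.exists_apex hw'.2.1 (adj_symm hF hwu) (Or.inr c5)
    have h1 := D.glue.cover.edgeOK_left hnull (adj_symm hF huv) hw' hw'v hw hwu (adj_symm hF hzw')
      hzu hzw
    rw [← h1]
    have e1 : D.glue.cover.π (D.glue.cover.nb x w') = w' := D.glue.cover.π_nb x w' hw'
    have e2 : D.glue.cover.π (D.glue.cover.nb (D.glue.cover.nb x w') v) = v :=
      D.glue.cover.π_nb _ v (by rw [e1]; exact hw'v)
    have := D.glue.cover.back (D.glue.cover.nb (D.glue.cover.nb x w') v) u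
      (by rw [e2]; exact adj_symm hF huv)
    rwa [e2] at this
  simp only [not_not] at c2 c3 c4 c5
  -- all five diagonals have norm one half: change the vertex `w`
  set H := stdHerm hF (m + 1) with hH
  set X := nm hF (hh hF p u) with hX
  set Y := nm hF (hh hF p v) with hY
  set A := nm hF (hh hF w v) with hA
  have s1 : nm hF (hh hF u p) = X := nm_symm hF u p
  have s2 : nm hF (hh hF v p) = Y := nm_symm hF v p
  have s3 : nm hF (hh hF v w) = A := nm_symm hF v w
  rw [s1] at c2
  rw [s2, s3] at c3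
  rw [nm_symm hF w' u, nm_symm hF w' w] at c5
  have hX2 : (2 : F) * X = 1 := by linear_combination c1 + c2 - c3 - c5 + c4
  have hX1 : X ≠ 1 := fun h => one_ne_zero (α := F) (by
    rw [h] at hX2; linear_combination hX2)
  set g := H.h p u with hg
  obtain ⟨e, he, he', hep⟩ := exists_unit_perp_one (l := [w, u]) (w := p)
    ⟨by rw [show H.h w w = 1 from hw.2.1]; exact one_ne_zero,
      fun z hz => by rw [List.mem_singleton.1 hz]; exact hwu.2.2,
      by rw [show H.h u u = 1 from huv.1]; exact one_ne_zero, by simp, trivial⟩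
    (by rw [Module.finrank_fin_fun]; simp; omega) (by
      simp only [proj, show H.h w w = 1 from hw.2.1, show H.h u u = 1 from huv.1, div_one,
        show H.h p w = 0 from hw.2.2, zero_smul, sub_zero]
      simp only [H.sub_left, H.sub_right, H.smul_left, H.smul_right, show H.h p p = 1 from hpp,
        show H.h u u = 1 from huv.1, show H.conj = qPow hF from rfl]
      intro h0
      apply hX1
      have hs : qPow hF (H.h p u) = H.h u p := qPow_hh p u
      simp only [X, nm]
      rw [hs] at h0
      rw [qPow_hh]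
      show H.h p u * H.h u p = 1
      linear_combination -h0)
  set p1 := p - g • u with hp1
  have hpu : qPow hF g = H.h u p := qPow_hh p u
  have h11 : H.h p1 p1 = 1 - X := by
    simp only [hp1, H.sub_left, H.sub_right, H.smul_left, H.smul_right,
      show H.h p p = 1 from hpp, show H.h u u = 1 from huv.1, show H.conj = qPow hF from rfl, ← hg]
    simp only [X, nm]
    rw [hpu]
    show _ = 1 - H.h p u * H.h u p
    rw [← hg]
    ring
  have h1u : H.h p1 u = 0 := by
    rw [hp1, H.sub_left, H.smul_left, show H.h u u = 1 from huv.1, ← hg]; ring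
  have hfam : Fam H [e, w, p1, u] := by
    refine ⟨by rw [show H.h e e = 1 from he]; exact one_ne_zero, fun z hz => ?_,
      by rw [show H.h w w = 1 from hw.2.1]; exact one_ne_zero, fun z hz => ?_,
      by rw [h11]; exact sub_ne_zero.2 (Ne.symm hX1),
      fun z hz => by rw [List.mem_singleton.1 hz]; exact h1u,
      by rw [show H.h u u = 1 from huv.1]; exact one_ne_zero, by simp, trivial⟩
    · simp only [List.mem_cons, List.not_mem_nil, or_false] at hz
      rcases hz with rfl | rfl | rfl
      · exact he' z (by simp)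
      · rw [hp1, H.sub_right, H.smul_right, show H.h e p = 0 from hep,
          show H.h e u = 0 from he' u (by simp)]; ring
      · exact he' z (by simp)
    · simp only [List.mem_cons, List.not_mem_nil, or_false] at hz
      rcases hz with rfl | rfl
      · rw [hp1, H.sub_right, H.smul_right, show H.h w p = 0 from H.h_comm_zero hw.2.2,
          show H.h w u = 0 from hwu.2.2]; ring
      · exact hwu.2.2
  have h0 := proj_eq_zero hfam (by rw [Module.finrank_fin_fun]; simp; omega) v
  have hpar : H.h (proj H [e, w, p1, u] v) v = 0 := by rw [h0, H.zero_left]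
  have hvu : H.h v u = 0 := H.h_comm_zero huv.2.2
  have hv1 : H.h v p1 = H.h v p := by
    rw [hp1, H.sub_right, H.smul_right, hvu, mul_zero, sub_zero]
  have h1v : H.h p1 v = H.h p v := by
    rw [hp1, H.sub_left, H.smul_left, show H.h u v = 0 from huv.2.2, mul_zero, sub_zero]
  simp only [proj, H.sub_left, H.smul_left, show H.h e e = 1 from he,
    show H.h w w = 1 from hw.2.1, hvu, zero_div, zero_smul, sub_zero, h11, div_one, hv1, h1v,
    show H.h v v = 1 from huv.2.1] at hpar
  have hYe : H.h v p * H.h p v = Y := by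
    simp only [Y, nm]
    rw [qPow_hh, mul_comm]
  have hAe : H.h v w * H.h w v = A := by
    simp only [A, nm]
    rw [qPow_hh, mul_comm]
  have hAn : nm hF (hh hF v e) = -A := by
    rw [nm, qPow_hh]
    show H.h v e * H.h e v = -A
    have h1X : (1 : F) - X ≠ 0 := sub_ne_zero.2 (Ne.symm hX1)
    have hY1 : Y / (1 - X) = 1 := by rw [div_eq_one_iff_eq h1X]; linear_combination c1
    rw [div_mul_eq_mul_div, hYe, hY1] at hpar
    linear_combination -hpar - hAe
  have hwe : adj hF p e := ⟨hpp, he, H.h_comm_zero hep⟩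
  have heu : adj hF e u := ⟨he, huv.1, he' u (by simp)⟩
  rw [hnull _ _ x w e rfl hw hwu hwe heu]
  refine base_v e hwe heu ?_
  rw [hAn, s2]
  intro h
  exact one_ne_zero (α := F) (by linear_combination -hX2 + 2 * c1 - c3 - h)

/-- The covering is trivial. -/
theorem proj_injective (hcond : D.Cond) : Function.Injective D.glue.proj := by
  refine D.glue.cover.injective D.glue.x₀ ?_ (fun u v huv => D.edgeOK hcond huv) D.glue.reach
  intro y
  have hm := D.hm
  have hp : D.glue.cover.π D.glue.x₀ = (E 0 : Fin (m + 1) → F) :=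
    show ((1 : ↥D.glue.R).1.1 • (E 0 : Fin (m + 1) → F)) = E 0 from one_smul _ _
  rw [hp]
  have hy : hh hF (D.glue.cover.π y) (D.glue.cover.π y) = 1 := by
    induction y using QuotientGroup.induction_on with
    | H r =>
      show hh hF (r.1.1 • (E 0 : Fin (m + 1) → F)) (r.1.1 • (E 0 : Fin (m + 1) → F)) = 1
      rw [h_smul_K]; exact on_E
  obtain ⟨w, hw, hw', hwv⟩ := exists_unit_perp_vec
    (H := stdHerm hF (m + 1)) (l := [(E 0 : Fin (m + 1) → F)])
    (ON.fam hF ⟨on_E, by simp, trivial⟩) (D.glue.cover.π y)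
    (by rw [Module.finrank_fin_fun]; simp; omega)
  exact ⟨w, ⟨on_E, hw, (stdHerm hF (m + 1)).h_comm_zero (hw' _ (by simp))⟩, ⟨hw, hy, hwv⟩⟩

/-- **Gluing**: a homomorphism of the special unitary group restricting to the two given ones. -/
theorem exists_glue (hcond : D.Cond) :
    ∃ Φ : ↥(K hF (m + 1)) →* G, (∀ x, Φ (emb hF (Fin.succEmb m) x) = D.φ x) ∧
      ∀ gr, Φ (emb hF D.iE gr) = D.f gr := by
  have hm := D.hm
  have hs01 : adj hF (E 0 : Fin (m + 1) → F) (D.s • E 0) := by
    rw [D.s_E0]; exact adj_E hF fun h => by simpa using congrArg Fin.val h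
  obtain ⟨Φ, hΦ, hΦs⟩ := D.glue.exists_hom (D.proj_injective hcond)
    (gen_K hF (Or.inl (by omega)) _ (fun g hg => Subgroup.subset_closure (Or.inl hg))
      (s := D.s) (Subgroup.subset_closure (Or.inr rfl)) hs01)
  refine ⟨Φ, fun x => ?_, fun gr => ?_⟩
  · exact (hΦ ⟨_, mem_stab_succ x⟩).trans (D.φ0_eq rfl)
  · let S : Subgroup ↥(K hF (t + 1)) := (Φ.comp (emb hF D.iE)).eqLocus D.f
    have hS : S = ⊤ := by
      refine gen_K hF (by have := D.ht; rcases D.hgen with h | h <;> omega) S (fun g hg => ?_)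
        (s := D.sr) hΦs ?_
      · obtain ⟨k, hk, hkf⟩ := D.exists_lift hg
        show Φ (emb hF D.iE g) = D.f g
        rw [← hk, ← hkf]
        exact hΦ k
      · rw [D.sr_E0]; exact adj_E hF fun h => by simpa using congrArg Fin.val h
    have : gr ∈ S := by rw [hS]; trivial
    exact this

end Datum

end CfsgLib.Phan
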