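import Cfsg.Agent.Lib.Phan.Datum

/-!
Quadrangles in the covering: general lemmas, the case of a connected set of common neighbours and
the commutation argument.
-/

set_option autoImplicit false
set_option maxHeartbeats 800000
set_option synthInstance.maxHeartbeats 100000

namespace CfsgLib.Phan

open Module CfsgLib.Classical.Herm HermSpace

variable {F : Type*} [Field F] [Fintype F] {q : ℕ} {hF : Fintype.card F = q ^ 2}

/-- The common neighbours of `a` and `c`, as unit vectors orthogonal to both. -/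
def Common {n : ℕ} (hF : Fintype.card F = q ^ 2) (a c v : Fin n → F) : Prop :=
  hh hF v v = 1 ∧ hh hF a v = 0 ∧ hh hF v c = 0

theorem ortho_w {n : ℕ} {a c v : Fin n → F} (hv : Common hF a c v) :
    hh hF v (c - hh hF c a • a) = 0 := by
  have h1 : hh hF v a = 0 := (stdHerm hF n).h_comm_zero hv.2.1
  show (stdHerm hF n).h v _ = 0
  rw [(stdHerm hF n).sub_right, (stdHerm hF n).smul_right,
    show (stdHerm hF n).h v c = 0 from hv.2.2, show (stdHerm hF n).h v a = 0 from h1]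
  ring

/-- The component of `c` orthogonal to `a`. -/
theorem w_facts {n : ℕ} {a c : Fin n → F} (ha : hh hF a a = 1) (hc : hh hF c c = 1) :
    hh hF (c - hh hF c a • a) a = 0 ∧
      hh hF (c - hh hF c a • a) (c - hh hF c a • a) = 1 - nm hF (hh hF c a) := by
  have h : qPow hF ((stdHerm hF n).h c a) = (stdHerm hF n).h a c := (stdHerm hF n).symm' c a
  simp only [hh] at ha hc ⊢
  constructor
  · rw [(stdHerm hF n).sub_left, (stdHerm hF n).smul_left, ha]; ring
  · simp only [(stdHerm hF n).sub_left, (stdHerm hF n).sub_right, (stdHerm hF n).smul_left,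
      (stdHerm hF n).smul_right, conj_eq, ha, hc, ← h, nm]
    ring

theorem conj_commute_aux {X : Type*} [Group X] (a b c : X) (h : b * c = c * b) :
    a * b * a⁻¹ * (a * c * a⁻¹) = a * c * a⁻¹ * (a * b * a⁻¹) := by
  have e : ∀ u v : X, a * u * a⁻¹ * (a * v * a⁻¹) = a * (u * v) * a⁻¹ := fun u v => by group
  rw [e, e, h]

theorem glue_quad {Hg G Vx : Type*} [Group Hg] [Group G] [MulAction Hg Vx] (Q : Glue Hg G Vx)
    (g h : ↥Q.R) {b c d : Vx} (hgy : g • Q.nbr Q.x₀ b = Q.nbr Q.x₀ b) (hhx : h • Q.x₀ = Q.x₀)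
    (hcomm : g * h = h * g) (hga : g.1.1 • Q.p = c) (hab : Q.adj Q.p b) (hbc : Q.adj b c)
    (hbd : h.1.1 • b = d) (hcc : h.1.1 • c = c) :
    Q.nbr (Q.nbr Q.x₀ b) c = Q.nbr (Q.nbr Q.x₀ d) c := by
  have hp : Q.proj Q.x₀ = Q.p := by simp [Glue.x₀]
  have hab' : Q.adj (Q.proj Q.x₀) b := by rwa [hp]
  set y := Q.nbr Q.x₀ b with hy
  have hπy : Q.proj y = b := Q.proj_nbr _ _ hab'
  have hgx : g • Q.x₀ = Q.nbr y c := by
    have hback : Q.nbr y (Q.proj Q.x₀) = Q.x₀ := Q.back_mk Q.x₀ b hab'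
    rw [hp] at hback
    conv_lhs => rw [← hback]
    rw [Q.nbr_smul g y (by rw [hπy]; exact Q.adj_symm _ _ hab), hgy, hga]
  have hhz : h • Q.nbr y c = Q.nbr y c := by
    rw [← hgx, ← mul_smul, ← hcomm, mul_smul, hhx]
  rw [← hhz, Q.nbr_smul h y (by rw [hπy]; exact hbc), hy, Q.nbr_smul h Q.x₀ hab', hhx, hbd, hcc]

namespace Datum

variable {G : Type*} [Group G] {m t : ℕ} (D : Datum hF G m t)

/-- The end of the lifted path `π x — v — c`. -/
noncomputable def T (x : D.glue.Pt) (c v : Fin (m + 1) → F) : D.glue.Pt :=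
  D.glue.nbr (D.glue.nbr x v) c

/-- Two common neighbours with the same lift. -/
def Same (a c b d : Fin (m + 1) → F) : Prop :=
  ∀ x : D.glue.Pt, D.glue.proj x = a → D.T x c b = D.T x c d

theorem null_of_same {a c : Fin (m + 1) → F}
    (h : hh hF a a = 1 → hh hF c c = 1 → ∀ b d, Common hF a c b → Common hF a c d →
      D.Same a c b d) : D.glue.cover.Null a c := by
  intro x b d hx hab hbc had hdc
  exact h hab.1 hbc.2.1 b d ⟨hbc.1, hab.2.2, hbc.2.2⟩ ⟨hdc.1, had.2.2, hdc.2.2⟩ x hx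

theorem same_adj {a c b d : Fin (m + 1) → F} (ha : hh hF a a = 1) (hc : hh hF c c = 1)
    (hb : Common hF a c b) (hd : Common hF a c d) (hbd : hh hF b d = 0) : D.Same a c b d := by
  intro x hx
  refine D.glue.cover.via_mid ?_ ⟨hb.1, hc, hb.2.2⟩ ?_ ⟨hd.1, hc, hd.2.2⟩ ⟨hb.1, hd.1, hbd⟩
  · show adj hF (D.glue.proj x) b
    rw [hx]; exact ⟨ha, hb.1, hb.2.1⟩
  · show adj hF (D.glue.proj x) d
    rw [hx]; exact ⟨ha, hd.1, hd.2.1⟩

theorem Same.trans {a c b d e : Fin (m + 1) → F} (h : D.Same a c b d) (h' : D.Same a c d e) :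
    D.Same a c b e := fun x hx => (h x hx).trans (h' x hx)

theorem same_zero {a c b d : Fin (m + 1) → F} (ha : hh hF a a = 1) (hc : hh hF c c = 1)
    (hac : hh hF a c = 0) (hb : Common hF a c b) (hd : Common hF a c d) : D.Same a c b d := by
  intro x hx
  have key : ∀ v, Common hF a c v → D.T x c v = D.glue.nbr x c := by
    intro v hv
    refine D.glue.cover.tri x v c ?_ ?_ ⟨hv.1, hc, hv.2.2⟩
    · show adj hF (D.glue.proj x) v
      rw [hx]; exact ⟨ha, hv.1, hv.2.1⟩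
    · show adj hF (D.glue.proj x) c
      rw [hx]; exact ⟨ha, hc, hac⟩
  rw [key b hb, key d hd]

/-- Connected common neighbourhoods. -/
theorem same_conn {a c : Fin (m + 1) → F} (ha : hh hF a a = 1) (hc : hh hF c c = 1)
    {l : List (Fin (m + 1) → F)} (hl : Fam (stdHerm hF (m + 1)) l)
    (hsize : l.length + 3 < m + 1 ∨ (3 ≤ q ∧ l.length + 2 < m + 1))
    (hcommon : ∀ v, hh hF v v = 1 → (∀ e ∈ l, hh hF v e = 0) → Common hF a c v)
    {b d : Fin (m + 1) → F} (hb : hh hF b b = 1) (hd : hh hF d d = 1)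
    (hbl : ∀ e ∈ l, hh hF b e = 0) (hdl : ∀ e ∈ l, hh hF d e = 0) : D.Same a c b d :=
  conn hF hl hsize (fun v => D.Same a c b v)
    (fun u v huv hul hvl h => Same.trans D h
      (D.same_adj ha hc (hcommon u huv.1 hul) (hcommon v huv.2.1 hvl) huv.2.2))
    hb hd hbl hdl (fun _ _ => rfl)

/-- Moving a configuration to the base point. -/
theorem exists_move (x : D.glue.Pt) {l l' : List (Fin (m + 1) → F)}
    (hl : ON hF ((E 0 : Fin (m + 1) → F) :: l)) (hl' : ON hF (D.glue.proj x :: l'))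
    (hlen : l.length = l'.length) (hn : l.length + 1 < m + 1) :
    ∃ r : ↥D.glue.R, r • D.glue.x₀ = x ∧ r.1.1 • (E 0 : Fin (m + 1) → F) = D.glue.proj x ∧
      l.map (fun v => r.1.1 • v) = l' := by
  induction x using QuotientGroup.induction_on with
  | H r₀ =>
    have hON : ∀ (g : ↥(K hF (m + 1))) (L : List (Fin (m + 1) → F)), ON hF L →
        ON hF (L.map (g • ·)) := by
      intro g L
      induction L with
      | nil => exact fun _ => trivial
      | cons e L ih =>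
        rintro ⟨h1, h2, h3⟩
        refine ⟨by rw [h_smul_K]; exact h1, ?_, ih h3⟩
        intro a ha
        obtain ⟨b, hb, rfl⟩ := List.mem_map.1 ha
        rw [h_smul_K]; exact h2 b hb
    have hp : D.glue.proj (QuotientGroup.mk r₀) = r₀.1.1 • (E 0 : Fin (m + 1) → F) := rfl
    rw [hp] at hl' ⊢
    obtain ⟨g, hg⟩ := exists_K_map hF (l := (E 0 : Fin (m + 1) → F) :: l)
      (l' := (r₀.1.1 • (E 0 : Fin (m + 1) → F) :: l').map (r₀.1.1⁻¹ • ·)) hl (hON _ _ hl')
      (by simp [hlen]) (by simpa using hn)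
    rw [List.map_cons, List.map_cons, inv_smul_smul, List.cons.injEq] at hg
    let k : ↥(MulAction.stabilizer ↥(K hF (m + 1)) (E 0 : Fin (m + 1) → F)) :=
      ⟨g, MulAction.mem_stabilizer_iff.2 hg.1⟩
    refine ⟨r₀ * D.glue.inK k, ?_, ?_, ?_⟩
    · show (QuotientGroup.mk (r₀ * D.glue.inK k * 1) : D.glue.Pt) = QuotientGroup.mk r₀
      rw [mul_one]
      exact D.glue.mk_mul_inK r₀ k
    · show (r₀.1.1 * g) • (E 0 : Fin (m + 1) → F) = r₀.1.1 • E 0
      rw [mul_smul, hg.1]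
    · show l.map (fun v => (r₀.1.1 * g) • v) = l'
      have h2 := congrArg (List.map (r₀.1.1 • ·)) hg.2
      rw [List.map_map, List.map_map] at h2
      calc l.map (fun v => (r₀.1.1 * g) • v) = _ := List.map_congr_left fun v _ => mul_smul _ _ _
        _ = _ := h2
        _ = l' := by
          conv_rhs => rw [← List.map_id l']
          exact List.map_congr_left fun v _ => smul_inv_smul _ v

theorem T_smul (r : ↥D.glue.R) {c v : Fin (m + 1) → F}
    (h1 : adj hF (E 0 : Fin (m + 1) → F) v) (h2 : adj hF v c) :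
    r • D.T D.glue.x₀ c v = D.T (r • D.glue.x₀) (r.1.1 • c) (r.1.1 • v) := by
  have hp : D.glue.proj D.glue.x₀ = (E 0 : Fin (m + 1) → F) :=
    show ((1 : ↥D.glue.R).1.1 • (E 0 : Fin (m + 1) → F)) = E 0 from one_smul _ _
  have a1 : D.glue.adj (D.glue.proj D.glue.x₀) v := by rw [hp]; exact h1
  show r • D.glue.nbr (D.glue.nbr D.glue.x₀ v) c = _
  rw [D.glue.nbr_smul r (D.glue.nbr D.glue.x₀ v) (by rw [D.glue.proj_nbr _ _ a1]; exact h2),
    D.glue.nbr_smul r D.glue.x₀ a1]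
  rfl

set_option maxHeartbeats 4000000 in
/-- The commutation argument. -/
theorem quad_comm (T₁ h : ↥(MulAction.stabilizer ↥(K hF (m + 1)) (E 0 : Fin (m + 1) → F)))
    (gr k : ↥(K hF (t + 1))) (hk : k • (E 0 : Fin (t + 1) → F) = E 0) {b c d : Fin (m + 1) → F}
    (hgr : gr • (k • (E ⟨1, have := D.ht; by omega⟩ : Fin (t + 1) → F)) =
      k • E ⟨1, have := D.ht; by omega⟩)
    (hb : (T₁ : ↥(K hF (m + 1))) •
      ext0 D.iE (k • (E ⟨1, have := D.ht; by omega⟩ : Fin (t + 1) → F)) = b)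
    (hc : (T₁ : ↥(K hF (m + 1))) • ext0 D.iE (gr • (E 0 : Fin (t + 1) → F)) = c)
    (hab : adj hF (E 0 : Fin (m + 1) → F) b) (hbc : adj hF b c)
    (hbd : (h : ↥(K hF (m + 1))) • b = d) (hcc : (h : ↥(K hF (m + 1))) • c = c)
    (hcom : Commute (emb hF D.iE gr) ((T₁⁻¹ * h * T₁ :
      ↥(MulAction.stabilizer ↥(K hF (m + 1)) (E 0 : Fin (m + 1) → F))) : ↥(K hF (m + 1))))
    (hcomG : Commute (D.f gr) (D.φ0 (T₁⁻¹ * h * T₁))) :
    D.T D.glue.x₀ c b = D.T D.glue.x₀ c d := by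
  set v := ext0 D.iE (k • (E ⟨1, have := D.ht; by omega⟩ : Fin (t + 1) → F))
  set w : ↥(MulAction.stabilizer ↥(K hF (m + 1)) (E 0 : Fin (m + 1) → F)) := T₁⁻¹ * h * T₁ with hw
  have hp : D.glue.proj D.glue.x₀ = (E 0 : Fin (m + 1) → F) :=
    show ((1 : ↥D.glue.R).1.1 • (E 0 : Fin (m + 1) → F)) = E 0 from one_smul _ _
  have hx : ∀ j : ↥(MulAction.stabilizer ↥(K hF (m + 1)) (E 0 : Fin (m + 1) → F)),
      D.glue.inK j • D.glue.x₀ = D.glue.x₀ := by
    intro j
    show (QuotientGroup.mk (D.glue.inK j * 1) : D.glue.Pt) = QuotientGroup.mk 1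
    rw [mul_one]
    simpa using D.glue.mk_mul_inK 1 j
  set g : ↥D.glue.R := D.glue.inK T₁ * D.inF gr * (D.glue.inK T₁)⁻¹ with hg
  have hv : adj hF (E 0 : Fin (m + 1) → F) v := by
    have := adj_smul hF (T₁ : ↥(K hF (m + 1)))⁻¹ hab
    rwa [← hb, inv_smul_smul, inv_smul_eq_iff.2 (MulAction.mem_stabilizer_iff.1 T₁.2).symm] at this
  set y := D.glue.nbr D.glue.x₀ b with hy
  have hTy : D.glue.inK T₁ • D.glue.nbr D.glue.x₀ v = y := by
    rw [D.glue.nbr_smul _ _ (by rw [hp]; exact hv), hx, hy, ← hb]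
    rfl
  have hgy : g • y = y := by
    rw [hg, mul_smul, mul_smul, ← hTy, inv_smul_smul]
    congr 1
    exact D.inF_fix hk hgr
  have hga : g.1.1 • (E 0 : Fin (m + 1) → F) = c := by
    show ((T₁ : ↥(K hF (m + 1))) * emb hF D.iE gr * (T₁ : ↥(K hF (m + 1)))⁻¹) • E 0 = c
    have h0 : (E 0 : Fin (m + 1) → F) = ext0 D.iE (E 0) := by rw [iE_E]; rfl
    rw [mul_smul, mul_smul, inv_smul_eq_iff.2 (MulAction.mem_stabilizer_iff.1 T₁.2).symm]
    have h1 : emb hF D.iE gr • (E 0 : Fin (m + 1) → F) = ext0 D.iE (gr • (E 0 : Fin (t + 1) → F)) := by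
      rw [h0, emb_ext0]
    rw [h1]
    exact hc
  set hR : ↥D.glue.R := D.glue.inK h with hhR
  have hcomm : g * hR = hR * g := by
    have e0 : h = T₁ * w * T₁⁻¹ := by rw [hw]; group
    have e1 : hR = D.glue.inK T₁ * D.glue.inK w * (D.glue.inK T₁)⁻¹ :=
      (congrArg D.glue.inK e0).trans ((D.glue.inK_mul (T₁ * w) T₁⁻¹).trans
        (congrArg₂ (· * ·) (D.glue.inK_mul T₁ w) (D.glue.inK_inv T₁)))
    have e2 : D.inF gr * D.glue.inK w = D.glue.inK w * D.inF gr :=
      Subtype.ext (Prod.ext hcom.eq hcomG.eq)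
    rw [hg, e1]
    exact conj_commute_aux (D.glue.inK T₁) (D.inF gr) (D.glue.inK w) e2
  exact glue_quad D.glue g hR hgy (hx h) hcomm hga hab hbc hbd hcc

end Datum

end CfsgLib.Phan
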