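import Cfsg.Agent.Lib.Phan.NullQuad

/-!
All quadrangles and pentagons of the covering close.
-/

set_option autoImplicit false
set_option maxHeartbeats 1600000
set_option synthInstance.maxHeartbeats 100000

namespace CfsgLib.Phan

open Module CfsgLib.Classical.Herm HermSpace

variable {F : Type*} [Field F] [Fintype F] {q : ℕ} {hF : Fintype.card F = q ^ 2}

namespace Datum

variable {G : Type*} [Group G] {m t : ℕ} (D : Datum hF G m t)

/-- The numerical conditions under which the covering is trivial. -/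
def Cond : Prop :=
  (m = 3 ∧ t = 2 ∧ 4 ≤ q) ∨ (4 ≤ m ∧ 3 ≤ q) ∨ (4 ≤ m ∧ q = 2 ∧ D.Comm6)

/-- Pairs spanning a non-degenerate line, dimension four. -/
theorem same_four (hm : m = 3) (ht : t = 2) {a c b d : Fin (m + 1) → F} (ha : hh hF a a = 1)
    (hc : hh hF c c = 1) (hne : nm hF (hh hF c a) ≠ 1) (hb : Common hF a c b)
    (hd : Common hF a c d) : D.Same a c b d := by
  intro x hx
  set H := stdHerm hF (m + 1) with hH
  obtain ⟨hwa, hww⟩ := w_facts ha hc
  set w := c - hh hF c a • a with hw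
  have hw0 : hh hF w w ≠ 0 := by rw [hww]; exact sub_ne_zero.2 (Ne.symm hne)
  obtain ⟨μ, hμ0, hμ⟩ : ∃ μ : F, μ ≠ 0 ∧ hh hF (μ • w) (μ • w) = 1 := by
    obtain ⟨μ, hμ⟩ := exists_norm_eq hF (hh hF w w)⁻¹ (by
      rw [map_inv₀]; congr 1; exact H.conj_diag w)
    refine ⟨μ, fun h0 => inv_ne_zero hw0 (by rw [← hμ, h0, zero_mul]), ?_⟩
    change H.h _ _ = 1
    rw [H.smul_left, H.smul_right, ← mul_assoc]
    change μ * qPow hF μ * hh hF w w = 1
    rw [hμ, inv_mul_cancel₀ hw0]
  have hab : hh hF b a = 0 := H.h_comm_zero hb.2.1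
  have hbw : hh hF b w = 0 := ortho_w hb
  obtain ⟨r, hr0, hrE, hrl⟩ := D.exists_move x
    (l := [(E ⟨1, by omega⟩ : Fin (m + 1) → F), E ⟨2, by omega⟩]) (l' := [b, μ • w])
    ⟨on_E, fun e he => by
      simp only [List.mem_cons, List.not_mem_nil, or_false] at he
      rcases he with rfl | rfl <;> exact E01 (by simp),
     on_E, fun e he => by rw [List.mem_singleton.1 he]; exact E01 (by simp), on_E, by simp, trivial⟩
    (by
      rw [hx]
      refine ⟨ha, fun e he => ?_, hb.1, fun e he => ?_, hμ, by simp, trivial⟩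
      · simp only [List.mem_cons, List.not_mem_nil, or_false] at he
        rcases he with rfl | rfl
        · exact hb.2.1
        · show H.h a _ = 0
          rw [H.smul_right, show H.h a w = 0 from H.h_comm_zero hwa, mul_zero]
      · rw [List.mem_singleton.1 he]
        show H.h b _ = 0
        rw [H.smul_right, show H.h b w = 0 from hbw, mul_zero])
    rfl (by simp; omega)
  simp only [List.map_cons, List.map_nil, List.cons.injEq, and_true] at hrl
  obtain ⟨hr1, hr2⟩ := hrl
  rw [hx] at hrE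
  set g := r.1.1 with hg
  have hc0 : g⁻¹ • c = hh hF c a • (E 0 : Fin (m + 1) → F) +
      μ⁻¹ • (E ⟨2, by omega⟩ : Fin (m + 1) → F) := by
    rw [inv_smul_eq_iff, smul_add_K, smul_smul_K, smul_smul_K, hrE, hr2, smul_smul,
      inv_mul_cancel₀ hμ0, one_smul, hw, add_sub_cancel]
  have hd0 : Common hF (E 0 : Fin (m + 1) → F) (g⁻¹ • c) (g⁻¹ • d) := by
    refine ⟨by rw [h_smul_K]; exact hd.1, ?_, by rw [h_smul_K]; exact hd.2.2⟩
    rw [← h_smul_K hF g, hrE, smul_inv_smul]
    exact hd.2.1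
  have key := D.four_base hm ht hc0 (by rw [h_smul_K]; exact hc) (inv_ne_zero hμ0) hd0
  have hadj1 : adj hF (E 0 : Fin (m + 1) → F) (E ⟨1, by omega⟩) :=
    adj_E hF fun e => by simpa using congrArg Fin.val e
  have hadj2 : adj hF (E ⟨1, by omega⟩ : Fin (m + 1) → F) (g⁻¹ • c) := by
    refine ⟨on_E, by rw [h_smul_K]; exact hc, ?_⟩
    rw [← h_smul_K hF g, hr1, smul_inv_smul]
    exact hb.2.2
  have h1 := D.T_smul r hadj1 hadj2
  have h2 := D.T_smul r (c := g⁻¹ • c) (v := g⁻¹ • d) ⟨on_E, hd0.1, hd0.2.1⟩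
    ⟨hd0.1, by rw [h_smul_K]; exact hc, hd0.2.2⟩
  rw [hr0, ← hg, smul_inv_smul, hr1] at h1
  rw [hr0, ← hg, smul_inv_smul, smul_inv_smul] at h2
  rw [← h1, ← h2, key]

/-- Dimension six over the field with four elements. -/
theorem same_six (hm : m = 5) (hq : q = 2) (h6 : D.Comm6) {a c b d u₁ : Fin (m + 1) → F}
    (ha : hh hF a a = 1) (hc : hh hF c c = 1) (hu : hh hF u₁ u₁ = 1) (hua : hh hF u₁ a = 0)
    (huw : hh hF u₁ (c - hh hF c a • a) = 1)
    (hiso : hh hF (c - hh hF c a • a) (c - hh hF c a • a) = 0)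
    (hb : hh hF b b = 1) (hd : hh hF d d = 1)
    (hbR : ∀ e ∈ [c - hh hF c a • a - u₁, u₁, a], hh hF b e = 0)
    (hdR : ∀ e ∈ [c - hh hF c a • a - u₁, u₁, a], hh hF d e = 0) : D.Same a c b d := by
  intro x hx
  set H := stdHerm hF (m + 1) with hH
  have two0 : (2 : F) = 0 := by
    have h := FiniteField.cast_card_eq_zero F
    rw [hF, hq] at h
    push_cast at h
    exact mul_self_eq_zero.1 (show (2 : F) * 2 = 0 by linear_combination h)
  set w := c - hh hF c a • a with hw
  have hwa : hh hF w a = 0 := (w_facts ha hc).1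
  have hwu : H.h w u₁ = 1 := H.h_comm_one huw
  set u₂ := w - u₁ with hu2
  have h22 : hh hF u₂ u₂ = 1 := by
    show H.h (w - u₁) (w - u₁) = 1
    simp only [H.sub_left, H.sub_right, show H.h w w = 0 from hiso, hwu,
      show H.h u₁ w = 1 from huw, show H.h u₁ u₁ = 1 from hu]
    linear_combination -two0
  have h12 : hh hF u₁ u₂ = 0 := by
    show H.h u₁ (w - u₁) = 0
    rw [H.sub_right, show H.h u₁ w = 1 from huw, show H.h u₁ u₁ = 1 from hu, sub_self]
  have ha1 : hh hF a u₁ = 0 := H.h_comm_zero hua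
  have ha2 : hh hF a u₂ = 0 := by
    show H.h a (w - u₁) = 0
    rw [H.sub_right, show H.h a w = 0 from H.h_comm_zero hwa, show H.h a u₁ = 0 from ha1, sub_zero]
  obtain ⟨r, hr0, hrE, hrl⟩ := D.exists_move x
    (l := [(E ⟨1, by omega⟩ : Fin (m + 1) → F), E ⟨4, by omega⟩, E ⟨5, by omega⟩])
    (l' := [b, u₁, u₂])
    ⟨on_E, fun e he => by
      simp only [List.mem_cons, List.not_mem_nil, or_false] at he
      rcases he with rfl | rfl | rfl <;> exact E01 (by simp),
     on_E, fun e he => by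
      simp only [List.mem_cons, List.not_mem_nil, or_false] at he
      rcases he with rfl | rfl <;> exact E01 (by simp),
     on_E, fun e he => by rw [List.mem_singleton.1 he]; exact E01 (by simp), on_E, by simp, trivial⟩
    (by
      rw [hx]
      refine ⟨ha, fun e he => ?_, hb, fun e he => ?_, hu, fun e he => ?_, h22, by simp, trivial⟩
      · simp only [List.mem_cons, List.not_mem_nil, or_false] at he
        rcases he with rfl | rfl | rfl
        exacts [H.h_comm_zero (hbR a (by simp)), ha1, ha2]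
      · simp only [List.mem_cons, List.not_mem_nil, or_false] at he
        rcases he with rfl | rfl
        exacts [hbR _ (by simp), hbR _ (by simp)]
      · rw [List.mem_singleton.1 he]; exact h12)
    rfl (by simp; omega)
  simp only [List.map_cons, List.map_nil, List.cons.injEq, and_true] at hrl
  obtain ⟨hr1, hr4, hr5⟩ := hrl
  rw [hx] at hrE
  set g := r.1.1 with hg
  have hc0 : g⁻¹ • c = hh hF c a • (E 0 : Fin (m + 1) → F) +
      ((E ⟨4, by omega⟩ : Fin (m + 1) → F) + (E ⟨5, by omega⟩ : Fin (m + 1) → F)) := by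
    rw [inv_smul_eq_iff, smul_add_K, smul_add_K, smul_smul_K, hrE, hr4, hr5, hu2, hw]
    abel
  have hpull : ∀ (e : Fin (m + 1) → F), hh hF (g⁻¹ • d) e = hh hF d (g • e) := fun e => by
    rw [← h_smul_K hF g, smul_inv_smul]
  have key := D.six_base hm h6 hc0 (by rw [h_smul_K]; exact hc)
    (d := g⁻¹ • d) (by rw [h_smul_K]; exact hd)
    (by rw [hpull, hrE]; exact hdR a (by simp))
    (by rw [hpull, hr4]; exact hdR u₁ (by simp))
    (by rw [hpull, hr5]; exact hdR u₂ (by simp))
  have hcv : ∀ v, (∀ e ∈ [u₂, u₁, a], hh hF v e = 0) → hh hF v c = 0 := fun v hv => by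
    have e : c = hh hF c a • a + (u₁ + u₂) := by rw [hu2, hw]; abel
    rw [e]
    show H.h v _ = 0
    rw [H.add_right, H.add_right, H.smul_right, show H.h v a = 0 from hv a (by simp),
      show H.h v u₁ = 0 from hv u₁ (by simp), show H.h v u₂ = 0 from hv u₂ (by simp)]
    ring
  have h1 := D.T_smul r (c := g⁻¹ • c) (v := (E ⟨1, by omega⟩ : Fin (m + 1) → F))
    (adj_E hF fun e => by simpa using congrArg Fin.val e)
    ⟨on_E, by rw [h_smul_K]; exact hc,
      by rw [← h_smul_K hF g, hr1, smul_inv_smul]; exact hcv b hbR⟩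
  have h2 := D.T_smul r (c := g⁻¹ • c) (v := g⁻¹ • d)
    ⟨on_E, by rw [h_smul_K]; exact hd,
      by rw [← h_smul_K hF g, hrE, smul_inv_smul]; exact H.h_comm_zero (hdR a (by simp))⟩
    ⟨by rw [h_smul_K]; exact hd, by rw [h_smul_K]; exact hc,
      by rw [h_smul_K]; exact hcv d hdR⟩
  rw [hr0, ← hg, smul_inv_smul, hr1] at h1
  rw [hr0, ← hg, smul_inv_smul, smul_inv_smul] at h2
  rw [← h1, ← h2, key]

/-- Pairs spanning a non-degenerate line. -/
theorem same_nondeg (hcond : D.Cond) {a c b d : Fin (m + 1) → F} (ha : hh hF a a = 1)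
    (hc : hh hF c c = 1) (hne : nm hF (hh hF c a) ≠ 1) (hb : Common hF a c b)
    (hd : Common hF a c d) : D.Same a c b d := by
  by_cases h0 : hh hF c a = 0
  · exact D.same_zero ha hc ((stdHerm hF (m + 1)).h_comm_zero h0) hb hd
  rcases hcond with ⟨hm, ht, -⟩ | ⟨hm, hq⟩ | ⟨hm, hq, -⟩
  · exact D.same_four hm ht ha hc hne hb hd
  · obtain ⟨hwa, hww⟩ := w_facts ha hc
    refine D.same_conn ha hc (l := [c - hh hF c a • a, a])
      ⟨by
        show hh hF _ _ ≠ 0
        rw [hww]; exact sub_ne_zero.2 (Ne.symm hne),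
       fun e he => by rw [List.mem_singleton.1 he]; exact hwa,
       by rw [show (stdHerm hF (m + 1)).h a a = 1 from ha]; exact one_ne_zero, by simp, trivial⟩
      (Or.inr ⟨hq, by simp; omega⟩) (fun v hv hvl => ?_) hb.1 hd.1 ?_ ?_
    · have h1 := hvl _ (List.mem_cons_self ..)
      have h2 : hh hF v a = 0 := hvl a (by simp)
      refine ⟨hv, (stdHerm hF (m + 1)).h_comm_zero h2, ?_⟩
      change (stdHerm hF (m + 1)).h _ _ = 0 at h1 h2 ⊢
      rw [(stdHerm hF (m + 1)).sub_right, (stdHerm hF (m + 1)).smul_right, h2, mul_zero, sub_zero]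
        at h1
      exact h1
    · intro e he
      simp only [List.mem_cons, List.not_mem_nil, or_false] at he
      rcases he with rfl | rfl
      exacts [ortho_w hb, (stdHerm hF (m + 1)).h_comm_zero hb.2.1]
    · intro e he
      simp only [List.mem_cons, List.not_mem_nil, or_false] at he
      rcases he with rfl | rfl
      exacts [ortho_w hd, (stdHerm hF (m + 1)).h_comm_zero hd.2.1]
  · rcases fixed_two hF hq (nm_fixed hF (hh hF c a)) with h | h
    · exact absurd (nm_eq_zero hF h) h0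
    · exact absurd h hne

end Datum

end CfsgLib.Phan
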