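import Cfsg.Agent.Lib.Phan.NullBase

/-!
The two uses of the commutation argument: non-degenerate pairs in dimension four, and dimension six
over the field with four elements.
-/

set_option autoImplicit false
set_option maxHeartbeats 1600000
set_option synthInstance.maxHeartbeats 100000

namespace CfsgLib.Phan

open Module CfsgLib.Classical.Herm HermSpace

variable {F : Type*} [Field F] [Fintype F] {q : ℕ} {hF : Fintype.card F = q ^ 2}

omit [Fintype F] in
theorem ext0_add' {a n : ℕ} (e : Fin a ↪ Fin n) (x y : Fin a → F) :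
    ext0 e (x + y) = ext0 e x + ext0 e y := by
  funext j
  by_cases hj : ∃ i, e i = j
  · obtain ⟨i, rfl⟩ := hj; simp [ext0_apply]
  · push Not at hj; simp [ext0_off e _ hj]

omit [Fintype F] in
theorem ext0_smul' {a n : ℕ} (e : Fin a ↪ Fin n) (c : F) (x : Fin a → F) :
    ext0 e (c • x) = c • ext0 e x := by
  funext j
  by_cases hj : ∃ i, e i = j
  · obtain ⟨i, rfl⟩ := hj; simp [ext0_apply]
  · push Not at hj; simp [ext0_off e _ hj]

namespace Datum

variable {G : Type*} [Group G] {m t : ℕ} (D : Datum hF G m t)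

/-- The extra commutation needed in dimension six over the field with four elements. -/
def Comm6 : Prop :=
  m = 5 → ∃ ht : t = 3, ∀ (u : ↥(K hF 3)) (x : ↥(K hF m)),
    x • (E ⟨0, have := D.hm; by omega⟩ : Fin m → F) = E ⟨0, have := D.hm; by omega⟩ →
    x • (E ⟨1, have := D.hm; by omega⟩ : Fin m → F) = E ⟨1, have := D.hm; by omega⟩ →
      Commute (D.f (emb hF (Fin.castLEEmb (show 3 ≤ t + 1 by omega)) u)) (D.φ x)

theorem four_base (hm : m = 3) (ht : t = 2) {μ ν : F} {c d : Fin (m + 1) → F}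
    (hc : c = μ • (E 0 : Fin (m + 1) → F) + ν • (E ⟨2, by omega⟩ : Fin (m + 1) → F)) (hc1 : hh hF c c = 1)
    (hν : ν ≠ 0) (hd : Common hF (E 0 : Fin (m + 1) → F) c d) :
    D.T D.glue.x₀ c (E ⟨1, by omega⟩) = D.T D.glue.x₀ c d := by
  subst ht
  set e1 : Fin (m + 1) → F := E ⟨1, by omega⟩
  set e2 : Fin (m + 1) → F := E ⟨2, by omega⟩
  have hd0 : hh hF d (E 0 : Fin (m + 1) → F) = 0 := (stdHerm hF (m + 1)).h_comm_zero hd.2.1
  have hd2 : hh hF d e2 = 0 := by
    have h := hd.2.2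
    rw [hc] at h
    simp only [hh, (stdHerm hF (m + 1)).add_right, (stdHerm hF (m + 1)).smul_right] at h hd0 ⊢
    rw [hd0, mul_zero, zero_add, mul_eq_zero] at h
    exact h.resolve_left (by rw [conj_eq]; exact fun h0 => hν ((map_eq_zero _).1 h0))
  obtain ⟨h, hh1, hh2⟩ := exists_K_fix hF (l := [(E 0 : Fin (m + 1) → F), e2]) (u := e1) (v := d)
    (ON.fam hF ⟨on_E, fun a ha => by rw [List.mem_singleton.1 ha]; exact E01 (by simp),
      on_E, by simp, trivial⟩) on_E hd.1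
    (fun a ha => by
      simp only [List.mem_cons, List.not_mem_nil, or_false] at ha
      rcases ha with rfl | rfl <;> exact E01 (by simp))
    (fun a ha => by
      simp only [List.mem_cons, List.not_mem_nil, or_false] at ha
      rcases ha with rfl | rfl
      exacts [hd0, hd2])
    (by simp; omega)
  obtain ⟨T₁, hT⟩ := exists_K_map hF (l := [(E 0 : Fin (m + 1) → F), e1, e2])
    (l' := [(E 0 : Fin (m + 1) → F), e2, e1])
    ⟨on_E, fun a ha => by
      simp only [List.mem_cons, List.not_mem_nil, or_false] at ha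
      rcases ha with rfl | rfl <;> exact E01 (by simp),
     on_E, fun a ha => by rw [List.mem_singleton.1 ha]; exact E01 (by simp), on_E, by simp, trivial⟩
    ⟨on_E, fun a ha => by
      simp only [List.mem_cons, List.not_mem_nil, or_false] at ha
      rcases ha with rfl | rfl <;> exact E01 (by simp),
     on_E, fun a ha => by rw [List.mem_singleton.1 ha]; exact E01 (by simp), on_E, by simp, trivial⟩
    rfl (by simp; omega)
  simp only [List.map_cons, List.map_nil, List.cons.injEq, and_true] at hT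
  obtain ⟨hT0, hT1, hT2⟩ := hT
  set cr : Fin (2 + 1) → F := μ • E 0 + ν • E ⟨1, by omega⟩
  have hcr : ext0 D.iE cr = μ • (E 0 : Fin (m + 1) → F) + ν • e1 := by
    simp only [cr, ext0_add', ext0_smul', iE_E]; rfl
  have hTc : T₁ • (μ • (E 0 : Fin (m + 1) → F) + ν • e1) = c := by
    rw [smul_add_K, smul_smul_K, smul_smul_K, hT0, hT1, hc]
  obtain ⟨gr, hgr, hgr'⟩ := exists_K_fix hF (l := [(E ⟨2, by omega⟩ : Fin (2 + 1) → F)])
    (u := E 0) (v := cr) (ON.fam hF ⟨on_E, by simp, trivial⟩) on_E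
    (by rw [← hh_ext0 hF D.iE, hcr, ← h_smul_K hF T₁, hTc, hc1])
    (fun a ha => by rw [List.mem_singleton.1 ha]; exact E01 (by simp))
    (fun a ha => by
      rw [List.mem_singleton.1 ha]
      simp only [cr, hh, (stdHerm hF (2 + 1)).add_left, (stdHerm hF (2 + 1)).smul_left]
      rw [show (stdHerm hF (2 + 1)).h (E 0) (E ⟨2, _⟩) = 0 from E01 (by simp),
        show (stdHerm hF (2 + 1)).h (E ⟨1, _⟩) (E ⟨2, _⟩) = 0 from E01 (by simp)]
      ring)
    (by simp)
  obtain ⟨k, hk0, hk1⟩ := exists_turn (hF := hF) (t := 2) le_rfl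
  obtain ⟨u, hu⟩ := exists_emb hF (Fin.castLEEmb (show 2 ≤ 2 + 1 by omega)) gr (fun j hj => by
    obtain rfl : j = ⟨2, by omega⟩ := by
      by_contra hne
      have : (j : ℕ) < 2 := by
        have := j.2
        have : (j : ℕ) ≠ 2 := fun h => hne (Fin.ext h)
        omega
      exact hj ⟨j, this⟩ (Fin.ext rfl)
    exact hgr' _ (by simp))
  obtain ⟨Ts, hTs⟩ : ∃ y : ↥(MulAction.stabilizer ↥(K hF (m + 1)) (E 0 : Fin (m + 1) → F)),
      (y : ↥(K hF (m + 1))) = T₁ := ⟨⟨T₁, MulAction.mem_stabilizer_iff.2 hT0⟩, rfl⟩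
  obtain ⟨hs, hhs⟩ : ∃ y : ↥(MulAction.stabilizer ↥(K hF (m + 1)) (E 0 : Fin (m + 1) → F)),
      (y : ↥(K hF (m + 1))) = h := ⟨⟨h, MulAction.mem_stabilizer_iff.2 (hh2 _ (by simp))⟩, rfl⟩
  have hw1 : ((Ts⁻¹ * hs * Ts : ↥(MulAction.stabilizer ↥(K hF (m + 1)) (E 0 : Fin (m + 1) → F))) :
      ↥(K hF (m + 1))) • e1 = e1 := by
    rw [Subgroup.coe_mul, Subgroup.coe_mul, Subgroup.coe_inv, hTs, hhs, mul_smul, mul_smul, hT1,
      hh2 _ (by simp), inv_smul_eq_iff, hT1]
  obtain ⟨c1, c2⟩ := D.comm0 hw1 u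
  rw [hu] at c1 c2
  refine D.quad_comm Ts hs gr k hk0 ?_ ?_ ?_ (adj_E hF fun e => by simpa using congrArg Fin.val e)
    ⟨on_E, hc1, ?_⟩ ?_ ?_ c1.symm c2.symm
  · rw [hk1]; exact hgr' _ (by simp)
  · rw [hTs, hk1, iE_E]; exact hT2
  · rw [hTs, hgr, hcr]; exact hTc
  · rw [hc]
    simp only [hh, (stdHerm hF (m + 1)).add_right, (stdHerm hF (m + 1)).smul_right]
    rw [show (stdHerm hF (m + 1)).h (E ⟨1, _⟩) (E 0) = 0 from E01 (by simp),
      show (stdHerm hF (m + 1)).h (E ⟨1, _⟩) e2 = 0 from E01 (by simp)]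
    ring
  · rw [hhs]; exact hh1
  · rw [hhs, hc, smul_add_K, smul_smul_K, smul_smul_K, hh2 _ (by simp), hh2 _ (by simp)]

theorem six_base (hm : m = 5) (h6 : D.Comm6) {μ : F} {c d : Fin (m + 1) → F}
    (hc : c = μ • (E 0 : Fin (m + 1) → F) +
      ((E ⟨4, by omega⟩ : Fin (m + 1) → F) + (E ⟨5, by omega⟩ : Fin (m + 1) → F)))
    (hc1 : hh hF c c = 1) (hd : hh hF d d = 1) (hd0 : hh hF d (E 0 : Fin (m + 1) → F) = 0)
    (hd4 : hh hF d (E ⟨4, by omega⟩ : Fin (m + 1) → F) = 0)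
    (hd5 : hh hF d (E ⟨5, by omega⟩ : Fin (m + 1) → F) = 0) :
    D.T D.glue.x₀ c (E ⟨1, by omega⟩) = D.T D.glue.x₀ c d := by
  obtain ⟨ht, h6⟩ := h6 hm
  subst ht
  set e1 : Fin (m + 1) → F := E ⟨1, by omega⟩
  set e2 : Fin (m + 1) → F := E ⟨2, by omega⟩
  set e3 : Fin (m + 1) → F := E ⟨3, by omega⟩
  set e4 : Fin (m + 1) → F := E ⟨4, by omega⟩
  set e5 : Fin (m + 1) → F := E ⟨5, by omega⟩
  obtain ⟨h, hh1, hh2⟩ := exists_K_fix hF (l := [(E 0 : Fin (m + 1) → F), e4, e5]) (u := e1) (v := d)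
    (ON.fam hF ⟨on_E, fun a ha => by
        simp only [List.mem_cons, List.not_mem_nil, or_false] at ha
        rcases ha with rfl | rfl <;> exact E01 (by simp),
      on_E, fun a ha => by rw [List.mem_singleton.1 ha]; exact E01 (by simp),
      on_E, by simp, trivial⟩) on_E hd
    (fun a ha => by
      simp only [List.mem_cons, List.not_mem_nil, or_false] at ha
      rcases ha with rfl | rfl | rfl <;> exact E01 (by simp))
    (fun a ha => by
      simp only [List.mem_cons, List.not_mem_nil, or_false] at ha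
      rcases ha with rfl | rfl | rfl
      exacts [hd0, hd4, hd5])
    (by simp; omega)
  obtain ⟨T₁, hT⟩ := exists_K_map hF (l := [(E 0 : Fin (m + 1) → F), e1, e2, e3])
    (l' := [(E 0 : Fin (m + 1) → F), e4, e5, e1])
    ⟨on_E, fun a ha => by
      simp only [List.mem_cons, List.not_mem_nil, or_false] at ha
      rcases ha with rfl | rfl | rfl <;> exact E01 (by simp),
     on_E, fun a ha => by
      simp only [List.mem_cons, List.not_mem_nil, or_false] at ha
      rcases ha with rfl | rfl <;> exact E01 (by simp),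
     on_E, fun a ha => by rw [List.mem_singleton.1 ha]; exact E01 (by simp), on_E, by simp, trivial⟩
    ⟨on_E, fun a ha => by
      simp only [List.mem_cons, List.not_mem_nil, or_false] at ha
      rcases ha with rfl | rfl | rfl <;> exact E01 (by simp),
     on_E, fun a ha => by
      simp only [List.mem_cons, List.not_mem_nil, or_false] at ha
      rcases ha with rfl | rfl <;> exact E01 (by simp),
     on_E, fun a ha => by rw [List.mem_singleton.1 ha]; exact E01 (by simp), on_E, by simp, trivial⟩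
    rfl (by simp; omega)
  simp only [List.map_cons, List.map_nil, List.cons.injEq, and_true] at hT
  obtain ⟨hT0, hT1, hT2, hT3⟩ := hT
  set cr : Fin (3 + 1) → F := μ • E 0 + (E ⟨1, by omega⟩ + E ⟨2, by omega⟩)
  have hcr : ext0 D.iE cr = μ • (E 0 : Fin (m + 1) → F) + (e1 + e2) := by
    simp only [cr, ext0_add', ext0_smul', iE_E]; rfl
  have hTc : T₁ • (μ • (E 0 : Fin (m + 1) → F) + (e1 + e2)) = c := by
    rw [smul_add_K, smul_smul_K, smul_add_K, hT0, hT1, hT2, hc]
  obtain ⟨gr, hgr, hgr'⟩ := exists_K_fix hF (l := [(E ⟨3, by omega⟩ : Fin (3 + 1) → F)])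
    (u := E 0) (v := cr) (ON.fam hF ⟨on_E, by simp, trivial⟩) on_E
    (by rw [← hh_ext0 hF D.iE, hcr, ← h_smul_K hF T₁, hTc, hc1])
    (fun a ha => by rw [List.mem_singleton.1 ha]; exact E01 (by simp))
    (fun a ha => by
      rw [List.mem_singleton.1 ha]
      simp only [cr, hh, (stdHerm hF (3 + 1)).add_left, (stdHerm hF (3 + 1)).smul_left]
      rw [show (stdHerm hF (3 + 1)).h (E 0) (E ⟨3, _⟩) = 0 from E01 (by simp),
        show (stdHerm hF (3 + 1)).h (E ⟨1, _⟩) (E ⟨3, _⟩) = 0 from E01 (by simp),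
        show (stdHerm hF (3 + 1)).h (E ⟨2, _⟩) (E ⟨3, _⟩) = 0 from E01 (by simp)]
      ring)
    (by simp)
  obtain ⟨k, hk1, hk'⟩ := exists_K_fix hF (l := [(E 0 : Fin (3 + 1) → F)])
    (u := E ⟨1, by omega⟩) (v := E ⟨3, by omega⟩) (ON.fam hF ⟨on_E, by simp, trivial⟩) on_E on_E
    (fun a ha => by rw [List.mem_singleton.1 ha]; exact E01 (by simp))
    (fun a ha => by rw [List.mem_singleton.1 ha]; exact E01 (by simp))
    (by simp)
  obtain ⟨u, hu⟩ := exists_emb hF (Fin.castLEEmb (show 3 ≤ 3 + 1 by omega)) gr (fun j hj => by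
    obtain rfl : j = ⟨3, by omega⟩ := by
      by_contra hne
      have : (j : ℕ) < 3 := by
        have := j.2
        have : (j : ℕ) ≠ 3 := fun h => hne (Fin.ext h)
        omega
      exact hj ⟨j, this⟩ (Fin.ext rfl)
    exact hgr' _ (by simp))
  obtain ⟨Ts, hTs⟩ : ∃ y : ↥(MulAction.stabilizer ↥(K hF (m + 1)) (E 0 : Fin (m + 1) → F)),
      (y : ↥(K hF (m + 1))) = T₁ := ⟨⟨T₁, MulAction.mem_stabilizer_iff.2 hT0⟩, rfl⟩
  obtain ⟨hs, hhs⟩ : ∃ y : ↥(MulAction.stabilizer ↥(K hF (m + 1)) (E 0 : Fin (m + 1) → F)),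
      (y : ↥(K hF (m + 1))) = h := ⟨⟨h, MulAction.mem_stabilizer_iff.2 (hh2 _ (by simp))⟩, rfl⟩
  obtain ⟨wv, hwv⟩ : ∃ y : ↥(MulAction.stabilizer ↥(K hF (m + 1)) (E 0 : Fin (m + 1) → F)),
      y = Ts⁻¹ * hs * Ts := ⟨_, rfl⟩
  have hw1 : (wv : ↥(K hF (m + 1))) • e1 = e1 := by
    rw [hwv, Subgroup.coe_mul, Subgroup.coe_mul, Subgroup.coe_inv, hTs, hhs, mul_smul, mul_smul,
      hT1, hh2 _ (by simp), inv_smul_eq_iff, hT1]
  have hw2 : (wv : ↥(K hF (m + 1))) • e2 = e2 := by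
    rw [hwv, Subgroup.coe_mul, Subgroup.coe_mul, Subgroup.coe_inv, hTs, hhs, mul_smul, mul_smul,
      hT2, hh2 _ (by simp), inv_smul_eq_iff, hT2]
  have hcom1 : Commute (wv : ↥(K hF (m + 1))) (emb hF D.iE gr) := by
    rw [← hu, emb_comp]
    refine commute_of_fix hF _ _ fun i => ?_
    fin_cases i
    · exact wv.2
    · exact hw1
    · exact hw2
  have hcom2 : Commute (D.f gr) (D.φ0 wv) := by
    obtain ⟨x', hx'⟩ := exists_of_stab wv.2
    rw [D.φ0_eq hx', ← hu]
    refine h6 u x' (ext0_injective (Fin.succEmb m) ?_) (ext0_injective (Fin.succEmb m) ?_)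
    · rw [← emb_ext0 hF, hx', ext0_E]; exact hw1
    · rw [← emb_ext0 hF, hx', ext0_E]; exact hw2
  subst hwv
  refine D.quad_comm Ts hs gr k (hk' _ (by simp)) ?_ ?_ ?_
    (adj_E hF fun e => by simpa using congrArg Fin.val e)
    ⟨on_E, hc1, ?_⟩ ?_ ?_ hcom1.symm hcom2
  · rw [hk1]; exact hgr' _ (by simp)
  · rw [hTs, hk1, iE_E]; exact hT3
  · rw [hTs, hgr, hcr]; exact hTc
  · rw [hc]
    simp only [hh, (stdHerm hF (m + 1)).add_right, (stdHerm hF (m + 1)).smul_right]
    rw [show (stdHerm hF (m + 1)).h (E ⟨1, _⟩) (E 0) = 0 from E01 (by simp),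
      show (stdHerm hF (m + 1)).h (E ⟨1, _⟩) e4 = 0 from E01 (by simp),
      show (stdHerm hF (m + 1)).h (E ⟨1, _⟩) e5 = 0 from E01 (by simp)]
    ring
  · rw [hhs]; exact hh1
  · rw [hhs, hc, smul_add_K, smul_add_K, smul_smul_K, hh2 _ (by simp), hh2 _ (by simp),
      hh2 _ (by simp)]

end Datum

end CfsgLib.Phan
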