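import Cfsg.Agent.Lib.Classical.Herm.Std

/-!
Orthogonal families of anisotropic vectors in Hermitian spaces: perpendicular unit vectors and
transitivity of the special unitary group.
-/

set_option autoImplicit false

namespace CfsgLib.Phan

open Module CfsgLib.Classical.Herm HermSpace

variable {F V : Type*} [Field F] [AddCommGroup V] [Module F V] {H : HermSpace F V}

/-- Pairwise orthogonal anisotropic vectors. -/
def Fam (H : HermSpace F V) : List V → Prop
  | [] => True
  | e :: l => H.h e e ≠ 0 ∧ (∀ a ∈ l, H.h e a = 0) ∧ Fam H l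

/-- Projection to the orthogonal complement of a family. -/
def proj (H : HermSpace F V) : List V → V → V
  | [], x => x
  | e :: l, x => proj H l x - (H.h x e / H.h e e) • e

theorem proj_h {l : List V} (x e : V) (he : ∀ a ∈ l, H.h a e = 0) :
    H.h (proj H l x) e = H.h x e := by
  induction l with
  | nil => rfl
  | cons a l ih =>
    simp only [proj, H.sub_left, H.smul_left, he a (by simp), mul_zero, sub_zero]
    exact ih fun b hb => he b (by simp [hb])

theorem proj_perp {l : List V} (hl : Fam H l) (x : V) : ∀ a ∈ l, H.h (proj H l x) a = 0 := by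
  induction l with
  | nil => simp
  | cons e l ih =>
    obtain ⟨he, hea, hl'⟩ := hl
    intro a ha
    simp only [proj, H.sub_left, H.smul_left]
    rcases List.mem_cons.1 ha with rfl | ha
    · rw [proj_h x _ fun b hb => H.h_comm_zero (hea b hb), div_mul_cancel₀ _ he, sub_self]
    · rw [ih hl' a ha, hea a ha, mul_zero, sub_zero]

theorem fam_ne {l : List V} (hl : Fam H l) : ∀ a ∈ l, H.h a a ≠ 0 := by
  induction l with
  | nil => simp
  | cons e l ih =>
    intro a ha
    rcases List.mem_cons.1 ha with rfl | ha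
    · exact hl.1
    · exact ih hl.2.2 a ha

variable [FiniteDimensional F V]

theorem exists_ne_zero_perp {l : List V} (hk : l.length < finrank F V) :
    ∃ v : V, v ≠ 0 ∧ ∀ a ∈ l, H.h v a = 0 := by
  let f : V →ₗ[F] (Fin l.length → F) := LinearMap.pi fun i => H.form (l.get i)
  have h : LinearMap.ker f ≠ ⊥ := LinearMap.ker_ne_bot_of_finrank_lt (by simpa using hk)
  obtain ⟨v, hv, hv0⟩ := (Submodule.ne_bot_iff _).1 h
  refine ⟨v, hv0, fun a ha => ?_⟩
  obtain ⟨i, rfl⟩ := List.mem_iff_get.1 ha
  exact congrFun (LinearMap.mem_ker.1 hv) i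

theorem exists_unit_perp {l : List V} (hl : Fam H l) (hk : l.length < finrank F V) :
    ∃ e : V, H.h e e = 1 ∧ ∀ a ∈ l, H.h e a = 0 := by
  obtain ⟨v, hv0, hv⟩ := exists_ne_zero_perp (H := H) hk
  obtain ⟨e, he, he1⟩ := H.exists_value_in {x | ∀ a ∈ l, H.h x a = 0} (proj H l)
    (fun x => proj_perp hl x) (fun x e he => proj_h x e fun a ha => H.h_comm_zero (he a ha))
    (fun a pa b pb c x hx => by rw [H.add_left, H.smul_left, pa x hx, pb x hx]; ring)
    (fun a pa c x hx => by rw [H.smul_left, pa x hx, mul_zero]) hv hv0 (map_one _)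
  exact ⟨e, he1, he⟩

theorem exists_unit_perp_one {l : List V} (hl : Fam H l) {w : V} (hk : l.length + 1 < finrank F V)
    (hw : H.h (proj H l w) (proj H l w) ≠ 0) :
    ∃ e : V, H.h e e = 1 ∧ (∀ a ∈ l, H.h e a = 0) ∧ H.h e w = 0 := by
  obtain ⟨e, he1, he⟩ := exists_unit_perp
    (l := proj H l w :: l) ⟨hw, proj_perp hl w, hl⟩ (by simpa using hk)
  have he' : ∀ a ∈ l, H.h e a = 0 := fun a ha => he a (by simp [ha])
  refine ⟨e, he1, he', H.h_comm_zero ?_⟩
  rw [← proj_h w e fun a ha => H.h_comm_zero (he' a ha)]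
  exact H.h_comm_zero (he _ (by simp))

theorem exists_unit_perp_vec {l : List V} (hl : Fam H l) (w : V) (hk : l.length + 2 < finrank F V) :
    ∃ e : V, H.h e e = 1 ∧ (∀ a ∈ l, H.h e a = 0) ∧ H.h e w = 0 := by
  by_cases hw : H.h (proj H l w) (proj H l w) = 0
  swap
  · exact exists_unit_perp_one hl (by omega) hw
  by_cases h0 : proj H l w = 0
  · obtain ⟨e, he1, he⟩ := exists_unit_perp hl (by omega)
    refine ⟨e, he1, he, H.h_comm_zero ?_⟩
    rw [← proj_h w e fun a ha => H.h_comm_zero (he a ha), h0, H.zero_left]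
  set w' := proj H l w with hw'
  obtain ⟨z, hz⟩ := H.exists_h_one h0
  have hwl : ∀ a ∈ l, H.h w' a = 0 := proj_perp hl w
  have hz' : H.h (proj H l z) w' = 1 := by
    rw [proj_h z w' fun a ha => H.h_comm_zero (hwl a ha), hz]
  set z' := proj H l z with hz'def
  have hwz : H.h w' z' = 1 := H.h_comm_one hz'
  obtain ⟨t, ht⟩ := H.exists_trace (c := 1 - H.h z' z') (by rw [map_sub, map_one, H.conj_diag])
  set v1 := z' + t • w' with hv1
  have h11 : H.h v1 v1 = 1 := by
    simp only [v1, H.add_left, H.add_right, H.smul_left, H.smul_right, hw, hz', hwz]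
    linear_combination ht
  have hw1 : H.h w' v1 = 1 := by
    simp only [v1, H.add_right, H.smul_right, hw, hwz]
    ring
  set v2 := w' - v1 with hv2
  have h21 : H.h v2 v1 = 0 := by
    simp only [v2, H.sub_left, hw1, h11, sub_self]
  have h22 : H.h v2 v2 ≠ 0 := by
    simp only [v2, H.sub_left, H.sub_right, hw, hw1, H.h_comm_one hw1, h11]
    norm_num
  have hv1l : ∀ a ∈ l, H.h v1 a = 0 := fun a ha => by
    simp only [v1, z', H.add_left, H.smul_left, proj_perp hl z a ha, hwl a ha, mul_zero, add_zero]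
  have hv2l : ∀ a ∈ l, H.h v2 a = 0 := fun a ha => by
    simp only [v2, H.sub_left, hv1l a ha, hwl a ha, sub_zero]
  have hfam : Fam H (v2 :: v1 :: l) :=
    ⟨h22, fun a ha => by
      rcases List.mem_cons.1 ha with rfl | ha
      exacts [h21, hv2l a ha], by rw [h11]; exact one_ne_zero, hv1l, hl⟩
  obtain ⟨e, he1, he⟩ := exists_unit_perp hfam (by simpa using hk)
  have he' : ∀ a ∈ l, H.h e a = 0 := fun a ha => he a (by simp [ha])
  refine ⟨e, he1, he', H.h_comm_zero ?_⟩
  rw [← proj_h w e fun a ha => H.h_comm_zero (he' a ha), ← hw']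
  apply H.h_comm_zero
  have e2 : w' = v2 + v1 := by simp [v2]
  rw [e2, H.add_right, he v2 (by simp), he v1 (by simp), add_zero]

theorem proj_eq_zero {l : List V} (hl : Fam H l) (hk : l.length = finrank F V) (x : V) :
    proj H l x = 0 := by
  have key : ∀ {l : List V}, Fam H l → l.length ≤ finrank F V := by
    intro l hl
    let f : V →ₗ[F] (Fin l.length → F) := LinearMap.pi fun i => H.form (l.get i)
    suffices hs : Function.Surjective f by
      simpa using LinearMap.finrank_le_finrank_of_surjective (f := f) hs |>.trans le_rfl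
    rw [← LinearMap.range_eq_top, eq_top_iff, ← (Pi.basisFun F (Fin l.length)).span_eq,
      Submodule.span_le]
    rintro _ ⟨i, rfl⟩
    refine ⟨(H.h (l.get i) (l.get i))⁻¹ • l.get i, funext fun j => ?_⟩
    have hpair : l.Pairwise fun a b => H.h a b = 0 := by
      clear f i j
      induction l with
      | nil => exact List.Pairwise.nil
      | cons e l ih => exact List.pairwise_cons.2 ⟨hl.2.1, ih hl.2.2⟩
    show H.h ((H.h (l.get i) (l.get i))⁻¹ • l.get i) (l.get j) = _
    rw [H.smul_left, Pi.basisFun_apply]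
    rcases lt_trichotomy i j with hij | rfl | hij
    · rw [List.pairwise_iff_get.1 hpair i j hij, mul_zero, Pi.single_eq_of_ne hij.ne']
    · rw [inv_mul_cancel₀ (fam_ne hl _ (List.get_mem l i)), Pi.single_eq_same]
    · rw [H.h_comm_zero (List.pairwise_iff_get.1 hpair j i hij), mul_zero,
        Pi.single_eq_of_ne hij.ne]
  by_contra h0
  obtain ⟨e, he, he1⟩ := H.exists_value_in {x | ∀ a ∈ l, H.h x a = 0} (proj H l)
    (fun x => proj_perp hl x) (fun x e he => proj_h x e fun a ha => H.h_comm_zero (he a ha))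
    (fun a pa b pb c x hx => by rw [H.add_left, H.smul_left, pa x hx, pb x hx]; ring)
    (fun a pa c x hx => by rw [H.smul_left, pa x hx, mul_zero]) (proj_perp hl x) h0 (map_one _)
  have := key (l := e :: l) ⟨by rw [he1]; exact one_ne_zero, he, hl⟩
  simp at this
  omega

/-- Unit vectors orthogonal to a family are conjugate under isometries of determinant one fixing it. -/
theorem exists_map_fix {l : List V} (hl : Fam H l) {u v : V} (hu : H.h u u = 1) (hv : H.h v v = 1)
    (hul : ∀ a ∈ l, H.h u a = 0) (hvl : ∀ a ∈ l, H.h v a = 0) (hk : l.length + 1 < finrank F V)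
    (hdet : ∀ g : Unit' H, (detHom H g : F) * H.conj (detHom H g : F) = 1) :
    ∃ g : Unit' H, detHom H g = 1 ∧ g.1 u = v ∧ ∀ a ∈ l, g.1 a = a := by
  have step : ∀ a b : V, H.h a a = 1 → H.h b b = 1 → (∀ c ∈ l, H.h a c = 0) →
      (∀ c ∈ l, H.h b c = 0) → H.h a b ≠ 1 →
      ∃ g : Unit' H, g.1 a = b ∧ ∀ c ∈ l, g.1 c = c := by
    intro a b ha hb hal hbl hab
    have hne : H.h a (b - a) ≠ 0 := by rw [H.sub_right, ha]; exact sub_ne_zero.2 hab
    refine ⟨_, shear_move (by rw [ha, hb]) hne, fun c hc => ?_⟩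
    have hz : H.h c (b - a) = 0 := by
      rw [H.sub_right, H.h_comm_zero (hal c hc), H.h_comm_zero (hbl c hc), sub_zero]
    rw [shear_apply, hz, mul_zero, zero_smul, add_zero]
  obtain ⟨g, hg, hgl⟩ : ∃ g : Unit' H, g.1 u = v ∧ ∀ a ∈ l, g.1 a = a := by
    by_cases h1 : H.h u v = 1
    · obtain ⟨c, hc, hc1⟩ := H.exists_norm_one_ne_one
      have hcv : H.h (c • v) (c • v) = 1 := by rw [H.smul_left, H.smul_right, hv, mul_one, hc]
      have hcl : ∀ a ∈ l, H.h (c • v) a = 0 := fun a ha => by
        rw [H.smul_left, hvl a ha, mul_zero]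
      obtain ⟨g, hg, hgl⟩ := step u (c • v) hu hcv hul hcl (by
        rw [H.smul_right, h1, mul_one]
        exact fun h0 => hc1 (by rw [← H.conj_conj c, h0, map_one]))
      obtain ⟨g', hg', hgl'⟩ := step (c • v) v hcv hv hcl hvl (by
        rw [H.smul_left, hv, mul_one]; exact hc1)
      exact ⟨g' * g, by rw [mul_apply, hg, hg'], fun a ha => by rw [mul_apply, hgl a ha, hgl' a ha]⟩
    · exact step u v hu hv hul hvl h1
  obtain ⟨e, he1, he⟩ := exists_unit_perp (l := v :: l) ⟨by rw [hv]; exact one_ne_zero, hvl, hl⟩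
    (by simpa using hk)
  set μ : F := (((detHom H g)⁻¹ : Fˣ) : F) with hμ
  have hn : μ * H.conj μ = 1 := by
    rw [hμ, ← map_inv]
    exact hdet _
  have hc : ShearCond H e (μ - 1) := by
    unfold ShearCond
    rw [he1, map_sub, map_one]
    linear_combination hn
  have hfix : ∀ a ∈ v :: l, (shear H e (μ - 1) hc).1 a = a := fun a ha => by
    rw [shear_apply, H.h_comm_zero (he a ha), mul_zero, zero_smul, add_zero]
  refine ⟨shear H e (μ - 1) hc * g, ?_, ?_, fun a ha => ?_⟩
  · apply Units.ext
    rw [map_mul, Units.val_mul, detHom_shear, he1, Units.val_one, mul_one, add_sub_cancel, hμ,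
      ← Units.val_mul, inv_mul_cancel, Units.val_one]
  · rw [mul_apply, hg, hfix v (by simp)]
  · rw [mul_apply, hgl a ha, hfix a (by simp [ha])]

end CfsgLib.Phan
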