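import Cfsg.Agent.Lib.Phan.Frame

/-!
The three planes of a triple of fundamental subgroups over the field with nine elements.
-/

set_option autoImplicit false
set_option maxHeartbeats 800000
set_option synthInstance.maxHeartbeats 100000

namespace CfsgLib.Phan

open Module CfsgLib.Classical.Herm HermSpace
open scoped Matrix

variable {F : Type*} [Field F] [Fintype F] {q : ℕ} (hF : Fintype.card F = q ^ 2)

/-- Pairs of coordinates. -/
def p01 : Fin 2 ↪ Fin 4 := ⟨![0, 1], by decide⟩
/-- Pairs of coordinates. -/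
def p12 : Fin 2 ↪ Fin 4 := ⟨![1, 2], by decide⟩
/-- Pairs of coordinates. -/
def p23 : Fin 2 ↪ Fin 4 := ⟨![2, 3], by decide⟩
/-- Pairs of coordinates. -/
def p03 : Fin 2 ↪ Fin 4 := ⟨![0, 3], by decide⟩

/-- A two-by-two block. -/
noncomputable def blk (e : Fin 2 ↪ Fin 4) (g : ↥(K hF 4)) : Matrix (Fin 2) (Fin 2) F :=
  (mat hF g).submatrix e e

/-- A diagonal entry pattern separating a pair of coordinates from the others. -/
def Sep (s : Fin 4 → F) (e : Fin 2 ↪ Fin 4) : Prop := ∀ l k, (∀ l', e l' ≠ k) → s (e l) ≠ s k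

variable {hF}

theorem entry_zero {g z : ↥(K hF 4)} {s : Fin 4 → F} (hs : mat hF z = Matrix.diagonal s)
    (hc : Commute g z) {i j : Fin 4} (h : s i ≠ s j) : mat hF g i j = 0 := by
  have e := congrFun (congrFun (congrArg (mat hF) hc.eq) i) j
  rw [map_mul, map_mul, hs, Matrix.mul_diagonal, Matrix.diagonal_mul] at e
  exact (mul_eq_zero.1 (show (s i - s j) * mat hF g i j = 0 by linear_combination -e)).resolve_left
    (sub_ne_zero.2 h)

theorem blk_mul {z : ↥(K hF 4)} {s : Fin 4 → F} {e : Fin 2 ↪ Fin 4}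
    (hs : mat hF z = Matrix.diagonal s) (hsep : Sep s e) {g g' : ↥(K hF 4)} (hg : Commute g z) :
    blk hF e (g * g') = blk hF e g * blk hF e g' := by
  ext i j
  simp only [blk, Matrix.submatrix_apply, map_mul, Matrix.mul_apply]
  refine ((Finset.sum_subset (Finset.subset_univ (Finset.univ.map e)) fun k _ hk => ?_).symm.trans
    (Finset.sum_map Finset.univ e fun k => mat hF g (e i) k * mat hF g' k (e j)))
  have hk' : ∀ l', e l' ≠ k := fun l' h => hk (by simp [← h])
  rw [entry_zero hs hg (hsep i k hk'), zero_mul]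

theorem blk_one (e : Fin 2 ↪ Fin 4) : blk hF e 1 = 1 := by
  rw [blk, map_one]
  exact Matrix.submatrix_one e e.injective

theorem blk_diag {g : ↥(K hF 4)} {t : Fin 4 → F} (ht : mat hF g = Matrix.diagonal t)
    (e : Fin 2 ↪ Fin 4) : blk hF e g = Matrix.diagonal fun i => t (e i) := by
  rw [blk, ht]
  exact Matrix.submatrix_diagonal t e e.injective

theorem blk_cube {z : ↥(K hF 4)} {s : Fin 4 → F} {e : Fin 2 ↪ Fin 4}
    (hs : mat hF z = Matrix.diagonal s) (hsep : Sep s e) {g : ↥(K hF 4)} (hg : Commute g z)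
    (h3 : g ^ 3 = 1) : blk hF e g ^ 3 = 1 := by
  have h := blk_one (hF := hF) e
  rw [← h3, pow_succ, pow_two] at h
  rw [blk_mul hs hsep (hg.mul_left hg), blk_mul hs hsep hg] at h
  rw [pow_succ, pow_two]
  exact h

/-- Elements with trivial block fix the corresponding basis vectors. -/
theorem fix_of_blk {z : ↥(K hF 4)} {s : Fin 4 → F} {e : Fin 2 ↪ Fin 4}
    (hs : mat hF z = Matrix.diagonal s) (hsep : Sep s e) {g : ↥(K hF 4)} (hg : Commute g z)
    (h : blk hF e g = 1) (l : Fin 2) : g • (E (e l) : Fin 4 → F) = E (e l) := by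
  funext k
  rw [← mat_apply]
  by_cases hk : ∃ l', e l' = k
  · obtain ⟨l', rfl⟩ := hk
    have h' := congrFun (congrFun h l') l
    rw [blk, Matrix.submatrix_apply] at h'
    rw [h', Matrix.one_apply]
    by_cases hl : l' = l
    · subst hl; simp [E]
    · simp [E, hl]
  · push Not at hk
    rw [entry_zero hs hg (hsep l k hk).symm, E_apply_ne (hk l).symm]

/-- A special involution of a plane is scalar. -/
theorem sq_one_scalar {R : Type*} [Field R] (h2 : (2 : R) ≠ 0) {T : Matrix (Fin 2) (Fin 2) R}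
    (hT : T * T = 1) (hd : T.det = 1) : T = 1 ∨ T = -1 := by
  have e : ∀ i j, T i 0 * T 0 j + T i 1 * T 1 j = if i = j then 1 else 0 := fun i j => by
    have h := congrFun (congrFun hT i) j
    rwa [Matrix.mul_apply, Fin.sum_univ_two, Matrix.one_apply] at h
  rw [Matrix.det_fin_two] at hd
  have e00 := e 0 0
  have e01 := e 0 1
  have e10 := e 1 0
  simp at e00 e01 e10
  have hsum : T 0 0 + T 1 1 ≠ 0 := fun h => h2 (by grind)
  have h01 : T 0 1 = 0 :=
    (mul_eq_zero.1 (show (T 0 0 + T 1 1) * T 0 1 = 0 by linear_combination e01)).resolve_left hsum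
  have h10 : T 1 0 = 0 :=
    (mul_eq_zero.1 (show (T 0 0 + T 1 1) * T 1 0 = 0 by linear_combination e10)).resolve_left hsum
  rw [h01] at e00
  rw [h01, h10] at hd
  simp at e00 hd
  rcases mul_self_eq_one_iff.1 e00 with h | h <;> rw [h] at hd
  · left; ext i j; fin_cases i <;> fin_cases j <;> simp [h01, h10, h]
    linear_combination hd
  · right; ext i j; fin_cases i <;> fin_cases j <;> simp [h01, h10, h]
    linear_combination -hd

/-- The image of a plane, from lifts of generators. -/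
theorem range_of_gens {G : Type*} [Group G] {π : ↥(K hF 4) →* G} {u : ↥(K hF 2) →* G}
    (hu : Function.Injective u) {x y : ↥(K hF 2)} (hgen : Subgroup.closure {x, y} = ⊤)
    {e : Fin 2 ↪ Fin 4} {a b : ↥(K hF 4)} (ha : π a = u x) (hb : π b = u y)
    (hfa : ∀ j, (∀ i, e i ≠ j) → a • (E j : Fin 4 → F) = E j)
    (hfb : ∀ j, (∀ i, e i ≠ j) → b • (E j : Fin 4 → F) = E j) :
    (π.comp (emb hF e)).range = u.range := by
  have hle : u.range ≤ (π.comp (emb hF e)).range := by
    rw [MonoidHom.range_eq_map, ← hgen, MonoidHom.map_closure, Subgroup.closure_le]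
    rintro _ ⟨g, hg, rfl⟩
    rcases hg with rfl | rfl
    · obtain ⟨g', hg'⟩ := exists_emb hF e a hfa
      exact ⟨g', by rw [MonoidHom.comp_apply, hg', ha]⟩
    · obtain ⟨g', hg'⟩ := exists_emb hF e b hfb
      exact ⟨g', by rw [MonoidHom.comp_apply, hg', hb]⟩
  haveI : Finite ↥(π.comp (emb hF e)).range :=
    Finite.of_surjective _ (MonoidHom.rangeRestrict_surjective _)
  refine (Subgroup.eq_of_le_of_card_ge hle ?_).symm
  rw [← Nat.card_congr (MonoidHom.ofInjective hu).toEquiv]
  exact Nat.card_le_card_of_surjective _ (MonoidHom.rangeRestrict_surjective _)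

theorem sepA01 (h : (-1 : F) ≠ 1) : Sep (![-1, -1, 1, 1] : Fin 4 → F) p01 := by
  intro l k hk
  fin_cases l <;> fin_cases k <;>
    first
      | exact absurd rfl (hk 0)
      | exact absurd rfl (hk 1)
      | simpa [p01] using h

theorem sepA23 (h : (-1 : F) ≠ 1) : Sep (![-1, -1, 1, 1] : Fin 4 → F) p23 := by
  intro l k hk
  fin_cases l <;> fin_cases k <;>
    first
      | exact absurd rfl (hk 0)
      | exact absurd rfl (hk 1)
      | simpa [p23] using h.symm

theorem sepB03 (h : (-1 : F) ≠ 1) : Sep (![1, -1, -1, 1] : Fin 4 → F) p03 := by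
  intro l k hk
  fin_cases l <;> fin_cases k <;>
    first
      | exact absurd rfl (hk 0)
      | exact absurd rfl (hk 1)
      | simpa [p03] using h.symm

theorem blk_braid {z : ↥(K hF 4)} {s : Fin 4 → F} {e : Fin 2 ↪ Fin 4}
    (hs : mat hF z = Matrix.diagonal s) (hsep : Sep s e) {g g' : ↥(K hF 4)} (hg : Commute g z)
    (hg' : Commute g' z) : blk hF e (g * g' * g * (g * g' * g)) =
      blk hF e g * blk hF e g' * blk hF e g * (blk hF e g * blk hF e g' * blk hF e g) := by
  rw [blk_mul hs hsep ((hg.mul_left hg').mul_left hg), blk_mul hs hsep (hg.mul_left hg'),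
    blk_mul hs hsep hg]

/-- What commutes with a braided pair fixes its plane. -/
theorem fix_of_commute_pair (h3 : (3 : F) = 0) {z : ↥(K hF 4)} {s : Fin 4 → F} {e : Fin 2 ↪ Fin 4}
    (hs : mat hF z = Matrix.diagonal s) (hsep : Sep s e) {a b c : ↥(K hF 4)} (ha : a ^ 3 = 1)
    (hb : b ^ 3 = 1) (hc : c ^ 3 = 1) (haz : Commute a z) (hbz : Commute b z) (hcz : Commute c z)
    (hca : Commute c a) (hcb : Commute c b)
    (hblk : blk hF e (a * b * a * (a * b * a)) = -1) (l : Fin 2) :
    c • (E (e l) : Fin 4 → F) = E (e l) := by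
  refine fix_of_blk hs hsep hcz ?_ l
  refine eq_one_of_commute_braid h3 (blk_cube hs hsep hcz hc) (blk_cube hs hsep haz ha)
    (blk_cube hs hsep hbz hb) ?_ ?_ (by rw [← blk_braid hs hsep haz hbz, hblk])
  · rw [← blk_mul hs hsep hcz, ← blk_mul hs hsep haz, hca.eq]
  · rw [← blk_mul hs hsep hcz, ← blk_mul hs hsep hbz, hcb.eq]

theorem off01 {g : ↥(K hF 4)} (hg : ∀ l, g • (E (p23 l) : Fin 4 → F) = E (p23 l)) :
    ∀ j, (∀ i, p01 i ≠ j) → g • (E j : Fin 4 → F) = E j := by
  intro j hj
  fin_cases j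
  · exact absurd rfl (hj 0)
  · exact absurd rfl (hj 1)
  · exact hg 0
  · exact hg 1

theorem off23 {g : ↥(K hF 4)} (hg : ∀ l, g • (E (p01 l) : Fin 4 → F) = E (p01 l)) :
    ∀ j, (∀ i, p23 i ≠ j) → g • (E j : Fin 4 → F) = E j := by
  intro j hj
  fin_cases j
  · exact hg 0
  · exact hg 1
  · exact absurd rfl (hj 0)
  · exact absurd rfl (hj 1)

theorem off12 {g : ↥(K hF 4)} (hg : ∀ l, g • (E (p03 l) : Fin 4 → F) = E (p03 l)) :
    ∀ j, (∀ i, p12 i ≠ j) → g • (E j : Fin 4 → F) = E j := by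
  intro j hj
  fin_cases j
  · exact hg 0
  · exact absurd rfl (hj 0)
  · exact absurd rfl (hj 1)
  · exact hg 1

section Core

variable {G : Type*} [Group G] {π : ↥(K hF 4) →* G}

/-- The outer planes of a triple. -/
theorem outer_planes (hq : q = 3) (hπ : π.ker ≤ Subgroup.center ↥(K hF 4))
    {u w : ↥(K hF 2) →* G} (hu : Function.Injective u) (hw : Function.Injective w)
    (huw : ∀ x y, Commute (u x) (w y))
    {x y : ↥(K hF 2)} (hgen : Subgroup.closure {x, y} = ⊤)
    (hz : mat hF (x * y * x * (x * y * x)) = -1)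
    {a1 a2 c1 c2 : ↥(K hF 4)}
    (ha3 : a1 ^ 3 = 1) (ha3' : a2 ^ 3 = 1) (hc3 : c1 ^ 3 = 1) (hc3' : c2 ^ 3 = 1)
    (hab : a1 * a2 * a1 = a2 * a1 * a2) (hcb : c1 * c2 * c1 = c2 * c1 * c2)
    (hax : π a1 = u x) (hay : π a2 = u y) (hcx : π c1 = w x) (hcy : π c2 = w y)
    (hza : mat hF (a1 * a2 * a1 * (a1 * a2 * a1)) = Matrix.diagonal ![-1, -1, 1, 1]) :
    (π.comp (emb hF p01)).range = u.range ∧ (π.comp (emb hF p23)).range = w.range := by
  have h3 := three_eq_zero hq hF
  have h2 : (2 : F) ≠ 0 := fun h => one_ne_zero (α := F) (by linear_combination h3 - h)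
  have hm1 : (-1 : F) ≠ 1 := fun h => h2 (by linear_combination -h)
  have hA01 : Sep (![-1, -1, 1, 1] : Fin 4 → F) p01 := sepA01 hm1
  have hA23 : Sep (![-1, -1, 1, 1] : Fin 4 → F) p23 := sepA23 hm1
  set za := a1 * a2 * a1 * (a1 * a2 * a1) with hzadef
  set zc := c1 * c2 * c1 * (c1 * c2 * c1) with hzcdef
  obtain ⟨hza1, hza2, -⟩ := braid_sq ha3 hab
  obtain ⟨-, -, hzc2⟩ := braid_sq hc3 hcb
  have hac : ∀ (g h : ↥(K hF 4)), h ^ 3 = 1 → Commute (π g) (π h) → Commute g h :=
    fun g h hh hgh => lift_conj hq hπ hh hgh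
  have k11 : Commute c1 a1 := hac _ _ ha3 (by rw [hax, hcx]; exact (huw _ _).symm)
  have k12 : Commute c1 a2 := hac _ _ ha3' (by rw [hay, hcx]; exact (huw _ _).symm)
  have k21 : Commute c2 a1 := hac _ _ ha3 (by rw [hax, hcy]; exact (huw _ _).symm)
  have k22 : Commute c2 a2 := hac _ _ ha3' (by rw [hay, hcy]; exact (huw _ _).symm)
  have hc1za : Commute c1 za :=
    ((k11.mul_right k12).mul_right k11).mul_right ((k11.mul_right k12).mul_right k11)
  have hc2za : Commute c2 za :=
    ((k21.mul_right k22).mul_right k21).mul_right ((k21.mul_right k22).mul_right k21)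
  have ha1za : Commute a1 za := hza1.symm
  have ha2za : Commute a2 za := hza2.symm
  have hblkA01 : blk hF p01 za = -1 := by
    rw [blk_diag hza]
    ext i j; fin_cases i <;> fin_cases j <;> simp [p01]
  -- the third plane
  have hfc1 := fix_of_commute_pair h3 hza hA01 ha3 ha3' hc3 ha1za ha2za hc1za k11 k12 hblkA01
  have hfc2 := fix_of_commute_pair h3 hza hA01 ha3 ha3' hc3' ha1za ha2za hc2za k21 k22 hblkA01
  have hczza : Commute zc za :=
    ((hc1za.mul_left hc2za).mul_left hc1za).mul_left ((hc1za.mul_left hc2za).mul_left hc1za)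
  have hblkC : blk hF p23 zc = -1 := by
    set S := blk hF p23 c1 * blk hF p23 c2 * blk hF p23 c1 with hS
    have hzc : blk hF p23 zc = S * S := blk_braid hza hA23 hc1za hc2za
    have hsq : (S * S) * (S * S) = 1 := by
      rw [← hzc, ← blk_mul hza hA23 hczza, hzc2, blk_one]
    have hdS : (S * S).det = 1 := by
      rw [Matrix.det_mul, hS, Matrix.det_mul, Matrix.det_mul,
        (cube_one h3 (blk_cube hza hA23 hc1za hc3)).1, (cube_one h3 (blk_cube hza hA23 hc2za hc3')).1]
      norm_num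
    refine hzc.trans ((sq_one_scalar h2 hsq hdS).resolve_left fun h1 => ?_)
    have hz1 : zc = 1 := by
      refine eq_one_of_fix_all hF fun j => ?_
      have h01 : ∀ l, zc • (E (p01 l) : Fin 4 → F) = E (p01 l) := fun l => by
        simp only [hzcdef, mul_smul, hfc1 l, hfc2 l]
      have h23 := fix_of_blk hza hA23 hczza (hzc.trans h1)
      fin_cases j
      · exact h01 0
      · exact h01 1
      · exact h23 0
      · exact h23 1
    have h0 : w (x * y * x * (x * y * x)) = w 1 := by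
      simp only [map_mul, map_one, ← hcx, ← hcy]
      simp only [← map_mul]
      rw [← hzcdef, hz1, map_one]
    rw [hw h0, map_one] at hz
    exact h2 (by
      have := congrFun (congrFun hz 0) 0
      simp at this
      linear_combination this)
  -- the first plane
  have hblk : blk hF p23 (c1 * c2 * c1 * (c1 * c2 * c1)) = -1 := hblkC
  exact ⟨range_of_gens hu hgen (e := p01) hax hay
      (off01 (fix_of_commute_pair h3 hza hA23 hc3 hc3' ha3 hc1za hc2za ha1za k11.symm k21.symm hblk))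
      (off01 (fix_of_commute_pair h3 hza hA23 hc3 hc3' ha3' hc1za hc2za ha2za k12.symm k22.symm hblk)),
    range_of_gens hw hgen (e := p23) hcx hcy (off23 hfc1) (off23 hfc2)⟩

/-- The middle plane of a triple. -/
theorem middle_plane (hq : q = 3) (hπ : π.ker ≤ Subgroup.center ↥(K hF 4))
    {u v : ↥(K hF 2) →* G} (hu : Function.Injective u) (hv : Function.Injective v)
    (hU : (π.comp (emb hF p01)).range = u.range)
    {x y d : ↥(K hF 2)} {a : F} (hgen : Subgroup.closure {x, y} = ⊤) (hx3 : x ^ 3 = 1)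
    (hd : mat hF d = Matrix.diagonal ![a, qPow hF a]) (ha1 : a ≠ 1)
    (hcd : Commute (u d) (v (x * y * x * (x * y * x))))
    (hnorm : ∀ y', ∃ y'', u d * v y' * (u d)⁻¹ = v y'')
    {b1 b2 : ↥(K hF 4)} (hb3 : b1 ^ 3 = 1) (hb3' : b2 ^ 3 = 1)
    (hbb : b1 * b2 * b1 = b2 * b1 * b2) (hbx : π b1 = v x) (hby : π b2 = v y)
    (hzb : mat hF (b1 * b2 * b1 * (b1 * b2 * b1)) = Matrix.diagonal ![1, -1, -1, 1]) :
    (π.comp (emb hF p12)).range = v.range := by
  have h3 := three_eq_zero hq hF
  have h2 : (2 : F) ≠ 0 := fun h => one_ne_zero (α := F) (by linear_combination h3 - h)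
  have hm1 : (-1 : F) ≠ 1 := fun h => h2 (by linear_combination -h)
  have hB03 : Sep (![1, -1, -1, 1] : Fin 4 → F) p03 := sepB03 hm1
  set zb := b1 * b2 * b1 * (b1 * b2 * b1) with hzbdef
  obtain ⟨hzb1, hzb2, -⟩ := braid_sq hb3 hbb
  -- the middle plane
  obtain ⟨d', hd'⟩ : ∃ d', π (emb hF p01 d') = u d := hU.ge ⟨d, rfl⟩
  set T := emb hF p01 d' with hTdef
  have hTfix : ∀ l, T • (E (p23 l) : Fin 4 → F) = E (p23 l) := fun l =>
    emb_fix hF _ _ fun i => E_apply_ne (by fin_cases l <;> fin_cases i <;> decide)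
  have hb1zb : Commute b1 zb := hzb1.symm
  have hb2zb : Commute b2 zb := hzb2.symm
  have hTzb : Commute T zb := by
    set c := T * zb * T⁻¹ * zb⁻¹ with hc
    have hπzb : π zb = v (x * y * x * (x * y * x)) := by
      simp only [hzbdef, map_mul, hbx, hby]
    have hck : c ∈ Subgroup.center ↥(K hF 4) := hπ (by
      rw [MonoidHom.mem_ker, hc, map_mul, map_mul, map_mul, map_inv, map_inv, hπzb, hd', hcd.eq]
      group)
    have hE2 : zb • (E 2 : Fin 4 → F) = (-1 : F) • E 2 := by
      rw [smul_of_diagonal hzb]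
      funext k
      fin_cases k <;> simp [E]
    have hcfix : c • (E 2 : Fin 4 → F) = E 2 := by
      have hT2 : T • (E 2 : Fin 4 → F) = E 2 := hTfix 0
      have hT2' : T⁻¹ • (E 2 : Fin 4 → F) = E 2 := inv_smul_eq_iff.2 hT2.symm
      have hz2' : zb⁻¹ • (E 2 : Fin 4 → F) = (-1 : F) • E 2 := by
        rw [inv_smul_eq_iff, smul_smul_K, hE2, smul_smul]; norm_num
      rw [hc, mul_smul, mul_smul, mul_smul, hz2', smul_smul_K, hT2', smul_smul_K, hE2, smul_smul,
        smul_smul_K, hT2]
      norm_num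
    have h1 := central_fix_one hck (by omega) hcfix
    rw [hc, mul_inv_eq_one] at h1
    exact mul_inv_eq_iff_eq_mul.1 h1
  set α := mat hF T 0 0 with hα
  have hdiagT : blk hF p03 T = Matrix.diagonal ![α, 1] := by
    ext i j
    rw [blk, Matrix.submatrix_apply]
    fin_cases i <;> fin_cases j
    · simp [p03, hα]
    · show mat hF T 0 3 = _
      rw [mat_apply, show T • (E 3 : Fin 4 → F) = E 3 from hTfix 1]; simp [E]
    · show mat hF T 3 0 = _
      rw [mat_apply, apply_eq_zero_of_fix hF (show T • (E 3 : Fin 4 → F) = E 3 from hTfix 1)]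
      simp [E]
    · show mat hF T 3 3 = _
      rw [mat_apply, show T • (E 3 : Fin 4 → F) = E 3 from hTfix 1]; simp [E]
  have hα1 : α ≠ 1 := by
    intro h1
    have h00 : mat hF d' 0 0 = 1 := (mat_emb p01 d' 0 0).symm.trans h1
    have h10 : mat hF d' 1 0 = 0 := (mat_emb p01 d' 1 0).symm.trans
      (entry_zero hzb hTzb (by simp [p01, hm1]))
    obtain ⟨e11, e10, -⟩ := mat_entries hF d'
    have h01 : mat hF d' 0 1 = 0 := by
      rw [h10] at e10
      have h := congrArg (qPow hF) e10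
      simpa only [map_zero, map_neg, qPow_qPow, zero_eq_neg] using h
    have hd1 : d' = 1 := mat_injective hF (by
      rw [map_one]
      ext i j
      fin_cases i <;> fin_cases j <;> simp [h00, h10, h01, e11])
    rw [hTdef, hd1, map_one, map_one] at hd'
    have h : d = 1 := hu (hd'.symm.trans (map_one u).symm)
    rw [h, map_one] at hd
    have h' := congrFun (congrFun hd 0) 0
    simp at h'
    exact ha1 h'.symm
  set X := blk hF p03 b1 with hX
  have hblkB : blk hF p03 zb = 1 := by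
    rw [blk_diag hzb]
    ext i j; fin_cases i <;> fin_cases j <;> simp [p03]
  have hXY : X = blk hF p03 b2 := by
    refine eq_of_braid_trivial h3 (blk_cube hzb hB03 hb1zb hb3) (blk_cube hzb hB03 hb2zb hb3') ?_
      (by rw [← blk_braid hzb hB03 hb1zb hb2zb, hblkB])
    rw [← blk_mul hzb hB03 hb1zb, ← blk_mul hzb hB03 (hb1zb.mul_left hb2zb),
      ← blk_mul hzb hB03 hb2zb, ← blk_mul hzb hB03 (hb2zb.mul_left hb1zb), hbb]
  set N := X - 1 with hN
  have hNN : N * N = 0 := (cube_one h3 (blk_cube hzb hB03 hb1zb hb3)).2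
  have hmulN : ∀ b b' : F, (1 + b • N) * (1 + b' • N) = 1 + (b + b') • N := fun b b' => by
    simp only [add_mul, mul_add, Matrix.smul_mul, Matrix.mul_smul, one_mul, mul_one, hNN,
      smul_zero, add_zero]
    module
  let S : Subgroup ↥(K hF 4) :=
    { carrier := {g | Commute g zb ∧ ∃ b : F, blk hF p03 g = 1 + b • N}
      one_mem' := ⟨Commute.one_left _, 0, by rw [blk_one, zero_smul, add_zero]⟩
      mul_mem' := fun {g g'} hg hg' => by
        obtain ⟨hg, b, hb⟩ := hg
        obtain ⟨hg', b', hb'⟩ := hg'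
        exact ⟨hg.mul_left hg', b + b', by rw [blk_mul hzb hB03 hg, hb, hb', hmulN]⟩
      inv_mem' := fun {g} hg => by
        obtain ⟨hg, b, hb⟩ := hg
        refine ⟨hg.inv_left, -b, ?_⟩
        have h1 : blk hF p03 g⁻¹ * blk hF p03 g = 1 := by
          rw [← blk_mul hzb hB03 hg.inv_left, inv_mul_cancel, blk_one]
        calc blk hF p03 g⁻¹ = blk hF p03 g⁻¹ * (blk hF p03 g * (1 + (-b) • N)) := by
              rw [hb, hmulN, add_neg_cancel, zero_smul, add_zero, mul_one]
          _ = _ := by rw [← mul_assoc, h1, one_mul] }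
  have hb1S : b1 ∈ S := ⟨hb1zb, 1, by rw [one_smul, hN, ← hX]; abel⟩
  have hb2S : b2 ∈ S := ⟨hb2zb, 1, by rw [one_smul, hN, ← hXY]; abel⟩
  have hvS : ∀ y', v y' ∈ S.map π := by
    have hle : v.range ≤ S.map π := by
      rw [MonoidHom.range_eq_map, ← hgen, MonoidHom.map_closure, Subgroup.closure_le]
      rintro _ ⟨g, hg, rfl⟩
      rcases hg with rfl | rfl
      · exact ⟨b1, hb1S, hbx⟩
      · exact ⟨b2, hb2S, hby⟩
    exact fun y' => hle ⟨y', rfl⟩
  obtain ⟨y'', hy''⟩ := hnorm x
  obtain ⟨g, hgS, hg⟩ := hvS y''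
  have h3y : π g ^ 3 = 1 := by
    rw [hg, ← hy'', conj_pow, ← map_pow, hx3, map_one, mul_one, mul_inv_cancel]
  have hgT : T * b1 * T⁻¹ = g ^ 4 := by
    refine lift_unique hq hπ (by rw [conj_pow, hb3]; group) ?_ ?_
    · rw [← pow_mul, show 4 * 3 = 3 * 4 from rfl, pow_mul]
      exact center_pow_four hq (hπ (by rw [MonoidHom.mem_ker, map_pow, h3y]))
    · rw [map_pow, pow_succ, h3y, one_mul, hg, ← hy'', map_mul, map_mul, map_inv, hd', hbx]
  obtain ⟨hgc, m, hm⟩ := S.pow_mem hgS 4
  have hDN : Matrix.diagonal ![α, 1] * N = (m • N) * Matrix.diagonal ![α, 1] := by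
    have h1 : T * b1 = g ^ 4 * T := mul_inv_eq_iff_eq_mul.1 hgT
    have h4 := congrArg (blk hF p03) h1
    rw [blk_mul hzb hB03 hTzb, blk_mul hzb hB03 hgc, hdiagT, hm, add_mul, one_mul, ← hX] at h4
    rw [hN, mul_sub, mul_one, h4, ← hN, add_sub_cancel_left]
  have q00 := congrFun (congrFun hDN 0) 0
  have q01 := congrFun (congrFun hDN 0) 1
  simp [Matrix.diagonal_mul, Matrix.mul_diagonal] at q00 q01
  have n00 := congrFun (congrFun hNN 0) 0
  have n11 := congrFun (congrFun hNN 1) 1
  simp [Matrix.mul_apply, Fin.sum_univ_two] at n00 n11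
  have hT00 : α ≠ 0 := by
    intro h0
    have h10 : mat hF d' 1 0 = 0 := (mat_emb p01 d' 1 0).symm.trans
      (entry_zero hzb hTzb (by simp [p01, hm1]))
    obtain ⟨-, -, e⟩ := mat_entries hF d'
    rw [show mat hF d' 0 0 = 0 from (mat_emb p01 d' 0 0).symm.trans h0, h10] at e
    simp [nm] at e
  have hp : N 0 0 = 0 := by
    by_contra hp
    have hm1' : m = 1 := mul_left_cancel₀ (mul_ne_zero hT00 hp) (by linear_combination -q00)
    subst hm1'
    have hr : N 0 1 = 0 := q01.resolve_left hα1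
    rw [hr] at n00
    simp [hp] at n00
  have hcolsum : ∀ j : Fin 4, ∑ i, nm hF (mat hF b1 i j) = 1 := by
    intro j
    have h := h_smul_K hF b1 (E j) (E j)
    rw [hh_E, if_pos rfl] at h
    rw [← h]
    simp only [hh, stdHerm_h, Cfsg.hermForm, mat_apply, nm, qPow_apply]
  have hX00 : mat hF b1 0 0 = 1 := by
    have : X 0 0 - 1 = 0 := by simpa [hN] using hp
    exact sub_eq_zero.1 this
  have hnm0 : nm hF (0 : F) = 0 := by simp [nm]
  have hs : N 1 0 = 0 := by
    have h := hcolsum 0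
    rw [Fin.sum_univ_four, entry_zero hzb hb1zb (i := 1) (j := 0) (by simp [hm1]),
      entry_zero hzb hb1zb (i := 2) (j := 0) (by simp [hm1]), hX00, hnm0] at h
    have h30 : mat hF b1 3 0 = 0 := nm_eq_zero hF (by
      have h1 : nm hF (1 : F) = 1 := by simp [nm]
      rw [h1] at h; linear_combination h)
    show X 1 0 - (1 : Matrix (Fin 2) (Fin 2) F) 1 0 = 0
    rw [Matrix.one_apply_ne (by decide), sub_zero]
    exact h30
  have ht : N 1 1 = 0 := by
    rw [hs] at n11
    simpa using n11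
  have hr : N 0 1 = 0 := by
    have h := hcolsum 3
    have hX11 : mat hF b1 3 3 = 1 := by
      have : X 1 1 - 1 = 0 := by simpa [hN] using ht
      exact sub_eq_zero.1 this
    rw [Fin.sum_univ_four, entry_zero hzb hb1zb (i := 1) (j := 3) (by simp [hm1]),
      entry_zero hzb hb1zb (i := 2) (j := 3) (by simp [hm1]), hX11, hnm0] at h
    have h03 : mat hF b1 0 3 = 0 := nm_eq_zero hF (by
      have h1 : nm hF (1 : F) = 1 := by simp [nm]
      rw [h1] at h; linear_combination h)
    show X 0 1 - (1 : Matrix (Fin 2) (Fin 2) F) 0 1 = 0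
    rw [Matrix.one_apply_ne (by decide), sub_zero]
    exact h03
  have hX1 : X = 1 := by
    rw [← sub_eq_zero, ← hN]
    ext i j
    fin_cases i <;> fin_cases j <;> simp [hp, hr, hs, ht]
  exact range_of_gens hv hgen (e := p12) hbx hby
    (off12 (fix_of_blk hzb hB03 hb1zb hX1))
    (off12 (fix_of_blk hzb hB03 hb2zb (hXY.symm.trans hX1)))

end Core

end CfsgLib.Phan
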