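import Cfsg.Agent.Lib.Phan.Planes

/-!
The base of the induction over the field with nine elements: homomorphisms of the four-dimensional
group restricting to two overlapping three-dimensional ones.
-/

set_option autoImplicit false
set_option maxHeartbeats 800000
set_option synthInstance.maxHeartbeats 100000

namespace CfsgLib.Phan

open Module CfsgLib.Classical.Herm HermSpace
open scoped Matrix

variable {F : Type*} [Field F] [Fintype F] {q : ℕ} (hF : Fintype.card F = q ^ 2)

/-- Homomorphisms of the three-dimensional group are determined on two planes. -/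
theorem hom_ext3 (hq : 3 ≤ q) {G : Type*} [Group G] {f g : ↥(K hF 3) →* G}
    (h1 : ∀ y, f (ini hF 2 3 (by omega) y) = g (ini hF 2 3 (by omega) y))
    (h2 : ∀ y, f (tl hF 2 y) = g (tl hF 2 y)) : f = g := by
  obtain ⟨s, hs⟩ := Datum.exists_s2 (hF := hF)
  have hS : f.eqLocus g = ⊤ := by
    refine gen_K hF (Or.inr ⟨hq, le_rfl⟩) _ (fun x hx => ?_) (s := ini hF 2 3 (by omega) s) (h1 s) ?_
    · obtain ⟨y, rfl⟩ := Datum.exists_of_stab (k := 2) hx
      exact h2 y
    · have h : ini hF 2 3 (by omega) s • (E 0 : Fin 3 → F) = E 1 := by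
        have h0 : (E 0 : Fin 3 → F) = ext0 (Fin.castLEEmb (show 2 ≤ 3 by omega)) (E 0) := by
          rw [ext0_E]; rfl
        rw [h0]
        show emb hF _ s • _ = _
        rw [emb_ext0, hs, ext0_E]; rfl
      rw [h]; exact adj_E hF (by decide)
  refine MonoidHom.ext fun x => ?_
  have : x ∈ f.eqLocus g := by rw [hS]; trivial
  exact this

variable {hF}

/-- Twists depend only on ratios. -/
theorem twist_scalar {n : ℕ} (θ : F ≃+* F) {δ δ' : Fin n → F} (hδ : ∀ i, nm hF (δ i) = 1)
    (hδ' : ∀ i, nm hF (δ' i) = 1) {l : F} (hl : nm hF l = 1) (h : ∀ i, δ' i = l * δ i)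
    (g : ↥(K hF n)) : twist hF θ δ' hδ' g = twist hF θ δ hδ g := by
  apply mat_injective hF
  rw [mat_twist, mat_twist]
  ext i j
  rw [Matrix.mul_diagonal, Matrix.diagonal_mul, Matrix.mul_diagonal, Matrix.diagonal_mul, h, h,
    map_mul]
  have hl' : l * qPow hF l = 1 := hl
  linear_combination (δ i * ((mat hF g).map θ) i j * qPow hF (δ j)) * hl'

/-- Conjugation by a diagonal element. -/
theorem conj_diag {n : ℕ} {X : ↥(K hF n)} {t : Fin n → F} (ht : mat hF X = Matrix.diagonal t)
    (hn : ∀ i, nm hF (t i) = 1) (z : ↥(K hF n)) :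
    X * z * X⁻¹ = twist hF (RingEquiv.refl F) t hn z := by
  apply mat_injective hF
  have h : mat hF X⁻¹ = Matrix.diagonal fun i => qPow hF (t i) := by
    have h1 : mat hF X * Matrix.diagonal (fun i => qPow hF (t i)) = 1 := by
      rw [ht, Matrix.diagonal_mul_diagonal, ← Matrix.diagonal_one]
      exact congrArg Matrix.diagonal (funext fun i => hn i)
    calc mat hF X⁻¹ = mat hF X⁻¹ * (mat hF X * Matrix.diagonal (fun i => qPow hF (t i))) := by
          rw [h1, mul_one]
      _ = _ := by rw [← mul_assoc, ← map_mul, inv_mul_cancel, map_one, one_mul]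
  rw [map_mul, map_mul, ht, h, mat_twist]
  congr 1

/-- Reversal of three coordinates. -/
def rev3 : Fin 3 ↪ Fin 3 := ⟨![2, 1, 0], by decide⟩
/-- Reversal of two coordinates. -/
def rev2 : Fin 2 ↪ Fin 2 := ⟨![1, 0], by decide⟩

theorem rev_ini (y : ↥(K hF 2)) :
    emb hF rev3 (ini hF 2 3 (by omega) y) = tl hF 2 (emb hF rev2 y) := by
  show emb hF rev3 (emb hF _ y) = emb hF _ (emb hF rev2 y)
  rw [emb_comp, emb_comp]
  exact emb_congr hF (fun i => by fin_cases i <;> rfl) y

theorem rev_tl (y : ↥(K hF 2)) :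
    emb hF rev3 (tl hF 2 y) = ini hF 2 3 (by omega) (emb hF rev2 y) := by
  show emb hF rev3 (emb hF _ y) = emb hF _ (emb hF rev2 y)
  rw [emb_comp, emb_comp]
  exact emb_congr hF (fun i => by fin_cases i <;> rfl) y

theorem rev2_rev2 (y : ↥(K hF 2)) : emb hF rev2 (emb hF rev2 y) = y := by
  rw [emb_comp]
  exact emb_refl hF (fun i => by fin_cases i <;> rfl) y

theorem range_comp_emb {a : ℕ} {G : Type*} [Group G] (f : ↥(K hF a) →* G) (e : Fin a ↪ Fin a) :
    (f.comp (emb hF e)).range = f.range := by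
  rw [MonoidHom.range_comp,
    MonoidHom.range_eq_top.2 (Finite.injective_iff_surjective.1 (emb_injective hF e)),
    ← MonoidHom.range_eq_map]

/-- The reversed identification. -/
noncomputable def PairHom.rev {G : Type*} [Group G] {V A B : Subgroup G} (P : PairHom hF V A B) :
    PairHom hF V B A where
  g := P.g.comp (emb hF rev3)
  range_eq := by rw [range_comp_emb, P.range_eq]
  left_eq := by
    refine Eq.trans ?_ P.right_eq
    rw [show (P.g.comp (emb hF rev3)).comp (ini hF 2 3 (by omega)) =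
      (P.g.comp (tl hF 2)).comp (emb hF rev2) from MonoidHom.ext fun y => congrArg P.g (rev_ini y),
      range_comp_emb]
  right_eq := by
    refine Eq.trans ?_ P.left_eq
    rw [show (P.g.comp (emb hF rev3)).comp (tl hF 2) =
      (P.g.comp (ini hF 2 3 (by omega))).comp (emb hF rev2) from
        MonoidHom.ext fun y => congrArg P.g (rev_tl y), range_comp_emb]
  ker_le := by
    intro x hx
    have h := P.ker_le (show emb hF rev3 x ∈ P.g.ker from hx)
    rw [Subgroup.mem_center_iff] at h ⊢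
    intro y
    apply emb_injective hF rev3
    rw [map_mul, map_mul, h]

/-- A field automorphism fixing a square root of minus one. -/
theorem eq_refl_of_fix (hq : q = 3) {a : F} (ha : nm hF a = 1) (ha2 : a ^ 2 = -1) {θ : F ≃+* F}
    (h : θ a = a) : θ = RingEquiv.refl F := by
  have h3 := three_eq_zero hq hF
  have h2 : (2 : F) ≠ 0 := fun h => one_ne_zero (α := F) (by linear_combination h3 - h)
  have hne : a - qPow hF a ≠ 0 := fun h0 => h2 (by
    have ha' : a * qPow hF a = 1 := ha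
    rw [← sub_eq_zero.1 h0] at ha'
    linear_combination ha2 - ha')
  have hfix : ∀ c : F, qPow hF c = c → θ c = c := by
    intro c hc
    have h' : c * ((c - 1) * (c + 1)) = 0 := by
      rw [qPow_apply] at hc
      replace hc : c ^ 3 = c := by subst hq; exact hc
      linear_combination hc
    rcases mul_eq_zero.1 h' with h | h
    · rw [h, map_zero]
    · rcases mul_eq_zero.1 h with h | h
      · rw [sub_eq_zero.1 h, map_one]
      · rw [eq_neg_of_add_eq_zero_left h, map_neg, map_one]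
  refine RingEquiv.ext fun x => ?_
  set v := (x - qPow hF x) / (a - qPow hF a) with hv
  have hvfix : qPow hF v = v := by
    rw [hv, map_div₀, map_sub, map_sub, qPow_qPow, qPow_qPow, ← neg_div_neg_eq, neg_sub, neg_sub]
  have hufix : qPow hF (x - v * a) = x - v * a := by
    rw [map_sub, map_mul, hvfix]
    have e : v * (a - qPow hF a) = x - qPow hF x := div_mul_cancel₀ _ hne
    linear_combination e
  show θ x = x
  calc θ x = θ ((x - v * a) + v * a) := by rw [sub_add_cancel]
    _ = (x - v * a) + v * a := by rw [map_add, map_mul, hfix _ hufix, hfix _ hvfix, h]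
    _ = x := sub_add_cancel _ _

/-- Adjusting an identification on the left-hand plane. -/
theorem left_twist (hq : q = 3) {G : Type*} [Group G] {V V' A B : Subgroup G}
    (P : PairHom hF V A B) (Q : PairHom hF V' A B) (h : ∀ y, P.g (tl hF 2 y) = Q.g (tl hF 2 y)) :
    ∃ (δ : Fin 2 → F) (hδ : ∀ i, nm hF (δ i) = 1), ∀ y, P.g (ini hF 2 3 (by omega) y) =
      Q.g (ini hF 2 3 (by omega) (twist hF (RingEquiv.refl F) δ hδ y)) := by
  obtain ⟨a, ha, ha2⟩ := exists_four_root hF hq
  obtain ⟨d, hd, hd0, hd1⟩ := exists_diag hF ha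
  have hane : a ≠ qPow hF a := fun h0 => by
    have ha' : a * qPow hF a = 1 := ha
    rw [← h0] at ha'
    exact one_ne_zero (α := F) (by linear_combination three_eq_zero hq hF + ha' - ha2)
  let eQ : ↥(K hF 2) ≃* ↥A := (MonoidHom.ofInjective Q.left_injective).trans
    (MulEquiv.subgroupCongr Q.left_eq)
  let eP : ↥(K hF 2) ≃* ↥A := (MonoidHom.ofInjective P.left_injective).trans
    (MulEquiv.subgroupCongr P.left_eq)
  set α : ↥(K hF 2) ≃* ↥(K hF 2) := eP.trans eQ.symm with hα
  have hspec : ∀ y, Q.g (ini hF 2 3 (by omega) (α y)) = P.g (ini hF 2 3 (by omega) y) := fun y => by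
    have h : eQ (α y) = eP y := eQ.apply_symm_apply _
    exact congrArg Subtype.val h
  have hdiag : ∀ y, IsDiag hF y → IsDiag hF (α y) := fun y hy => by
    rw [Q.diag_iff, hspec]
    exact (P.diag_iff y).1 hy
  have hαd := hdiag d hd
  obtain ⟨e11, -, en⟩ := mat_entries hF (α d)
  set a' := mat hF (α d) 0 0 with ha'def
  have ha' : nm hF a' = 1 := by
    rw [hαd.2] at en
    simpa [nm] using en
  have hmd : ∀ (z : ↥(K hF 2)) (b : F), IsDiag hF z → mat hF z 0 0 = b →
      mat hF z 1 1 = qPow hF b → mat hF (ini hF 2 3 (by omega) z) =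
        Matrix.diagonal ![b, qPow hF b, 1] := by
    intro z b hz h0 h1
    refine mat_emb_diag _ (t := ![b, qPow hF b]) ?_ (fun i => by fin_cases i <;> rfl) ?_
    · ext i j; fin_cases i <;> fin_cases j <;> simp [h0, h1, hz.1, hz.2]
    · intro j hj
      fin_cases j
      · exact absurd rfl (hj 0)
      · exact absurd rfl (hj 1)
      · rfl
  have hnq : ∀ b : F, nm hF b = 1 → nm hF (qPow hF b) = 1 := fun b hb => by
    rw [nm, qPow_qPow, mul_comm]; exact hb
  have hn3 : ∀ b : F, nm hF b = 1 → ∀ i, nm hF ((![b, qPow hF b, 1] : Fin 3 → F) i) = 1 := fun b hb i => by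
    fin_cases i
    · exact hb
    · exact hnq b hb
    · simp [nm]
  have hconj : ∀ (R : PairHom hF V' A B) (z : ↥(K hF 2)) (b : F) (hb : nm hF b = 1),
      mat hF (ini hF 2 3 (by omega) z) = Matrix.diagonal ![b, qPow hF b, 1] → ∀ y,
      R.g (ini hF 2 3 (by omega) z) * R.g (tl hF 2 y) * (R.g (ini hF 2 3 (by omega) z))⁻¹ =
        R.g (tl hF 2 (twist hF (RingEquiv.refl F)
          ((![b, qPow hF b, 1] : Fin 3 → F) ∘ Fin.succEmb 2) (fun i => hn3 b hb _) y)) := by
    intro R z b hb hm y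
    rw [← map_mul, ← map_inv, ← map_mul, conj_diag hm (hn3 b hb), twist_emb]
  have haa : a' = a := by
    obtain ⟨s, hs⟩ := Datum.exists_s2 (hF := hF)
    have e1 := hconj Q (α d) a' ha' (hmd _ a' hαd rfl e11) s
    rw [hspec, ← h s] at e1
    rw [← map_mul, ← map_inv, ← map_mul, conj_diag (hmd d a hd hd0 hd1) (hn3 a ha), twist_emb,
      h] at e1
    have e2 := congrArg (fun z => mat hF z 1 0) (Q.right_injective e1)
    simp only [mat_twist, Matrix.mul_diagonal, Matrix.diagonal_mul, Matrix.map_apply] at e2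
    rw [show mat hF s 1 0 = 1 by rw [mat_apply, hs]; simp [E]] at e2
    have e3 : (1 : F) * 1 * qPow hF (qPow hF a) = 1 * 1 * qPow hF (qPow hF a') := by
      simpa using e2
    rw [qPow_qPow, qPow_qPow] at e3
    linear_combination -e3
  obtain ⟨θ, δ, hδ, htw⟩ := aut_twist hF α hd (by rw [hd0, hd1]; exact hane) hαd
  have hθa : θ a = a := by
    have e2 := congrArg (fun z => mat hF z 0 0) (htw d)
    simp only [mat_twist, Matrix.mul_diagonal, Matrix.diagonal_mul, Matrix.map_apply] at e2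
    rw [← ha'def, haa, hd0] at e2
    have hn : δ 0 * qPow hF (δ 0) = 1 := hδ 0
    linear_combination (-1 : F) * e2 - θ a * hn
  obtain rfl := eq_refl_of_fix hq ha ha2 hθa
  exact ⟨δ, hδ, fun y => by rw [← htw, hspec]⟩

theorem emb_ini4_ini (y : ↥(K hF 2)) :
    ini hF 3 4 (by omega) (ini hF 2 3 (by omega) y) = emb hF p01 y := by
  show emb hF _ (emb hF _ y) = _
  rw [emb_comp]
  exact emb_congr hF (fun i => by fin_cases i <;> rfl) y

theorem emb_ini4_tl (y : ↥(K hF 2)) :
    ini hF 3 4 (by omega) (tl hF 2 y) = emb hF p12 y := by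
  show emb hF _ (emb hF _ y) = _
  rw [emb_comp]
  exact emb_congr hF (fun i => by fin_cases i <;> rfl) y

theorem emb_tl4_ini (y : ↥(K hF 2)) :
    tl hF 3 (ini hF 2 3 (by omega) y) = emb hF p12 y := by
  show emb hF _ (emb hF _ y) = _
  rw [emb_comp]
  exact emb_congr hF (fun i => by fin_cases i <;> rfl) y

theorem emb_tl4_tl (y : ↥(K hF 2)) : tl hF 3 (tl hF 2 y) = emb hF p23 y := by
  show emb hF _ (emb hF _ y) = _
  rw [emb_comp]
  exact emb_congr hF (fun i => by fin_cases i <;> rfl) y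

/-- Matching once the planes are in standard position. -/
theorem exists_matched (hq : q = 3) {G : Type*} [Group G] {π : ↥(K hF 4) →* G}
    (hπ : π.ker ≤ Subgroup.center ↥(K hF 4)) {u v w : ↥(K hF 2) →* G}
    (huw : ∀ x y, Commute (u x) (w y)) {f g : ↥(K hF 3) →* G} (hf : Function.Injective f)
    (hg : Function.Injective g) (hfu : ∀ y, f (ini hF 2 3 (by omega) y) = u y)
    (hfv : ∀ y, f (tl hF 2 y) = v y) (hgv : ∀ y, g (ini hF 2 3 (by omega) y) = v y)
    (hgw : ∀ y, g (tl hF 2 y) = w y) (hU : (π.comp (emb hF p01)).range = u.range)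
    (hV : (π.comp (emb hF p12)).range = v.range) (hW : (π.comp (emb hF p23)).range = w.range) :
    ∃ Φ : ↥(K hF 4) →* G, (∀ x, Φ (ini hF 3 4 (by omega) x) = f x) ∧
      ∀ x, Φ (tl hF 3 x) = g x := by
  have hinj : ∀ {k : Fin 3 ↪ Fin 4} {j : Fin 4}, (∀ i, k i ≠ j) →
      Function.Injective (π.comp (emb hF k)) := by
    intro k j hk
    rw [← MonoidHom.ker_eq_bot_iff, eq_bot_iff]
    intro x hx
    have hfix : emb hF k x • (E j : Fin 4 → F) = E j :=
      emb_fix hF _ _ fun i => E_apply_ne (hk i)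
    exact Subgroup.mem_bot.2 (emb_injective hF _
      ((central_fix_one (hπ hx) (by omega) hfix).trans (map_one _).symm))
  have kle : ∀ {ψ : ↥(K hF 3) →* G}, Function.Injective ψ →
      ψ.ker ≤ Subgroup.center ↥(K hF 3) := fun {ψ} hψ x hx => by
    rw [show x = 1 from hψ (by rw [map_one]; exact hx)]; exact one_mem _
  let P1 : PairHom hF f.range u.range v.range :=
    { g := f
      range_eq := rfl
      left_eq := by rw [show f.comp (ini hF 2 3 (by omega)) = u from MonoidHom.ext hfu]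
      right_eq := by rw [show f.comp (tl hF 2) = v from MonoidHom.ext hfv]
      ker_le := kle hf }
  let P2 : PairHom hF g.range v.range w.range :=
    { g := g
      range_eq := rfl
      left_eq := by rw [show g.comp (ini hF 2 3 (by omega)) = v from MonoidHom.ext hgv]
      right_eq := by rw [show g.comp (tl hF 2) = w from MonoidHom.ext hgw]
      ker_le := kle hg }
  have hi3 : ∀ i, (Fin.castLEEmb (show 3 ≤ 4 by omega)) i ≠ 3 := fun i =>
    Fin.ne_of_val_ne (by simp; omega)
  have ht0 : ∀ i, (Fin.succEmb 3) i ≠ 0 := fun i => Fin.succ_ne_zero i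
  let Q1 : PairHom hF (π.comp (ini hF 3 4 (by omega))).range u.range v.range :=
    { g := π.comp (ini hF 3 4 (by omega))
      range_eq := rfl
      left_eq := by
        rw [show (π.comp (ini hF 3 4 (by omega))).comp (ini hF 2 3 (by omega)) =
          π.comp (emb hF p01) from MonoidHom.ext fun y => congrArg π (emb_ini4_ini y), hU]
      right_eq := by
        rw [show (π.comp (ini hF 3 4 (by omega))).comp (tl hF 2) =
          π.comp (emb hF p12) from MonoidHom.ext fun y => congrArg π (emb_ini4_tl y), hV]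
      ker_le := kle (hinj hi3) }
  let Q2 : PairHom hF (π.comp (tl hF 3)).range v.range w.range :=
    { g := π.comp (tl hF 3)
      range_eq := rfl
      left_eq := by
        rw [show (π.comp (tl hF 3)).comp (ini hF 2 3 (by omega)) =
          π.comp (emb hF p12) from MonoidHom.ext fun y => congrArg π (emb_tl4_ini y), hV]
      right_eq := by
        rw [show (π.comp (tl hF 3)).comp (tl hF 2) =
          π.comp (emb hF p23) from MonoidHom.ext fun y => congrArg π (emb_tl4_tl y), hW]
      ker_le := kle (hinj ht0) }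
  obtain ⟨θ, δ, hδ, hmid⟩ := exists_match_twist hF P1 Q2 (fun a ha c hc => by
    obtain ⟨x, rfl⟩ := ha
    obtain ⟨y, rfl⟩ := hc
    exact huw x y)
  set δ4 : Fin 4 → F := ![1, δ 0, δ 1, δ 2] with hδ4def
  have hδ4 : ∀ i, nm hF (δ4 i) = 1 := fun i => by
    fin_cases i
    exacts [by simp [δ4, nm], hδ 0, hδ 1, hδ 2]
  set π1 := π.comp (twist hF θ δ4 hδ4) with hπ1
  let R1 := Q1.twisted θ (δ4 ∘ Fin.castLEEmb (show 3 ≤ 4 by omega)) fun i => hδ4 _
  let R2 := Q2.twisted θ (δ4 ∘ Fin.succEmb 3) fun i => hδ4 _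
  have hR1 : ∀ x, R1.g x = π1 (ini hF 3 4 (by omega) x) := fun x =>
    congrArg π (twist_emb hF θ _ δ4 hδ4 x).symm
  have hR2 : ∀ x, R2.g x = π1 (tl hF 3 x) := fun x =>
    congrArg π (twist_emb hF θ _ δ4 hδ4 x).symm
  have hδs : δ4 ∘ Fin.succEmb 3 = δ := by funext i; fin_cases i <;> rfl
  have hmid1 : ∀ y, π1 (emb hF p12 y) = v y := fun y => by
    rw [← emb_tl4_ini, ← hR2, ← hfv, ← show P1.g (tl hF 2 y) = f (tl hF 2 y) from rfl, ← hmid]
    show Q2.g (twist hF θ (δ4 ∘ Fin.succEmb 3) _ _) = Q2.g (twist hF θ δ hδ _)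
    simp only [hδs]
  have hl1 : ∀ y, P1.g (tl hF 2 y) = R1.g (tl hF 2 y) := fun y => by
    rw [hR1, emb_ini4_tl, hmid1]; exact hfv y
  have hr1 : ∀ y, P2.rev.g (tl hF 2 y) = R2.rev.g (tl hF 2 y) := fun y => by
    show g (emb hF rev3 (tl hF 2 y)) = R2.g (emb hF rev3 (tl hF 2 y))
    rw [rev_tl, hgv, hR2, emb_tl4_ini, hmid1]
  obtain ⟨β, hβ, hleft⟩ := left_twist hq P1 R1 hl1
  obtain ⟨γ, hγ, hright⟩ := left_twist hq P2.rev R2.rev hr1
  have hright' : ∀ y, g (tl hF 2 y) = π1 (emb hF p23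
      (twist hF (RingEquiv.refl F) (γ ∘ rev2) (fun i => hγ _) y)) := fun y => by
    have h := hright (emb hF rev2 y)
    change g (emb hF rev3 (ini hF 2 3 _ _)) = R2.g (emb hF rev3 (ini hF 2 3 _ _)) at h
    rw [rev_ini, rev_ini, rev2_rev2, hR2, emb_tl4_tl] at h
    rw [h]
    congr 2
    rw [← rev2_rev2 (twist hF (RingEquiv.refl F) (γ ∘ rev2) (fun i => hγ _) y)]
    congr 1
    rw [← twist_emb]
  set δ5 : Fin 4 → F := ![β 0, β 1, β 1, β 1 * (γ 0 * qPow hF (γ 1))] with hδ5def
  have hmulnm : ∀ b c : F, nm hF b = 1 → nm hF c = 1 → nm hF (b * c) = 1 := fun b c hb hc => by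
    have hb' : b * qPow hF b = 1 := hb
    have hc' : c * qPow hF c = 1 := hc
    rw [nm, map_mul]; linear_combination (c * qPow hF c) * hb' + hc'
  have hqnm : ∀ b : F, nm hF b = 1 → nm hF (qPow hF b) = 1 := fun b hb => by
    rw [nm, qPow_qPow, mul_comm]; exact hb
  have hδ5 : ∀ i, nm hF (δ5 i) = 1 := fun i => by
    fin_cases i
    exacts [hβ 0, hβ 1, hβ 1, hmulnm _ _ (hβ 1) (hmulnm _ _ (hγ 0) (hqnm _ (hγ 1)))]
  refine ⟨π1.comp (twist hF (RingEquiv.refl F) δ5 hδ5), ?_, ?_⟩
  · have key : (π1.comp (twist hF (RingEquiv.refl F) δ5 hδ5)).comp (ini hF 3 4 (by omega)) = f := by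
      refine hom_ext3 hF (by omega) (fun y => ?_) fun y => ?_
      · show π1 (twist hF _ δ5 hδ5 (ini hF 3 4 _ (ini hF 2 3 _ y))) = _
        rw [emb_ini4_ini, twist_emb, ← show P1.g (ini hF 2 3 (by omega) y) = f _ from rfl, hleft,
          hR1, emb_ini4_ini]
        congr 2
        exact twist_scalar _ hβ _ (l := 1) (by simp [nm]) (fun i => by fin_cases i <;> simp [δ5, p01]) y
      · show π1 (twist hF _ δ5 hδ5 (ini hF 3 4 _ (tl hF 2 y))) = _
        rw [emb_ini4_tl, twist_emb, hfv]
        refine Eq.trans ?_ (hmid1 y)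
        congr 2
        rw [twist_scalar _ (δ := fun _ => (1 : F)) (fun _ => by simp [nm]) _ (l := β 1) (hβ 1)
          (fun i => by fin_cases i <;> simp [δ5, p12]) y]
        apply mat_injective hF
        rw [mat_twist]
        simp [Matrix.map_id']
    exact fun x => DFunLike.congr_fun key x
  · have key : (π1.comp (twist hF (RingEquiv.refl F) δ5 hδ5)).comp (tl hF 3) = g := by
      refine hom_ext3 hF (by omega) (fun y => ?_) fun y => ?_
      · show π1 (twist hF _ δ5 hδ5 (tl hF 3 (ini hF 2 3 _ y))) = _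
        rw [emb_tl4_ini, twist_emb, hgv]
        refine Eq.trans ?_ (hmid1 y)
        congr 2
        rw [twist_scalar _ (δ := fun _ => (1 : F)) (fun _ => by simp [nm]) _ (l := β 1) (hβ 1)
          (fun i => by fin_cases i <;> simp [δ5, p12]) y]
        apply mat_injective hF
        rw [mat_twist]
        simp [Matrix.map_id']
      · show π1 (twist hF _ δ5 hδ5 (tl hF 3 (tl hF 2 y))) = _
        rw [emb_tl4_tl, twist_emb, hright']
        congr 2
        refine twist_scalar _ _ _ (l := β 1 * qPow hF (γ 1)) (hmulnm _ _ (hβ 1) (hqnm _ (hγ 1)))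
          (fun i => ?_) y
        have h1 : γ 1 * qPow hF (γ 1) = 1 := hγ 1
        fin_cases i
        · show β 1 = β 1 * qPow hF (γ 1) * γ 1
          linear_combination (-β 1) * h1
        · show β 1 * (γ 0 * qPow hF (γ 1)) = β 1 * qPow hF (γ 1) * γ 0
          ring
    exact fun x => DFunLike.congr_fun key x

theorem mat_ini_diag {z : ↥(K hF 2)} {t : Fin 2 → F} (ht : mat hF z = Matrix.diagonal t) :
    mat hF (ini hF 2 3 (by omega) z) = Matrix.diagonal ![t 0, t 1, 1] :=
  mat_emb_diag _ ht (fun i => by fin_cases i <;> rfl) fun j hj => by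
    fin_cases j
    · exact absurd rfl (hj 0)
    · exact absurd rfl (hj 1)
    · rfl

theorem mat_tl_diag {z : ↥(K hF 2)} {t : Fin 2 → F} (ht : mat hF z = Matrix.diagonal t) :
    mat hF (tl hF 2 z) = Matrix.diagonal ![1, t 0, t 1] :=
  mat_emb_diag _ ht (fun i => by fin_cases i <;> rfl) fun j hj => by
    fin_cases j
    · rfl
    · exact absurd rfl (hj 0)
    · exact absurd rfl (hj 1)

theorem diag_commute {n : ℕ} {z z' : ↥(K hF n)} {t t' : Fin n → F}
    (h : mat hF z = Matrix.diagonal t) (h' : mat hF z' = Matrix.diagonal t') : Commute z z' :=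
  mat_injective hF (by
    rw [map_mul, map_mul, h, h', Matrix.diagonal_mul_diagonal, Matrix.diagonal_mul_diagonal]
    congr 1; funext i; exact mul_comm _ _)

theorem not_central_of_diag {G : Type*} [Group G] {π : ↥(K hF 4) →* G} {f : ↥(K hF 3) →* G}
    (hf : Function.Injective f) (hfr : f.range ≤ π.range) {z : ↥(K hF 4)} {m : ↥(K hF 3)}
    {t : Fin 3 → F} (ht : mat hF m = Matrix.diagonal t) (hne : ∃ i j, t i ≠ t j)
    (hzm : π z = f m) : z ∉ Subgroup.center ↥(K hF 4) := by
  intro hzc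
  obtain ⟨i, j, hij⟩ := hne
  refine hij (diag_eq_of_central ht ?_ (by omega) i j)
  rw [Subgroup.mem_center_iff]
  intro k
  apply hf
  obtain ⟨r, hr⟩ := hfr ⟨k, rfl⟩
  rw [map_mul, map_mul, ← hzm, ← hr, ← map_mul, ← map_mul, Subgroup.mem_center_iff.1 hzc r]

/-- An involution commutes with the square of an element whose image commutes with its image. -/
theorem commute_of_sq_lift {G : Type*} [Group G] {π : ↥(K hF 4) →* G}
    (hπ : π.ker ≤ Subgroup.center ↥(K hF 4)) {za zb T : ↥(K hF 4)} (hza : za * za = 1)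
    (hcm : Commute (π T) (π za)) (hTb : π (T * T) = π zb) : Commute za zb := by
  set c := T * za * T⁻¹ * za⁻¹ with hc
  have hck : c ∈ Subgroup.center ↥(K hF 4) := hπ (by
    rw [MonoidHom.mem_ker, hc, map_mul, map_mul, map_mul, map_inv, map_inv, hcm.eq]
    group)
  have hcc : ∀ r, c * r = r * c := fun r => (Subgroup.mem_center_iff.1 hck r).symm
  have hTz : T * za * T⁻¹ = c * za := by rw [hc]; group
  clear_value c
  have hc2 : c * c = 1 := by
    have e : (T * za * T⁻¹) * (T * za * T⁻¹) = 1 := by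
      rw [show T * za * T⁻¹ * (T * za * T⁻¹) = T * (za * za) * T⁻¹ by group, hza]; group
    rw [hTz, mul_assoc, ← mul_assoc za, ← hcc za, mul_assoc, hza, mul_one] at e
    exact e
  have hTT : Commute (T * T) za := by
    refine mul_inv_eq_iff_eq_mul.1 ?_
    calc T * T * za * (T * T)⁻¹ = T * (T * za * T⁻¹) * T⁻¹ := by group
      _ = T * (c * za) * T⁻¹ := by rw [hTz]
      _ = c * (T * za * T⁻¹) := by rw [← mul_assoc T c za, ← hcc T]; group
      _ = za := by rw [hTz, ← mul_assoc, hc2, one_mul]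
  have hk : zb * (T * T)⁻¹ ∈ Subgroup.center ↥(K hF 4) := hπ (by
    rw [MonoidHom.mem_ker, map_mul, map_inv, hTb, mul_inv_cancel])
  have hkc : Commute za (zb * (T * T)⁻¹) := Subgroup.mem_center_iff.1 hk za
  have h := hkc.mul_right hTT.symm
  rwa [inv_mul_cancel_right] at h

/-- The base of the induction over nine elements. -/
theorem exists_base (hq : q = 3) {G : Type*} [Group G] {π : ↥(K hF 4) →* G}
    {u v w : ↥(K hF 2) →* G} (huw : ∀ x y, Commute (u x) (w y)) {f g : ↥(K hF 3) →* G}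
    (hf : Function.Injective f) (hg : Function.Injective g)
    (hfu : ∀ y, f (ini hF 2 3 (by omega) y) = u y)
    (hfv : ∀ y, f (tl hF 2 y) = v y) (hgv : ∀ y, g (ini hF 2 3 (by omega) y) = v y)
    (hgw : ∀ y, g (tl hF 2 y) = w y) (hfr : f.range ≤ π.range) (hgr : g.range ≤ π.range) :
    ∃ Φ : ↥(K hF 4) →* G, (∀ x, Φ (ini hF 3 4 (by omega) x) = f x) ∧
      ∀ x, Φ (tl hF 3 x) = g x := by
  have h3 := three_eq_zero hq hF
  have h2 : (2 : F) ≠ 0 := fun h => one_ne_zero (α := F) (by linear_combination h3 - h)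
  have hm1 : (-1 : F) ≠ 1 := fun h => h2 (by linear_combination -h)
  obtain ⟨x, y, hx3, hy3, hxy, hz, hgen⟩ := exists_braid_gens hF hq
  obtain ⟨a, ha, ha2⟩ := exists_four_root hF hq
  have ha1 : a ≠ 1 := fun h => h2 (by rw [h] at ha2; linear_combination ha2)
  obtain ⟨d, hd, hd0, hd1⟩ := exists_diag hF ha
  have hdm : mat hF d = Matrix.diagonal ![a, qPow hF a] := by
    ext i j; fin_cases i <;> fin_cases j <;> simp [hd0, hd1, hd.1, hd.2]
  set n0 := x * y * x * (x * y * x) with hn0
  have hn0m : mat hF n0 = Matrix.diagonal fun _ => (-1 : F) := by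
    rw [hz, ← Matrix.diagonal_one, ← Matrix.diagonal_neg]
  have hdd : d * d = n0 := mat_injective hF (by
    rw [map_mul, hdm, Matrix.diagonal_mul_diagonal, hn0m]
    congr 1
    funext i
    fin_cases i
    · show a * a = -1
      rw [← pow_two, ha2]
    · show qPow hF a * qPow hF a = -1
      rw [← map_mul, ← pow_two, ha2, map_neg, map_one])
  have mL : ∀ {z : ↥(K hF 2)} {t : Fin 2 → F}, mat hF z = Matrix.diagonal t →
      mat hF (ini hF 2 3 (by omega) z) = Matrix.diagonal ![t 0, t 1, 1] := fun ht => mat_ini_diag ht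
  have mR : ∀ {z : ↥(K hF 2)} {t : Fin 2 → F}, mat hF z = Matrix.diagonal t →
      mat hF (tl hF 2 z) = Matrix.diagonal ![1, t 0, t 1] := fun ht => mat_tl_diag ht
  have hnc := fun (z : ↥(K hF 4)) (m : ↥(K hF 3)) (t : Fin 3 → F) =>
    not_central_of_diag (π := π) hf hfr (z := z) (m := m) (t := t)
  have hur : u.range ≤ π.range := by rintro _ ⟨k, rfl⟩; exact hfu k ▸ hfr ⟨_, rfl⟩
  have hvr : v.range ≤ π.range := by rintro _ ⟨k, rfl⟩; exact hfv k ▸ hfr ⟨_, rfl⟩
  have hwr : w.range ≤ π.range := by rintro _ ⟨k, rfl⟩; exact hgw k ▸ hgr ⟨_, rfl⟩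
  have huinj : Function.Injective u := fun k k' h => emb_injective hF _ (hf (by
    rw [← hfu, ← hfu] at h; exact h))
  have hvinj : Function.Injective v := fun k k' h => emb_injective hF _ (hf (by
    rw [← hfv, ← hfv] at h; exact h))
  have hwinj : Function.Injective w := fun k k' h => emb_injective hF _ (hg (by
    rw [← hgw, ← hgw] at h; exact h))
  have hn0ne : n0 ≠ 1 := fun h => by
    rw [h, map_one] at hn0m
    have := congrFun (congrFun hn0m 0) 0
    simp at this
    exact hm1 this.symm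
  have hπ : π.ker ≤ Subgroup.center ↥(K hF 4) := by
    obtain ⟨r, hr⟩ := hur ⟨n0, rfl⟩
    exact ker_le_center hq π ⟨r, fun h => hn0ne (huinj (by rw [← hr, h, map_one]))⟩
  obtain ⟨a1, a2, ha31, ha32, hax, hay, hab⟩ := exists_lift_pair hq hπ u hur hx3 hy3 hxy
  obtain ⟨b1, b2, hb31, hb32, hbx, hby, hbb⟩ := exists_lift_pair hq hπ v hvr hx3 hy3 hxy
  obtain ⟨c1, c2, hc31, hc32, hcx, hcy, hcb⟩ := exists_lift_pair hq hπ w hwr hx3 hy3 hxy
  set za := a1 * a2 * a1 * (a1 * a2 * a1) with hzadef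
  set zb := b1 * b2 * b1 * (b1 * b2 * b1) with hzbdef
  have hπa : π za = f (ini hF 2 3 (by omega) n0) := by
    rw [hfu, hzadef, hn0]; simp only [map_mul, hax, hay]
  have hπb : π zb = f (tl hF 2 n0) := by
    rw [hfv, hzbdef, hn0]; simp only [map_mul, hbx, hby]
  obtain ⟨-, -, hza2⟩ := braid_sq ha31 hab
  obtain ⟨-, -, hzb2⟩ := braid_sq hb31 hbb
  have hza2' : za * za = 1 := hza2
  have hzb2' : zb * zb = 1 := hzb2
  clear_value za zb
  have hab' : Commute za zb := by
    obtain ⟨T, hT⟩ := hvr ⟨d, rfl⟩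
    refine commute_of_sq_lift hπ hza2' (T := T) ?_ ?_
    · rw [hT, hπa, ← hfv]
      exact (diag_commute (mR hdm) (mL hn0m)).map f
    · rw [map_mul, hT, ← map_mul, hdd, hπb, hfv]
  have hzanc : za ∉ Subgroup.center ↥(K hF 4) :=
    hnc za _ _ (mL hn0m) ⟨0, 2, by simpa using hm1⟩ hπa
  have hzbnc : zb ∉ Subgroup.center ↥(K hF 4) :=
    hnc zb _ _ (mR hn0m) ⟨1, 0, by simpa using hm1⟩ hπb
  have hzabnc : za * zb ∉ Subgroup.center ↥(K hF 4) :=
    hnc (za * zb) (ini hF 2 3 (by omega) n0 * tl hF 2 n0)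
      (fun i => (![-1, -1, 1] : Fin 3 → F) i * (![1, -1, -1] : Fin 3 → F) i)
      (by rw [map_mul, mL hn0m, mR hn0m, Matrix.diagonal_mul_diagonal])
      ⟨0, 1, by simpa using hm1⟩
      (by rw [map_mul, map_mul, hπa, hπb])
  obtain ⟨τ, hτa, hτb⟩ := exists_normal h2 hza2' hzb2' hab' hzanc hzbnc hzabnc
  set π' := π.comp τ.toMonoidHom with hπ'def
  have hπ' : π'.ker ≤ Subgroup.center ↥(K hF 4) := by
    intro k hk
    have h := hπ (show τ k ∈ π.ker from hk)
    rw [Subgroup.mem_center_iff] at h ⊢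
    intro r
    apply τ.injective
    rw [map_mul, map_mul, h]
  have hpre : ∀ k, π' (τ.symm k) = π k := fun k => congrArg π (τ.apply_symm_apply k)
  have hpow : ∀ k : ↥(K hF 4), k ^ 3 = 1 → τ.symm k ^ 3 = 1 := fun k hk => by
    rw [← map_pow, hk, map_one]
  have hbr : ∀ k k' : ↥(K hF 4), k * k' * k = k' * k * k' →
      τ.symm k * τ.symm k' * τ.symm k = τ.symm k' * τ.symm k * τ.symm k' := fun k k' h => by
    rw [← map_mul, ← map_mul, h, map_mul, map_mul]
  have hza' : mat hF (τ.symm a1 * τ.symm a2 * τ.symm a1 * (τ.symm a1 * τ.symm a2 * τ.symm a1)) =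
      Matrix.diagonal ![-1, -1, 1, 1] := by
    rw [← map_mul, ← map_mul, ← map_mul, ← hzadef]; exact hτa
  have hzb' : mat hF (τ.symm b1 * τ.symm b2 * τ.symm b1 * (τ.symm b1 * τ.symm b2 * τ.symm b1)) =
      Matrix.diagonal ![1, -1, -1, 1] := by
    rw [← map_mul, ← map_mul, ← map_mul, ← hzbdef]; exact hτb
  obtain ⟨hU, hW⟩ := outer_planes hq hπ' huinj hwinj huw hgen hz (hpow _ ha31) (hpow _ ha32)
    (hpow _ hc31) (hpow _ hc32) (hbr _ _ hab) (hbr _ _ hcb) ((hpre _).trans hax)
    ((hpre _).trans hay) ((hpre _).trans hcx) ((hpre _).trans hcy) hza'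
  have hV := middle_plane hq hπ' huinj hvinj hU hgen hx3 hdm ha1
    (by rw [← hfu, ← hfv]; exact (diag_commute (mL hdm) (mR hn0m)).map f)
    (fun y' => by
      obtain ⟨y'', hy''⟩ : ∃ y'', ini hF 2 3 (by omega) d * tl hF 2 y' *
          (ini hF 2 3 (by omega) d)⁻¹ = tl hF 2 y'' :=
        ⟨_, by rw [conj_diag (mL hdm) (fun i => by
          fin_cases i
          · exact ha
          · show nm hF (qPow hF a) = 1
            rw [nm, qPow_qPow, mul_comm]; exact ha
          · simp [nm]), twist_emb]⟩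
      exact ⟨y'', by rw [← hfu, ← hfv, ← hfv y'', ← map_inv, ← map_mul, ← map_mul, hy'']⟩)
    (hpow _ hb31) (hpow _ hb32) (hbr _ _ hbb) ((hpre _).trans hbx) ((hpre _).trans hby) hzb'
  exact exists_matched hq hπ' huw hf hg hfu hfv hgv hgw hU hV hW

end CfsgLib.Phan
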