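import Cfsg.Agent.Lib.Phan.QThree

/-!
Recognition from systems of standard pairs over the field with nine elements.
-/

set_option autoImplicit false
set_option maxHeartbeats 800000
set_option synthInstance.maxHeartbeats 100000

namespace CfsgLib.Phan

open Module CfsgLib.Classical.Herm HermSpace

variable {F : Type*} [Field F] [Fintype F] {q : ℕ} (hF : Fintype.card F = q ^ 2)

/-- A part of length four from a homomorphism restricting to two members of a chain. -/
theorem Chain.part4 {hF : Fintype.card F = q ^ 2} {G : Type*} [Group G] {N : ℕ}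
    (C : Chain hF G N) (hq : 3 ≤ q) {i : ℕ} (hi : i + 4 ≤ N) (Φ : ↥(K hF 4) →* G)
    (h1 : ∀ x, Φ (ini hF 3 4 (by omega) x) = C.f i x) (h2 : ∀ x, Φ (tl hF 3 x) = C.f (i + 1) x) :
    Nonempty (C.Part i 4) := by
  have hstab : ∀ x : ↥(K hF 4), x • (E 0 : Fin 4 → F) = E 0 → Φ x ∈ C.W (i + 1) := by
    intro x hx
    obtain ⟨y, rfl⟩ := Datum.exists_of_stab (k := 3) hx
    show Φ (tl hF 3 y) ∈ _
    rw [h2]
    exact C.f_mem hq (by omega) y
  refine ⟨⟨by omega, hi, Φ, h1, fun x => ?_, hstab, fun j hj1 hj2 => ?_⟩⟩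
  · let S : Subgroup ↥(K hF 4) := (C.W i).comap Φ
    obtain ⟨s, hs⟩ := Datum.exists_s2 (hF := hF)
    have hS : S = ⊤ := by
      refine gen_K hF (Or.inl le_rfl) S (fun g hg => C.W_mono (by omega) (hstab g hg))
        (s := ini hF 3 4 (by omega) (ini hF 2 3 (by omega) s)) ?_ ?_
      · show Φ (ini hF 3 4 _ _) ∈ C.W i
        rw [h1]
        exact C.f_mem hq (by omega) _
      · have h : ini hF 3 4 (by omega) (ini hF 2 3 (by omega) s) • (E 0 : Fin 4 → F) = E 1 := by
          have h0 : (E 0 : Fin 4 → F) = ext0 p01 (E 0) := by rw [ext0_E]; rfl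
          rw [emb_ini4_ini, h0, emb_ext0, hs, ext0_E]; rfl
        rw [h]; exact adj_E hF (by decide)
    have : x ∈ S := by rw [hS]; trivial
    exact this
  · rintro _ ⟨x, rfl⟩
    rcases Nat.lt_or_ge i j with hj | hj
    · rw [show j = i + 1 by omega]
      exact ⟨_, h2 x⟩
    · rw [show j = i by omega]
      exact ⟨_, h1 x⟩

/-- Injectivity of the members of a chain. -/
theorem injective_of_central (hq : q = 3) {G : Type*} [Group G] {f : ↥(K hF 3) →* G}
    (h : f.ker ≤ Subgroup.center ↥(K hF 3)) : Function.Injective f := by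
  have hcard : Nat.card (Subgroup.center ↥(K hF 3)) = 1 := by
    rw [Nat.card_congr (Subgroup.centerCongr (suEquiv hF 3)).symm.toEquiv,
      card_center_su hF (by omega), hq]
    rfl
  rw [← MonoidHom.ker_eq_bot_iff, eq_bot_iff]
  exact h.trans (le_of_eq (Subgroup.card_eq_one.1 hcard))

include hF in
/-- Recognition from a system of standard pairs over nine elements. -/
theorem exists_surj_three (hq : q = 3) {G : Type*} [Group G] {n : ℕ} {U : Fin n → Subgroup G}
    {V : Fin n → Fin n → Subgroup G} (hn : 4 ≤ n)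
    (h1 : ∀ i j : Fin n, (i : ℕ) + 2 ≤ j → ∀ x ∈ U i, ∀ y ∈ U j, x * y = y * x)
    (h2 : ∀ i j : Fin n, (i : ℕ) + 1 = j → Cfsg.IsStandardUnitaryPair (V i j) (U i) (U j) F q)
    (hgen : (⨆ i, U i) ⊔ (⨆ (i : Fin n) (j : Fin n) (_ : (i : ℕ) + 1 = j), V i j) = ⊤)
    (h4 : ∀ i j k : Fin n, (i : ℕ) + 1 = j → (j : ℕ) + 1 = k →
      ∃ g : ↥(Cfsg.SU 4 F q) →* ↥(V i j ⊔ V j k), Function.Surjective g) :
    ∃ f : ↥(Cfsg.SU (n + 1) F q) →* G, Function.Surjective f := by
  obtain ⟨C, hC, hU⟩ := exists_chain_of hF (by omega) h1 h2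
  obtain ⟨Φ, hΦ⟩ := C.exists_hom_of (k₀ := 4) (by omega) (Or.inl le_rfl) (by omega) fun i hi => by
    set W := V ⟨i, by omega⟩ ⟨i + 1, by omega⟩ ⊔ V ⟨i + 1, by omega⟩ ⟨i + 2, by omega⟩
    obtain ⟨g, hg⟩ : ∃ g : ↥(Cfsg.SU 4 F q) →* ↥W, Function.Surjective g :=
      h4 ⟨i, by omega⟩ ⟨i + 1, by omega⟩ ⟨i + 2, by omega⟩ rfl rfl
    set π : ↥(K hF 4) →* G := W.subtype.comp (g.comp (suEquiv hF 4).symm.toMonoidHom)
    have hπr : π.range = W := by
      rw [MonoidHom.range_comp,
        (MonoidHom.range_eq_top (f := g.comp (suEquiv hF 4).symm.toMonoidHom)).2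
          (by rw [MonoidHom.coe_comp]; exact hg.comp (suEquiv hF 4).symm.surjective),
        ← MonoidHom.range_eq_map, Subgroup.range_subtype]
    obtain ⟨Φ, h1', h2'⟩ := exists_base (hF := hF) hq (π := π)
      (fun x y => C.comm i (i + 1 + 1) (by omega) (by omega) x y)
      (injective_of_central hF hq (hC i (by omega)).2)
      (injective_of_central hF hq (hC (i + 1) (by omega)).2)
      (C.f_ini i (by omega)) (C.f_tl i (by omega)) (C.f_ini (i + 1) (by omega))
      (C.f_tl (i + 1) (by omega))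
      (by
        rw [hπr, (hC i (by omega)).1,
          show i = ((⟨i, by omega⟩ : Fin n) : ℕ) from rfl, natV_apply V (j := ⟨i + 1, by omega⟩) rfl]
        exact le_sup_left)
      (by
        rw [hπr, (hC (i + 1) (by omega)).1,
          show i + 1 = ((⟨i + 1, by omega⟩ : Fin n) : ℕ) from rfl,
          natV_apply V (j := ⟨i + 2, by omega⟩) rfl]
        exact le_sup_right)
    exact C.part4 (by omega) (by omega) Φ h1' h2'
  exact surjective_of_cover hF (by omega) hgen C (fun i hi => (hC i hi).1) hU Φ hΦ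

end CfsgLib.Phan
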