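import Cfsg.Agent.Lib.Phan.TwoMatch

/-!
Recognition from systems of standard pairs over the field with four elements.
-/

set_option autoImplicit false
set_option maxHeartbeats 800000
set_option synthInstance.maxHeartbeats 100000

namespace CfsgLib.Phan

open Module CfsgLib.Classical.Herm HermSpace
open scoped Matrix

variable {F : Type*} [Field F] [Fintype F] {q : ℕ}

/-- A system of overlapping four-dimensional identifications. -/
structure Quads (hF : Fintype.card F = q ^ 2) (G : Type*) [Group G] (N : ℕ) where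
  U : ℕ → Subgroup G
  V : ℕ → Subgroup G
  f : ℕ → ↥(K hF 4) →* G
  f_ini : ∀ i, i + 4 ≤ N → ((f i).comp (ini hF 3 4 (by omega))).range = V i
  f_tl : ∀ i, i + 4 ≤ N → ((f i).comp (tl hF 3)).range = V (i + 1)
  f_left : ∀ i, i + 4 ≤ N → ((f i).comp (emb hF p01)).range = U i
  link : ∀ i, i + 5 ≤ N → ∀ x, f (i + 1) (ini hF 3 4 (by omega) x) = f i (tl hF 3 x)
  commUV : ∀ i j, i + 2 ≤ j → j + 3 ≤ N → ∀ x ∈ U i, ∀ y ∈ V j, Commute x y
  commVV : ∀ i, i + 6 ≤ N → ∀ x ∈ V i, ∀ y ∈ V (i + 3), Commute x y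

namespace Quads

variable {hF : Fintype.card F = q ^ 2} {G : Type*} [Group G] {N : ℕ} (C : Quads hF G N)

/-- The group generated by the pairs with index at least `i`. -/
noncomputable def X (i : ℕ) : Subgroup G := ⨆ (j : ℕ) (_ : i ≤ j) (_ : j + 3 ≤ N), C.V j

theorem V_le {i j : ℕ} (h : i ≤ j) (hj : j + 3 ≤ N) : C.V j ≤ C.X i :=
  le_iSup_of_le (f := fun k => ⨆ (_ : i ≤ k) (_ : k + 3 ≤ N), C.V k) j
    (le_iSup_of_le h (le_iSup_of_le hj le_rfl))

theorem X_mono {i j : ℕ} (h : i ≤ j) : C.X j ≤ C.X i :=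
  iSup_le fun k => iSup_le fun hk => iSup_le fun hk' => C.V_le (h.trans hk) hk'

theorem commute_X {i : ℕ} {u w : G} (hu : u ∈ C.U i) (hw : w ∈ C.X (i + 2)) : Commute u w := by
  have h : C.X (i + 2) ≤ Subgroup.centralizer {u} :=
    iSup_le fun k => iSup_le fun hk => iSup_le fun hk' => fun y hy =>
      Subgroup.mem_centralizer_iff.2 fun z hz => by
        rw [Set.mem_singleton_iff.1 hz]; exact C.commUV i k hk hk' u hu y hy
  exact Subgroup.mem_centralizer_iff.1 (h hw) _ rfl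

/-- What is built on the interval starting at `i`. -/
structure Part (i k : ℕ) where
  hk : 4 ≤ k
  hik : i + k ≤ N
  Φ : ↥(K hF k) →* G
  Φ_ini : ∀ x, Φ (ini hF 4 k hk x) = C.f i x
  Φ_range : ∀ x, Φ x ∈ C.X i
  Φ_stab : ∀ x : ↥(K hF k), x • (E ⟨0, by omega⟩ : Fin k → F) = E ⟨0, by omega⟩ →
    Φ x ∈ C.X (i + 1)
  Φ_five : k = 5 → ∀ x : ↥(K hF k), x • (E ⟨0, by omega⟩ : Fin k → F) = E ⟨0, by omega⟩ →
    x • (E ⟨1, by omega⟩ : Fin k → F) = E ⟨1, by omega⟩ → Φ x ∈ C.V (i + 2)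
  Φ_cover : ∀ j, i ≤ j → j + 3 ≤ i + k → C.V j ≤ Φ.range

theorem f_mem {i : ℕ} (hi : i + 4 ≤ N) (x : ↥(K hF 4)) : C.f i x ∈ C.X i := by
  let S : Subgroup ↥(K hF 4) := (C.X i).comap (C.f i)
  obtain ⟨s, hs⟩ := Datum.exists_s2 (hF := hF)
  have hS : S = ⊤ := by
    refine gen_K hF (Or.inl le_rfl) S (fun g hg => ?_)
      (s := ini hF 3 4 (by omega) (ini hF 2 3 (by omega) s)) ?_ ?_
    · obtain ⟨y, rfl⟩ := Datum.exists_of_stab (k := 3) hg
      exact C.V_le (Nat.le_succ i) (by omega) ((C.f_tl i hi).le ⟨y, rfl⟩)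
    · exact C.V_le le_rfl (by omega) ((C.f_ini i hi).le ⟨_, rfl⟩)
    · have h : ini hF 3 4 (by omega) (ini hF 2 3 (by omega) s) • (E 0 : Fin 4 → F) = E 1 := by
        have h0 : (E 0 : Fin 4 → F) = ext0 p01 (E 0) := by rw [ext0_E]; rfl
        rw [emb_ini4_ini, h0, emb_ext0, hs, ext0_E]; rfl
      rw [h]; exact adj_E hF (by decide)
  have : x ∈ S := by rw [hS]; trivial
  exact this

theorem part4 {i : ℕ} (hi : i + 4 ≤ N) : Nonempty (C.Part i 4) := by
  refine ⟨⟨le_rfl, hi, C.f i, fun x => ?_, C.f_mem hi, fun x hx => ?_,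
    fun h => absurd h (by omega), fun j h1 h2 => ?_⟩⟩
  · rw [show ini hF 4 4 le_rfl x = x from emb_refl hF (fun _ => Fin.ext rfl) x]
  · obtain ⟨y, rfl⟩ := Datum.exists_of_stab (k := 3) hx
    exact C.V_le le_rfl (by omega) ((C.f_tl i hi).le ⟨y, rfl⟩)
  · rcases Nat.lt_or_ge i j with hj | hj
    · rw [show j = i + 1 by omega, ← C.f_tl i hi]
      rintro _ ⟨x, rfl⟩
      exact ⟨_, rfl⟩
    · rw [show j = i by omega, ← C.f_ini i hi]
      rintro _ ⟨x, rfl⟩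
      exact ⟨_, rfl⟩

theorem part_succ (hq : q = 2) {i k : ℕ} (h : i + (k + 1) ≤ N) (P : C.Part (i + 1) k) :
    Nonempty (C.Part i (k + 1)) := by
  have hk4 := P.hk
  have hN : i + 4 ≤ N := by omega
  let D : Datum hF G k 3 :=
    { hm := by omega
      ht := by omega
      htm := by omega
      hgen := Or.inl le_rfl
      φ := P.Φ
      f := C.f i
      compat := fun x => by
        show C.f i (tl hF 3 x) = P.Φ (ini hF 3 k _ x)
        rw [← C.link i (by omega), ← ini_ini hF (show 3 ≤ 4 by omega) hk4, P.Φ_ini]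
      comm := fun u x hx => by
        refine C.commute_X ((C.f_left i hN).le ⟨u, congrArg (C.f i) ?_⟩) (P.Φ_stab x hx)
        exact emb_congr hF (fun a => by fin_cases a <;> rfl) u }
  have h6 : D.Comm6 := fun hm => ⟨rfl, fun u x hx0 hx1 => by
    subst hm
    exact C.commVV i (by omega) _ ((C.f_ini i hN).le ⟨u, rfl⟩) _ (P.Φ_five rfl x hx0 hx1)⟩
  obtain ⟨Φ, hΦ, hΦf⟩ := D.exists_glue (Or.inr (Or.inr ⟨hk4, hq, h6⟩))
  have hini : ∀ x, Φ (ini hF 4 (k + 1) (by omega) x) = C.f i x := hΦf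
  have hstab : ∀ x : ↥(K hF (k + 1)), x • (E 0 : Fin (k + 1) → F) = E 0 → Φ x ∈ C.X (i + 1) := by
    intro x hx
    obtain ⟨y, rfl⟩ := Datum.exists_of_stab hx
    rw [hΦ]; exact P.Φ_range y
  refine ⟨⟨by omega, h, Φ, hini, fun x => ?_, hstab, fun hk5 x hx0 hx1 => ?_, fun j h1 h2 => ?_⟩⟩
  · let S : Subgroup ↥(K hF (k + 1)) := (C.X i).comap Φ
    have hS : S = ⊤ := by
      refine gen_K hF (Or.inl (by omega)) S (fun g hg => C.X_mono (by omega) (hstab g hg))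
        (s := D.s) ?_ ?_
      · show Φ (emb hF D.iE D.sr) ∈ C.X i
        rw [hΦf]
        exact C.f_mem hN _
      · rw [D.s_E0]; exact adj_E hF fun e => by simpa using congrArg Fin.val e
    have : x ∈ S := by rw [hS]; trivial
    exact this
  · obtain rfl : k = 4 := by omega
    obtain ⟨y, rfl⟩ := Datum.exists_of_stab (k := 4) hx0
    rw [hΦ]
    have hy : y • (E 0 : Fin 4 → F) = E 0 := by
      apply ext0_injective (Fin.succEmb 4)
      rw [← emb_ext0 hF, ext0_E]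
      exact hx1
    obtain ⟨z, rfl⟩ := Datum.exists_of_stab (k := 3) hy
    show P.Φ (tl hF 3 z) ∈ _
    rw [← show ini hF 4 4 le_rfl (tl hF 3 z) = tl hF 3 z from emb_refl hF (fun _ => Fin.ext rfl) _,
      P.Φ_ini]
    exact (C.f_tl (i + 1) (by omega)).le ⟨z, rfl⟩
  · rcases Nat.lt_or_ge i j with hj | hj
    · intro g hg
      obtain ⟨y, hy⟩ := P.Φ_cover j hj (by omega) hg
      exact ⟨tl hF k y, by rw [hΦ, hy]⟩
    · rw [show j = i by omega, ← C.f_ini i hN]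
      rintro _ ⟨x, rfl⟩
      exact ⟨_, hini _⟩

theorem exists_hom (hq : q = 2) (hN : 4 ≤ N) :
    ∃ Φ : ↥(K hF N) →* G, ∀ j, j + 3 ≤ N → C.V j ≤ Φ.range := by
  have key : ∀ k, 4 ≤ k → ∀ i, i + k ≤ N → Nonempty (C.Part i k) := by
    intro k hk
    induction k, hk using Nat.le_induction with
    | base => exact fun i hi => C.part4 hi
    | succ k hk ih =>
      intro i hi
      obtain ⟨P⟩ := ih (i + 1) (by omega)
      exact C.part_succ hq hi P
  obtain ⟨P⟩ := key N hN 0 (by omega)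
  exact ⟨P.Φ, fun j hj => P.Φ_cover j (Nat.zero_le j) (by omega)⟩

end Quads

variable {G : Type*} [Group G] {n : ℕ}

/-- Consecutive identifications can be chosen to agree. -/
theorem exists_quads {hF : Fintype.card F = q ^ 2} (hq : q = 2) {N : ℕ} (hN : 4 ≤ N)
    (U V : ℕ → Subgroup G)
    (hT : ∀ i, i + 4 ≤ N → Nonempty (Quad (hF := hF) (V i) (V (i + 1)) (U i) (U (i + 1)) (U (i + 2))))
    (hUU : ∀ i, i + 4 ≤ N → ∀ a ∈ U i, ∀ c ∈ U (i + 2), a * c = c * a)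
    (hUV : ∀ i j, i + 2 ≤ j → j + 3 ≤ N → ∀ x ∈ U i, ∀ y ∈ V j, Commute x y)
    (hVV : ∀ i, i + 6 ≤ N → ∀ x ∈ V i, ∀ y ∈ V (i + 3), Commute x y) :
    ∃ C : Quads hF G N, C.V = V := by
  classical
  let Good : ℕ → (↥(K hF 4) →* G) → Prop := fun i f => i + 4 ≤ N →
    ∃ T : Quad (hF := hF) (V i) (V (i + 1)) (U i) (U (i + 1)) (U (i + 2)), T.Ψ = f
  have h0 : ∃ f, Good 0 f := by
    obtain ⟨T⟩ := hT 0 (by omega)
    exact ⟨T.Ψ, fun _ => ⟨T, rfl⟩⟩
  have hstep : ∀ i f, Good i f → ∃ f', Good (i + 1) f' ∧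
      (i + 5 ≤ N → ∀ x, f' (ini hF 3 4 (by omega) x) = f (tl hF 3 x)) := by
    intro i f hf
    by_cases hi : i + 5 ≤ N
    · obtain ⟨T, rfl⟩ := hf (by omega)
      obtain ⟨T'⟩ := hT (i + 1) (by omega)
      obtain ⟨T'', hT''⟩ := exists_next hq T T' (hUU i (by omega))
      exact ⟨T''.Ψ, fun _ => ⟨T'', rfl⟩, fun _ => hT''⟩
    · exact ⟨f, fun h => absurd h (by omega), fun h => absurd h hi⟩
  choose next hnext using hstep
  obtain ⟨S, hlink⟩ : ∃ S : ∀ i, {f : ↥(K hF 4) →* G // Good i f}, ∀ i, i + 5 ≤ N → ∀ x,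
      (S (i + 1)).1 (ini hF 3 4 (by omega) x) = (S i).1 (tl hF 3 x) := by
    refine ⟨fun i => Nat.rec
      (motive := fun i => {f : ↥(K hF 4) →* G // Good i f}) ⟨h0.choose, h0.choose_spec⟩
      (fun j p => ⟨next j p.1 p.2, (hnext j p.1 p.2).1⟩) i, fun i hi x => ?_⟩
    exact (hnext i _ _).2 hi x
  refine ⟨{
    U := U
    V := V
    f := fun i => (S i).1
    f_ini := fun i hi => by
      obtain ⟨T, hT⟩ := (S i).2 hi
      simp only [← hT]
      exact T.ini_eq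
    f_tl := fun i hi => by
      obtain ⟨T, hT⟩ := (S i).2 hi
      simp only [← hT]
      exact T.tl_eq
    f_left := fun i hi => by
      obtain ⟨T, hT⟩ := (S i).2 hi
      simp only [← hT]
      exact T.left_eq
    link := hlink
    commUV := hUV
    commVV := hVV }, rfl⟩

/-- Recognition from a system of standard pairs over four elements. -/
theorem exists_surj_two (hF : Fintype.card F = q ^ 2) (hq : q = 2) {U : Fin n → Subgroup G}
    {V : Fin n → Fin n → Subgroup G} (hn : 4 ≤ n)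
    (h1 : ∀ i j : Fin n, (i : ℕ) + 2 ≤ j → ∀ x ∈ U i, ∀ y ∈ U j, x * y = y * x)
    (h2 : ∀ i j : Fin n, (i : ℕ) + 1 = j → Cfsg.IsStandardUnitaryPair (V i j) (U i) (U j) F q)
    (hgen : (⨆ i, U i) ⊔ (⨆ (i : Fin n) (j : Fin n) (_ : (i : ℕ) + 1 = j), V i j) = ⊤)
    (h4 : ∀ i j k : Fin n, (i : ℕ) + 1 = j → (j : ℕ) + 1 = k →
      ∃ g : ↥(Cfsg.SU 4 F q) →* ↥(V i j ⊔ V j k), Function.Surjective g)
    (h5 : ∀ i j k : Fin n, (j : ℕ) + 1 = k → ((i : ℕ) + 2 ≤ j ∨ (k : ℕ) + 2 ≤ i) →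
      ∀ x ∈ U i, ∀ y ∈ V j k, x * y = y * x)
    (h6 : ∀ i j k l : Fin n, (i : ℕ) + 1 = j → (k : ℕ) + 1 = l → (j : ℕ) + 2 ≤ k →
      ∀ x ∈ V i j, ∀ y ∈ V k l, x * y = y * x) :
    ∃ f : ↥(Cfsg.SU (n + 1) F q) →* G, Function.Surjective f := by
  have hUe : ∀ i (h : i < n), natU U i = U ⟨i, h⟩ := fun i h => natU_apply U ⟨i, h⟩
  have hVe : ∀ i (h : i + 1 < n), natV V i = V ⟨i, by omega⟩ ⟨i + 1, h⟩ := fun i h =>
    natV_apply V (i := ⟨i, by omega⟩) rfl
  have hpair : ∀ i, i + 3 ≤ n + 1 →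
      Nonempty (PairHom hF (natV V i) (natU U i) (natU U (i + 1))) := fun i hi => by
    rw [hVe i (by omega), hUe i (by omega), hUe (i + 1) (by omega)]
    exact exists_pairHom hF (h2 ⟨i, by omega⟩ ⟨i + 1, by omega⟩ rfl)
  have hUU : ∀ i, i + 4 ≤ n + 1 → ∀ a ∈ natU U i, ∀ c ∈ natU U (i + 2), a * c = c * a := by
    intro i hi
    rw [hUe i (by omega), hUe (i + 2) (by omega)]
    exact h1 ⟨i, by omega⟩ ⟨i + 2, by omega⟩ le_rfl
  obtain ⟨C, hC⟩ := exists_quads (hF := hF) hq (N := n + 1) (by omega) (natU U) (natV V)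
    (fun i hi => by
      obtain ⟨g, hg⟩ := h4 ⟨i, by omega⟩ ⟨i + 1, by omega⟩ ⟨i + 2, by omega⟩ rfl rfl
      obtain ⟨P⟩ := hpair i (by omega)
      obtain ⟨Q⟩ := hpair (i + 1) (by omega)
      let π : ↥(K hF 4) →* G :=
        (Subgroup.subtype _).comp (g.comp (suEquiv hF 4).symm.toMonoidHom)
      have hπr : π.range = V ⟨i, by omega⟩ ⟨i + 1, by omega⟩ ⊔ V ⟨i + 1, by omega⟩ ⟨i + 2, by omega⟩ := by
        rw [MonoidHom.range_comp,
          (MonoidHom.range_eq_top (f := g.comp (suEquiv hF 4).symm.toMonoidHom)).2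
            (by rw [MonoidHom.coe_comp]; exact hg.comp (suEquiv hF 4).symm.surjective),
          ← MonoidHom.range_eq_map, Subgroup.range_subtype]
      obtain ⟨Ψ, hi', -, r1, r2, rA, rB, rC⟩ := exists_triple hq (π := π) P Q (hUU i (by omega))
        (by rw [hπr, hVe i (by omega)]; exact le_sup_left)
        (by rw [hπr, hVe (i + 1) (by omega)]; exact le_sup_right)
      exact ⟨⟨Ψ, hi', r1, r2, rA, rB, rC⟩⟩)
    hUU
    (fun i j hij hj x hx y hy => by
      rw [hUe i (by omega)] at hx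
      rw [hVe j (by omega)] at hy
      exact h5 ⟨i, by omega⟩ ⟨j, by omega⟩ ⟨j + 1, by omega⟩ rfl (Or.inl hij) x hx y hy)
    (fun i hi x hx y hy => by
      rw [hVe i (by omega)] at hx
      rw [hVe (i + 3) (by omega)] at hy
      exact h6 ⟨i, by omega⟩ ⟨i + 1, by omega⟩ ⟨i + 3, by omega⟩ ⟨i + 3 + 1, by omega⟩ rfl rfl
        le_rfl x hx y hy)
  obtain ⟨Φ, hΦ⟩ := C.exists_hom hq (by omega)
  rw [hC] at hΦ
  have hVle : ∀ i j : Fin n, (i : ℕ) + 1 = j → V i j ≤ Φ.range := fun i j hij => by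
    rw [← natV_apply V hij]
    exact hΦ i (by omega)
  have hUle : ∀ i : Fin n, U i ≤ Φ.range := fun i => by
    rw [← natU_apply U]
    rcases Nat.lt_or_ge ((i : ℕ) + 1) n with hi | hi
    · obtain ⟨P⟩ := hpair i (by omega)
      refine le_trans ?_ (hΦ i (by omega))
      refine P.left_eq.ge.trans ?_
      rintro _ ⟨x, rfl⟩
      exact P.range_eq.le ⟨_, rfl⟩
    · obtain ⟨P⟩ := hpair ((i : ℕ) - 1) (by omega)
      refine le_trans ?_ (hΦ ((i : ℕ) - 1) (by omega))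
      rw [show (i : ℕ) = (i : ℕ) - 1 + 1 by omega, Nat.add_sub_cancel] at *
      refine P.right_eq.ge.trans ?_
      rintro _ ⟨x, rfl⟩
      exact P.range_eq.le ⟨_, rfl⟩
  have htop : Φ.range = ⊤ := top_le_iff.1 (hgen.ge.trans
    (sup_le (iSup_le hUle) (iSup_le fun i => iSup_le fun j => iSup_le fun hij => hVle i j hij)))
  exact ⟨Φ.comp (suEquiv hF (n + 1)).toMonoidHom,
    (MonoidHom.range_eq_top.1 htop).comp (suEquiv hF (n + 1)).surjective⟩

end CfsgLib.Phan
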