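import Cfsg.Agent.Lib.Phan.Amalgam

/-!
Surjections from special unitary groups onto groups with systems of standard pairs.
-/

set_option autoImplicit false
set_option maxHeartbeats 800000
set_option synthInstance.maxHeartbeats 100000

namespace CfsgLib.Phan

open Module CfsgLib.Classical.Herm HermSpace

variable {G : Type*} [Group G] {n : ℕ}

/-- Indexing by natural numbers. -/
noncomputable def natU (U : Fin n → Subgroup G) (j : ℕ) : Subgroup G :=
  if h : j < n then U ⟨j, h⟩ else ⊥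

theorem natU_apply (U : Fin n → Subgroup G) (i : Fin n) : natU U (i : ℕ) = U i := dif_pos i.2

/-- Indexing pairs by their first member. -/
noncomputable def natV (V : Fin n → Fin n → Subgroup G) (i : ℕ) : Subgroup G :=
  if h : i + 1 < n then V ⟨i, by omega⟩ ⟨i + 1, h⟩ else ⊥

theorem natV_apply (V : Fin n → Fin n → Subgroup G) {i j : Fin n} (h : (i : ℕ) + 1 = j) :
    natV V (i : ℕ) = V i j := by
  rw [natV, dif_pos (show (i : ℕ) + 1 < n by omega)]
  congr 1
  exact Fin.ext h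

variable {F : Type*} [Field F] [Fintype F] {q : ℕ} (hF : Fintype.card F = q ^ 2)

/-- The chain of a system of standard pairs. -/
theorem exists_chain_of {U : Fin n → Subgroup G} {V : Fin n → Fin n → Subgroup G} (hn : 2 ≤ n)
    (h1 : ∀ i j : Fin n, (i : ℕ) + 2 ≤ j → ∀ x ∈ U i, ∀ y ∈ U j, x * y = y * x)
    (h2 : ∀ i j : Fin n, (i : ℕ) + 1 = j → Cfsg.IsStandardUnitaryPair (V i j) (U i) (U j) F q) :
    ∃ C : Chain hF G (n + 1), (∀ i, i + 3 ≤ n + 1 → (C.f i).range = natV V i ∧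
        (C.f i).ker ≤ Subgroup.center ↥(K hF 3)) ∧
      ∀ j, j + 2 ≤ n + 1 → (C.u j).range = natU U j := by
  refine exists_chain hF (natU U) (natV V) (fun i hi => ?_) (fun i j hij hj => ?_) (by omega)
  · rw [natV, dif_pos (by omega), natU, dif_pos (by omega), natU, dif_pos (by omega)]
    exact h2 ⟨i, by omega⟩ ⟨i + 1, by omega⟩ rfl
  · rw [natU, dif_pos (show i < n by omega), natU, dif_pos (show j < n by omega)]
    exact h1 ⟨i, by omega⟩ ⟨j, by omega⟩ hij

/-- A homomorphism covering all pairs is onto. -/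
theorem surjective_of_cover {U : Fin n → Subgroup G} {V : Fin n → Fin n → Subgroup G} (hn : 2 ≤ n)
    (hgen : (⨆ i, U i) ⊔ (⨆ (i : Fin n) (j : Fin n) (_ : (i : ℕ) + 1 = j), V i j) = ⊤)
    (C : Chain hF G (n + 1)) (hV : ∀ i, i + 3 ≤ n + 1 → (C.f i).range = natV V i)
    (hU : ∀ j, j + 2 ≤ n + 1 → (C.u j).range = natU U j)
    (Φ : ↥(K hF (n + 1)) →* G) (hΦ : ∀ j, j + 3 ≤ n + 1 → (C.f j).range ≤ Φ.range) :
    ∃ f : ↥(Cfsg.SU (n + 1) F q) →* G, Function.Surjective f := by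
  have hVle : ∀ i j : Fin n, (i : ℕ) + 1 = j → V i j ≤ Φ.range := fun i j hij => by
    rw [← natV_apply V hij, ← hV i (by omega)]
    exact hΦ i (by omega)
  have hUle : ∀ i : Fin n, U i ≤ Φ.range := fun i => by
    rw [← natU_apply U, ← hU i (by omega)]
    rintro _ ⟨x, rfl⟩
    by_cases hi : (i : ℕ) + 3 ≤ n + 1
    · exact hΦ i hi ⟨_, C.f_ini i hi x⟩
    · refine hΦ ((i : ℕ) - 1) (by omega) ⟨tl hF 2 x, ?_⟩
      rw [C.f_tl _ (by omega), show (i : ℕ) - 1 + 1 = i by omega]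
  have htop : Φ.range = ⊤ := top_le_iff.1 (hgen.ge.trans
    (sup_le (iSup_le hUle) (iSup_le fun i => iSup_le fun j => iSup_le fun hij => hVle i j hij)))
  exact ⟨Φ.comp (suEquiv hF (n + 1)).toMonoidHom,
    (MonoidHom.range_eq_top.1 htop).comp (suEquiv hF (n + 1)).surjective⟩

include hF in
/-- Recognition from a system of standard pairs. -/
theorem exists_surj (hq : 4 ≤ q) {U : Fin n → Subgroup G} {V : Fin n → Fin n → Subgroup G}
    (hn : 2 ≤ n)
    (h1 : ∀ i j : Fin n, (i : ℕ) + 2 ≤ j → ∀ x ∈ U i, ∀ y ∈ U j, x * y = y * x)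
    (h2 : ∀ i j : Fin n, (i : ℕ) + 1 = j → Cfsg.IsStandardUnitaryPair (V i j) (U i) (U j) F q)
    (hgen : (⨆ i, U i) ⊔ (⨆ (i : Fin n) (j : Fin n) (_ : (i : ℕ) + 1 = j), V i j) = ⊤) :
    ∃ f : ↥(Cfsg.SU (n + 1) F q) →* G, Function.Surjective f := by
  obtain ⟨C, hC, hU⟩ := exists_chain_of hF hn h1 h2
  obtain ⟨Φ, hΦ⟩ := C.exists_hom hq (by omega)
  exact surjective_of_cover hF hn hgen C (fun i hi => (hC i hi).1) hU Φ hΦ

end CfsgLib.Phan
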