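import Cfsg.Agent.Lib.Phan.Recognition
import Cfsg.Agent.Lib.Classical.Herm.ThreeTI

/-!
Subgroups of the three-dimensional special unitary group isomorphic to the two-dimensional one are
stabilisers of unit vectors.
-/

set_option autoImplicit false
set_option maxHeartbeats 800000
set_option synthInstance.maxHeartbeats 100000

namespace CfsgLib.Phan

open Module CfsgLib.Classical.Herm HermSpace
open scoped Matrix

variable {F : Type*} [Field F] [Fintype F] {q : ℕ} (hF : Fintype.card F = q ^ 2)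

theorem exists_unit_scale {n : ℕ} {v : Fin n → F} (hv : hh hF v v ≠ 0) :
    ∃ c : F, c ≠ 0 ∧ hh hF (c • v) (c • v) = 1 := by
  set H := stdHerm hF n with hH
  obtain ⟨t, ht⟩ := H.norm_surj (H.h v v)⁻¹ (by rw [map_inv₀, H.conj_diag])
  refine ⟨t, ?_, ?_⟩
  · rintro rfl
    rw [zero_mul] at ht
    exact inv_ne_zero hv ht.symm
  · show H.h (t • v) (t • v) = 1
    rw [H.smul_left, H.smul_right, ← mul_assoc, ht, inv_mul_cancel₀ hv]

/-- The special unitary plane has no characters. -/
theorem hom_eq_one (χ : ↥(K hF 2) →* Fˣ) : χ = 1 := by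
  obtain ⟨P, e, -⟩ := exists_coord hF
  obtain ⟨p, hp⟩ := CharP.exists F
  haveI : Fact p.Prime := ⟨CharP.char_is_prime F p⟩
  haveI : CharP (fixedField hF) p :=
    (fixedField hF).subtype.charP (fixedField hF).subtype.injective p
  have h : χ.comp e.toMonoidHom = 1 := Linear.SL_monoidHom_ext fun i j hij c => by
    show χ (e (Matrix.SpecialLinearGroup.transvection hij c)) = 1
    apply Units.ext
    refine sub_eq_zero.1 (pow_eq_zero_iff (Fact.out : p.Prime).ne_zero |>.1 ?_)
    rw [sub_pow_char, ← Units.val_pow_eq_pow_val, ← map_pow, ← map_pow,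
      AutPSL.transvection_pow_eq_one p hij c, map_one, map_one, Units.val_one, one_pow, sub_self]
  ext y
  obtain ⟨x, rfl⟩ := e.surjective y
  rw [show χ (e x) = 1 from DFunLike.congr_fun h x]
  rfl

variable {hF}

theorem mat_sq_two {y : ↥(K hF 2)} {x : Fin 2 → F} (hx : x ≠ 0) (hy : y • x = x) :
    (mat hF y - 1) ^ 2 = 0 := by
  set M := mat hF y with hM
  have hd : M.det = 1 := det_mat hF y
  have h0 : (M - 1).det = 0 := Matrix.exists_mulVec_eq_zero_iff.1 ⟨x, hx, by
    rw [Matrix.sub_mulVec, Matrix.one_mulVec, hM, mulVec_mat, hy, sub_self]⟩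
  rw [Matrix.det_fin_two] at hd h0
  simp at h0
  ext i j
  rw [sq, Matrix.mul_apply, Fin.sum_univ_two]
  fin_cases i <;> fin_cases j <;> simp <;> grind

theorem eq_one_of_fix_two {g : ↥(K hF 3)} (hg : g ^ (q + 1) = 1) {a x : Fin 3 → F}
    (ha : hh hF a a = 1) (hga : g • a = a) (hgx : g • x = x) (hind : ∀ c : F, x ≠ c • a) :
    g = 1 := by
  obtain ⟨k, hk⟩ := exists_K_map hF (l := [(E 0 : Fin 3 → F)]) (l' := [a])
    ⟨Datum.on_E, by simp, trivial⟩ ⟨ha, by simp, trivial⟩ rfl (by simp)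
  simp only [List.map_cons, List.map_nil, List.cons.injEq, and_true] at hk
  obtain ⟨y, hy⟩ := Datum.exists_of_stab (k := 2) (g := k⁻¹ * g * k) (by
    rw [mul_smul, mul_smul, hk, hga, inv_smul_eq_iff, hk])
  set w := k⁻¹ • x with hw
  have hgw : tl hF 2 y • w = w := by
    rw [show tl hF 2 y = k⁻¹ * g * k from hy, hw, mul_smul, mul_smul, smul_inv_smul, hgx]
  set w' : Fin 2 → F := fun i => w (Fin.succEmb 2 i) with hw'
  have hyw : y • w' = w' := by
    funext i
    rw [hw', ← emb_in hF (Fin.succEmb 2) y w i]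
    exact congrFun hgw _
  have hw0 : w' ≠ 0 := fun h0 => hind (w 0) (by
    have hww : w = w 0 • (E 0 : Fin 3 → F) := by
      funext i
      rcases Fin.eq_zero_or_eq_succ i with rfl | ⟨j, rfl⟩
      · simp [E]
      · simp only [E, Pi.smul_apply, Pi.single_eq_of_ne (Fin.succ_ne_zero j), smul_zero]
        exact congrFun h0 j
    rw [← smul_inv_smul k x, ← hw]
    conv_lhs => rw [hww]
    rw [smul_smul_K, hk])
  obtain ⟨p, hp⟩ := CharP.exists F
  haveI : Fact p.Prime := ⟨CharP.char_is_prime F p⟩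
  haveI : CharP (Matrix (Fin 2) (Fin 2) F) p := Matrix.charP p
  have hMp : mat hF y ^ p = 1 := by
    have h1 : (mat hF y - 1) ^ p = 0 := by
      rw [show p = 2 + (p - 2) by have := (Fact.out : p.Prime).two_le; omega, pow_add,
        mat_sq_two hw0 hyw, zero_mul]
    rwa [sub_pow_char_of_commute p (Commute.one_right _), one_pow, sub_eq_zero] at h1
  have hyp : y ^ p = 1 := mat_injective hF (by rw [map_pow, map_one, hMp])
  have hyq : y ^ (q + 1) = 1 := emb_injective hF (Fin.succEmb 2) (by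
    show tl hF 2 (y ^ (q + 1)) = tl hF 2 1
    rw [map_pow, map_one, show tl hF 2 y = k⁻¹ * g * k from hy]
    have : ∀ m : ℕ, (k⁻¹ * g * k) ^ m = k⁻¹ * g ^ m * k := fun m => by
      induction m with
      | zero => group
      | succ m ih => rw [pow_succ, ih, pow_succ]; group
    rw [this, hg]; group)
  have hpq : Nat.gcd p (q + 1) = 1 := by
    refine (Nat.Prime.coprime_iff_not_dvd (Fact.out : p.Prime)).2 fun hd => ?_
    obtain ⟨r, -, hr⟩ := FiniteField.card F p
    have h2 : p ∣ q ^ 2 := by rw [← hF, hr]; exact dvd_pow_self p r.ne_zero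
    have h3 : p ∣ q := (Fact.out : p.Prime).dvd_of_dvd_pow h2
    exact (Fact.out : p.Prime).not_dvd_one ((Nat.dvd_add_right h3).1 hd)
  have hy1 : y = 1 := by
    have := Nat.dvd_gcd (orderOf_dvd_of_pow_eq_one hyp) (orderOf_dvd_of_pow_eq_one hyq)
    rw [hpq] at this
    exact orderOf_eq_one_iff.1 (Nat.dvd_one.1 this)
  have h1 : k⁻¹ * g * k = 1 := by rw [← hy, hy1]; exact map_one _
  calc g = k * (k⁻¹ * g * k) * k⁻¹ := by group
    _ = 1 := by rw [h1]; group

/-- A fixed unit vector, in odd characteristic. -/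
theorem exists_fixed_odd (h2 : (2 : F) ≠ 0) (j : ↥(K hF 2) →* ↥(K hF 3))
    (hj : Function.Injective j) : ∃ a : Fin 3 → F, hh hF a a = 1 ∧ ∀ y, j y • a = a := by
  set H := stdHerm hF 3 with hH
  obtain ⟨P, e, -⟩ := exists_coord hF
  set z : Matrix.SpecialLinearGroup (Fin 2) (fixedField hF) := ⟨-1, by simp [Matrix.det_neg]⟩
  have hzc : ∀ y, z * y = y * z := fun y => Subtype.ext (by
    show -1 * y.1 = y.1 * -1
    simp)
  have hz2 : z * z = 1 := Subtype.ext (by show (-1 : Matrix (Fin 2) (Fin 2) (fixedField hF)) * -1 = 1; simp)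
  have hz1 : z ≠ 1 := fun h => by
    have h' := congrArg (fun w : Matrix.SpecialLinearGroup (Fin 2) (fixedField hF) =>
      ((w.1 0 0 : fixedField hF) : F)) h
    simp [z] at h'
    exact h2 (by linear_combination -h')
  set Z := j (e z) with hZ
  have hZc : ∀ y, Z * j y = j y * Z := fun y => by
    obtain ⟨x, rfl⟩ := e.surjective y
    rw [hZ, ← map_mul, ← map_mul, hzc, map_mul, map_mul]
  have hZ2 : ∀ v : Fin 3 → F, Z • Z • v = v := fun v => by
    rw [← mul_smul, hZ, ← map_mul, ← map_mul, hz2, map_one, map_one, one_smul]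
  have hZ1 : Z ≠ 1 := fun h => hz1 (e.injective (hj (by rw [← hZ, h, map_one, map_one])))
  obtain ⟨a0, ha0, hZa0⟩ : ∃ a : Fin 3 → F, a ≠ 0 ∧ Z • a = a := by
    by_contra hcon
    push Not at hcon
    have hneg : ∀ v : Fin 3 → F, Z • v = -v := fun v => by
      have h := hcon (v + Z • v)
      by_contra hne
      refine h (fun h0 => hne (eq_neg_of_add_eq_zero_right h0)) ?_
      rw [smul_add_K, hZ2, add_comm]
    have hm : mat hF Z = -1 := by
      ext i l
      rw [mat_apply, hneg, E]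
      simp [Matrix.one_apply, Pi.single_apply]
    have hd := det_mat hF Z
    rw [hm, Matrix.det_neg] at hd
    simp at hd
    exact h2 (by linear_combination -hd)
  obtain ⟨a1, ha1, hZa1⟩ : ∃ a : Fin 3 → F, hh hF a a ≠ 0 ∧ Z • a = a := by
    by_cases h0 : hh hF a0 a0 = 0
    · obtain ⟨x, hx⟩ := H.exists_h_one ha0
      obtain ⟨t, ht⟩ := H.exists_trace_one
      set xp := (2 : F)⁻¹ • (x + Z • x) with hxp
      have hZxp : Z • xp = xp := by rw [hxp, smul_smul_K, smul_add_K, hZ2, add_comm]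
      have hxa : H.h xp a0 = 1 := by
        have hZx : H.h (Z • x) a0 = 1 := by
          have := h_smul_K hF Z x a0
          rw [hZa0] at this
          exact this.trans hx
        rw [hxp, H.smul_left, H.add_left, hx, hZx]
        field_simp
        norm_num
      clear_value xp
      by_cases hp : hh hF xp xp = 0
      · refine ⟨a0 + t • xp, ?_, by rw [smul_add_K, smul_smul_K, hZa0, hZxp]⟩
        show H.h (a0 + t • xp) (a0 + t • xp) ≠ 0
        rw [H.add_left, H.add_right, H.add_right, H.smul_left, H.smul_left, H.smul_right,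
          H.smul_right, hxa, H.h_comm_one hxa, show H.h a0 a0 = 0 from h0,
          show H.h xp xp = 0 from hp]
        rw [show (0 : F) + H.conj t * 1 + (t * 1 + t * (H.conj t * 0)) = t + H.conj t by ring, ht]
        exact one_ne_zero
      · exact ⟨xp, hp, hZxp⟩
    · exact ⟨a0, h0, hZa0⟩
  obtain ⟨c, -, hc⟩ := exists_unit_scale hF ha1
  set a := c • a1 with ha
  have hZa : Z • a = a := by rw [ha, smul_smul_K, hZa1]
  obtain ⟨k, hk⟩ := exists_K_map hF (l := [(E 0 : Fin 3 → F)]) (l' := [a])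
    ⟨Datum.on_E, by simp, trivial⟩ ⟨hc, by simp, trivial⟩ rfl (by simp)
  simp only [List.map_cons, List.map_nil, List.cons.injEq, and_true] at hk
  obtain ⟨y, hy⟩ := Datum.exists_of_stab (k := 2) (g := k⁻¹ * Z * k) (by
    rw [mul_smul, mul_smul, hk, hZa, inv_smul_eq_iff, hk])
  have hyneg : ∀ v : Fin 2 → F, y • v = -v := by
    have hy2 : y * y = 1 := emb_injective hF (Fin.succEmb 2) (by
      show tl hF 2 (y * y) = tl hF 2 1
      rw [map_mul, map_one, show tl hF 2 y = k⁻¹ * Z * k from hy]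
      refine K_ext hF fun v => ?_
      simp only [mul_smul, one_smul, smul_inv_smul, hZ2, inv_smul_smul])
    have hy1 : y ≠ 1 := fun h => hZ1 (by
      rw [h, map_one] at hy
      calc Z = k * (k⁻¹ * Z * k) * k⁻¹ := by group
        _ = 1 := by rw [← hy]; group)
    intro v
    by_contra hv
    have h0 : y • v + v ≠ 0 := fun h => hv (eq_neg_of_add_eq_zero_left h)
    have hfix : y • (y • v + v) = y • v + v := by
      rw [smul_add_K, ← mul_smul, hy2, one_smul, add_comm]
    have hsq := mat_sq_two h0 hfix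
    have hM : mat hF y * mat hF y = 1 := by rw [← map_mul, hy2, map_one]
    have he : (2 : F) • (1 - mat hF y) = 0 := by
      rw [← hsq, sq, sub_mul, mul_sub, hM, mul_one, one_mul, two_smul]
      abel
    rcases smul_eq_zero.1 he with h | h
    · exact h2 h
    · exact hy1 (mat_injective hF (by rw [map_one]; exact (sub_eq_zero.1 h).symm))
  have huniq : ∀ v : Fin 3 → F, Z • v = v → v = (k⁻¹ • v) 0 • a := by
    intro v hv
    set w := k⁻¹ • v with hw
    have hgw : tl hF 2 y • w = w := by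
      rw [show tl hF 2 y = k⁻¹ * Z * k from hy, hw, mul_smul, mul_smul, smul_inv_smul, hv]
    have hww : w = w 0 • (E 0 : Fin 3 → F) := by
      funext i
      rcases Fin.eq_zero_or_eq_succ i with rfl | ⟨l, rfl⟩
      · simp [E]
      · simp only [E, Pi.smul_apply, Pi.single_eq_of_ne (Fin.succ_ne_zero l), smul_zero]
        have h := emb_in hF (Fin.succEmb 2) y w l
        rw [show emb hF (Fin.succEmb 2) y • w = w from hgw, hyneg] at h
        change w l.succ = -(w l.succ) at h
        exact (mul_eq_zero.1 (show (2 : F) * w l.succ = 0 by linear_combination h)).resolve_left h2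
    rw [← smul_inv_smul k v, ← hw]
    conv_lhs => rw [hww]
    rw [smul_smul_K, hk]
  have hne : ∀ u, H.h (j u • a) a ≠ 0 ∧ j u • a = H.h (j u • a) a • a := by
    intro u
    have h1 := huniq (j u • a) (by rw [← mul_smul, hZc, mul_smul, hZa])
    set μ := (k⁻¹ • j u • a) 0
    have hμ : H.h (j u • a) a = μ := by
      rw [h1, H.smul_left, show H.h a a = 1 from hc, mul_one]
    refine ⟨fun h0 => ?_, by rw [hμ]; exact h1⟩
    rw [hμ] at h0
    have h3 := h_smul_K hF (j u) a a
    rw [h1, h0, zero_smul, hc] at h3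
    exact zero_ne_one ((H.zero_left _).symm.trans h3)
  let χ : ↥(K hF 2) →* Fˣ :=
    MonoidHom.mk' (fun u => Units.mk0 _ (hne u).1) (fun u u' => Units.ext (by
      show H.h (j (u * u') • a) a = H.h (j u • a) a * H.h (j u' • a) a
      rw [map_mul, mul_smul, (hne u').2, smul_smul_K, H.smul_left, mul_comm, ← (hne u').2]))
  refine ⟨a, hc, fun u => ?_⟩
  have h1 : H.h (j u • a) a = 1 := congrArg Units.val (DFunLike.congr_fun (hom_eq_one hF χ) u)
  rw [(hne u).2, h1, one_smul]

/-- A fixed unit vector, in characteristic two. -/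
theorem exists_fixed_even (h2 : (2 : F) = 0) (j : ↥(K hF 2) →* ↥(K hF 3))
    (hj : Function.Injective j) : ∃ a : Fin 3 → F, hh hF a a = 1 ∧ ∀ y, j y • a = a := by
  set H := stdHerm hF 3 with hH
  have hd : finrank F (Fin 3 → F) = 3 := by simp
  haveI : Fact (Nat.Prime 2) := ⟨Nat.prime_two⟩
  haveI : CharP F 2 := CharTwo.of_one_ne_zero_of_two_eq_zero one_ne_zero h2
  haveI : CharP (fixedField hF) 2 :=
    (fixedField hF).subtype.charP (fixedField hF).subtype.injective 2
  obtain ⟨P, e, -⟩ := exists_coord hF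
  let T : ∀ {i l : Fin 2}, i ≠ l → fixedField hF → ↥(K hF 3) := fun h c =>
    j (e (Matrix.SpecialLinearGroup.transvection h c))
  have hT2 : ∀ {i l : Fin 2} (h : i ≠ l) c, T h c * T h c = 1 := fun h c => by
    show j _ * j _ = 1
    rw [← map_mul, ← map_mul, ← sq, AutPSL.transvection_pow_eq_one 2 h c, map_one, map_one]
  have hTcomm : ∀ {i l : Fin 2} (h : i ≠ l) c d, T h c * T h d = T h d * T h c := fun {i l} h c d => by
    show j _ * j _ = j _ * j _
    rw [← map_mul, ← map_mul, ← map_mul, ← map_mul]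
    congr 2
    apply Subtype.ext
    simp [Matrix.SpecialLinearGroup.transvection_coe, add_mul, mul_add,
      Matrix.single_mul_single_of_ne _ _ _ _ h.symm]
    abel
  have hfix : ∀ {i l : Fin 2} (h : i ≠ l), ∃ r : Fin 3 → F, r ≠ 0 ∧ hh hF r r = 0 ∧
      ∀ c, T h c • r = r := by
    intro i l h
    set x : Unit' H := (T h 1).1 with hx
    have hx2 : x ^ 2 = 1 := by
      rw [sq, hx]; exact congrArg Subtype.val (hT2 h 1)
    have hx1 : x ≠ 1 := fun h1 => by
      have h3 : T h 1 = 1 := Subtype.ext h1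
      have h4 := e.injective ((hj (h3.trans (map_one j).symm)).trans (map_one e).symm)
      have h5 := congrArg (fun w : Matrix.SpecialLinearGroup (Fin 2) (fixedField hF) => w.1 i l) h4
      simp [Matrix.SpecialLinearGroup.transvection_coe, Matrix.one_apply, h] at h5
    have ho : orderOf x = 2 := orderOf_eq_prime hx2 hx1
    obtain ⟨r, hr0, hrr, hr⟩ := exists_fixed_isotropic (H := H) hd (p := 2)
      (P := Subgroup.zpowers x)
      (IsPGroup.of_card (n := 1) (by rw [Nat.card_zpowers, ho, pow_one]))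
      (by rw [Ne, Subgroup.zpowers_eq_bot]; exact hx1)
    refine ⟨r, hr0, hrr, fun c => ?_⟩
    have hxr : T h 1 • r = r := hr x (Subgroup.mem_zpowers x)
    have hyr : T h 1 • T h c • r = T h c • r := by rw [← mul_smul, hTcomm, mul_smul, hxr]
    obtain ⟨b, hb⟩ := fixed_isotropic_unique (H := H) hd (p := 2) hx1 (k := 1)
      (by simpa using hx2) hr0 hrr (by
        show hh hF (T h c • r) (T h c • r) = 0
        rw [h_smul_K]; exact hrr) hxr hyr
    have hb2 : b * b = 1 := by
      have h3 : T h c • T h c • r = r := by rw [← mul_smul, hT2, one_smul]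
      rw [hb, smul_smul_K, hb, smul_smul] at h3
      exact smul_left_injective F hr0 (h3.trans (one_smul F r).symm)
    have hb1 : b = 1 := eq_one_of_pow_pow (p := 2) (k := 1) (by rw [pow_one, sq]; exact hb2)
    rw [hb, hb1, one_smul]
  have hperp : ∀ (g : ↥(K hF 3)) (r : Fin 3 → F), g * g = 1 → r ≠ 0 → hh hF r r = 0 →
      g • r = r → (∀ v : Fin 3 → F, ∃ c : F, g • v = v + c • r) ∧
        ∀ u : Fin 3 → F, hh hF u r = 0 → g • u = u := by
    intro g r hg hr0 hrr hgr
    have hg2 : ∀ v : Fin 3 → F, g • g • v = v := fun v => by rw [← mul_smul, hg, one_smul]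
    have hsa : ∀ u v : Fin 3 → F, H.h (g • u) v = H.h u (g • v) := fun u v => by
      have := h_smul_K hF g (g • u) v
      rw [hg2] at this
      exact this.symm
    have hN : ∀ v : Fin 3 → F, ∃ c : F, g • v = v + c • r := by
      intro v
      have hrv : H.h r (g • v - v) = 0 := by
        rw [H.sub_right, ← hsa, hgr, sub_self]
      have hvv : H.h (g • v - v) (g • v - v) = 0 := by
        rw [H.sub_left, H.sub_right, H.sub_right, show H.h (g • v) (g • v) = H.h v v from
          h_smul_K hF g v v, hsa v v]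
        linear_combination (H.h v v - H.h v (g • v)) * h2
      obtain ⟨c, hc⟩ := eq_smul_of_isotropic (H := H) hd hr0 hrr hvv hrv
      exact ⟨c, by rw [← hc, add_sub_cancel]⟩
    refine ⟨hN, fun u hu => ?_⟩
    refine sub_eq_zero.1 (H.nondeg _ fun v => ?_)
    obtain ⟨c, hc⟩ := hN v
    rw [H.sub_left, hsa, hc, H.add_right, H.smul_right, show H.h u r = 0 from hu, mul_zero,
      add_zero, sub_self]
  have h01 : (0 : Fin 2) ≠ 1 := by decide
  obtain ⟨r, hr0, hrr, hr⟩ := hfix h01
  obtain ⟨r', hr'0, hr'r', hr'⟩ := hfix h01.symm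
  have hind : ∀ c : F, c • r' ≠ r := by
    intro c hc
    have hxr : T h01.symm 1 • r = r := by rw [← hc, smul_smul_K, hr']
    obtain ⟨hNx, hfx⟩ := hperp _ r (hT2 h01 1) hr0 hrr (hr 1)
    obtain ⟨hNy, hfy⟩ := hperp _ r (hT2 h01.symm 1) hr0 hrr hxr
    have hcomm : T h01 1 * T h01.symm 1 = T h01.symm 1 * T h01 1 := by
      refine K_ext hF fun v => ?_
      obtain ⟨a, ha⟩ := hNx v
      obtain ⟨b, hb⟩ := hNy v
      rw [mul_smul, mul_smul, hb, smul_add_K, smul_smul_K, hr 1, ha, smul_add_K, smul_smul_K,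
        hxr, hb]
      abel
    have h3 : Matrix.SpecialLinearGroup.transvection h01 (1 : fixedField hF) *
        Matrix.SpecialLinearGroup.transvection h01.symm 1 =
        Matrix.SpecialLinearGroup.transvection h01.symm 1 *
          Matrix.SpecialLinearGroup.transvection h01 1 :=
      e.injective (hj (by rw [map_mul, map_mul, map_mul, map_mul]; exact hcomm))
    have h4 := congrArg (fun w : Matrix.SpecialLinearGroup (Fin 2) (fixedField hF) => w.1 0 0) h3
    simp [Matrix.SpecialLinearGroup.transvection_coe, Matrix.mul_apply, Fin.sum_univ_two] at h4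
  obtain ⟨w, hw, hw0⟩ := Submodule.exists_mem_ne_zero_of_ne_bot
    (fun h : perp₂ H r r' = ⊥ => one_ne_zero ((finrank_perp₂ (H := H) hd hr'0 hind).symm.trans
      (Submodule.finrank_eq_zero.2 h)))
  obtain ⟨hwr, hwr'⟩ := mem_perp₂.1 hw
  have hww : hh hF w w ≠ 0 := by
    intro hww
    obtain ⟨c, hc⟩ := eq_smul_of_isotropic (H := H) hd hr0 hrr hww (H.h_comm_zero hwr)
    obtain ⟨c', hc'⟩ := eq_smul_of_isotropic (H := H) hd hr'0 hr'r' hww (H.h_comm_zero hwr')
    have hc0 : c ≠ 0 := fun h => hw0 (by rw [hc, h, zero_smul])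
    exact hind (c⁻¹ * c') (by rw [mul_smul, ← hc', hc, inv_smul_smul₀ hc0])
  obtain ⟨b, -, hb⟩ := exists_unit_scale hF hww
  refine ⟨b • w, hb, fun y => ?_⟩
  let S : Subgroup (Matrix.SpecialLinearGroup (Fin 2) (fixedField hF)) :=
    (MulAction.stabilizer ↥(K hF 3) (b • w)).comap (j.comp e.toMonoidHom)
  have hS : S = ⊤ := Linear.SL_eq_top_of_transvection_mem S fun i l hil c => by
    show T hil c • (b • w) = b • w
    rw [smul_smul_K]
    congr 1
    fin_cases i <;> fin_cases l
    · exact absurd rfl hil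
    · exact (hperp _ r (hT2 _ c) hr0 hrr (hr c)).2 w hwr
    · exact (hperp _ r' (hT2 _ c) hr'0 hr'r' (hr' c)).2 w hwr'
    · exact absurd rfl hil
  obtain ⟨x, rfl⟩ := e.surjective y
  have : x ∈ S := by rw [hS]; trivial
  exact this

/-- Images of the special unitary plane are stabilisers of unit vectors. -/
theorem exists_eq_stabilizer (j : ↥(K hF 2) →* ↥(K hF 3)) (hj : Function.Injective j) :
    ∃ a : Fin 3 → F, hh hF a a = 1 ∧ j.range = MulAction.stabilizer ↥(K hF 3) a := by
  obtain ⟨a, ha, hfix⟩ : ∃ a : Fin 3 → F, hh hF a a = 1 ∧ ∀ y, j y • a = a := by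
    by_cases h2 : (2 : F) = 0
    · exact exists_fixed_even h2 j hj
    · exact exists_fixed_odd h2 j hj
  obtain ⟨k, hk⟩ := exists_K_map hF (l := [(E 0 : Fin 3 → F)]) (l' := [a])
    ⟨Datum.on_E, by simp, trivial⟩ ⟨ha, by simp, trivial⟩ rfl (by simp)
  simp only [List.map_cons, List.map_nil, List.cons.injEq, and_true] at hk
  refine ⟨a, ha, Subgroup.eq_of_le_of_card_ge ?_ ?_⟩
  · rintro _ ⟨y, rfl⟩
    exact hfix y
  · have hstab : MulAction.stabilizer ↥(K hF 3) a =
        (MulAction.stabilizer ↥(K hF 3) (E 0 : Fin 3 → F)).map (MulAut.conj k).toMonoidHom := by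
      ext g
      rw [Subgroup.mem_map_equiv, MulAction.mem_stabilizer_iff, MulAction.mem_stabilizer_iff,
        MulAut.conj_symm_apply, mul_smul, mul_smul, hk, inv_smul_eq_iff, hk]
    rw [hstab, ← range_tl2 hF, ← MonoidHom.range_comp,
      ← Nat.card_congr (MonoidHom.ofInjective hj).toEquiv]
    exact Nat.card_le_card_of_surjective _ (MonoidHom.rangeRestrict_surjective _)

/-- Two planes with commuting cyclic tori generating the whole group form a standard pair. -/
theorem isStandardPair_of_tori {G : Type*} [Group G] {A B D D' : Subgroup G}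
    (eA : ↥(K hF 2) ≃* ↥A) (eB : ↥(K hF 2) ≃* ↥B) (ψ : ↥(A ⊔ B) ≃* ↥(Cfsg.SU 3 F q))
    (hD : D ≤ A) (hDc : IsCyclic ↥D) (hDn : Nat.card ↥D = q + 1)
    (hD' : D' ≤ B) (hDc' : IsCyclic ↥D') (hDn' : Nat.card ↥D' = q + 1)
    (hcomm : ∀ x ∈ D, ∀ y ∈ D', x * y = y * x) :
    Cfsg.IsStandardUnitaryPair (A ⊔ B) A B F q := by
  set V := A ⊔ B with hV
  set ι : ↥V ≃* ↥(K hF 3) := ψ.trans (suEquiv hF 3) with hι
  have hA : A ≤ V := le_sup_left
  have hB : B ≤ V := le_sup_right
  set jA : ↥(K hF 2) →* ↥(K hF 3) :=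
    ι.toMonoidHom.comp ((Subgroup.inclusion hA).comp eA.toMonoidHom)
  set jB : ↥(K hF 2) →* ↥(K hF 3) :=
    ι.toMonoidHom.comp ((Subgroup.inclusion hB).comp eB.toMonoidHom)
  obtain ⟨a, ha, hAa⟩ := exists_eq_stabilizer jA
    (ι.injective.comp ((Subgroup.inclusion_injective hA).comp eA.injective))
  obtain ⟨b, hb, hBb⟩ := exists_eq_stabilizer jB
    (ι.injective.comp ((Subgroup.inclusion_injective hB).comp eB.injective))
  have hmA : ∀ x : ↥V, x.1 ∈ A ↔ ι x • a = a := by
    intro x
    rw [← MulAction.mem_stabilizer_iff, ← hAa]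
    refine ⟨fun h => ⟨eA.symm ⟨x.1, h⟩, by
      show ι (Subgroup.inclusion hA (eA (eA.symm ⟨x.1, h⟩))) = ι x
      rw [MulEquiv.apply_symm_apply]; rfl⟩, ?_⟩
    rintro ⟨y, hy⟩
    rw [← ι.injective hy]
    exact (eA y).2
  have hmB : ∀ x : ↥V, x.1 ∈ B ↔ ι x • b = b := by
    intro x
    rw [← MulAction.mem_stabilizer_iff, ← hBb]
    refine ⟨fun h => ⟨eB.symm ⟨x.1, h⟩, by
      show ι (Subgroup.inclusion hB (eB (eB.symm ⟨x.1, h⟩))) = ι x
      rw [MulEquiv.apply_symm_apply]; rfl⟩, ?_⟩
    rintro ⟨y, hy⟩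
    rw [← ι.injective hy]
    exact (eB y).2
  have hnp : ∀ c : F, b ≠ c • a := by
    intro c hc
    let S : Subgroup G := ((MulAction.stabilizer ↥(K hF 3) b).comap ι.toMonoidHom).map V.subtype
    have hle : V ≤ S := by
      refine sup_le ?_ ?_
      · intro x hx
        refine ⟨⟨x, hA hx⟩, ?_, rfl⟩
        show ι ⟨x, hA hx⟩ • b = b
        rw [hc, smul_smul_K, (hmA ⟨x, hA hx⟩).1 hx]
      · intro x hx
        exact ⟨⟨x, hB hx⟩, (hmB ⟨x, hB hx⟩).1 hx, rfl⟩
    have hall : ∀ g : ↥(K hF 3), g • b = b := fun g => by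
      obtain ⟨x, hx, hxg⟩ := hle (ι.symm g).2
      rw [← ι.apply_symm_apply g, ← show x = ι.symm g from Subtype.ext hxg]
      exact hx
    have hEb : ∀ i : Fin 3, (E i : Fin 3 → F) = b := fun i => by
      obtain ⟨g, hg⟩ := exists_K_map hF (l := [b]) (l' := [(E i : Fin 3 → F)])
        ⟨hb, by simp, trivial⟩ ⟨Datum.on_E, by simp, trivial⟩ rfl (by simp)
      simp only [List.map_cons, List.map_nil, List.cons.injEq, and_true] at hg
      rw [← hg, hall]
    have := congrFun ((hEb 0).trans (hEb 1).symm) 0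
    simp [E] at this
  have hq := two_le_of_card hF
  have hgen : ∀ {T : Subgroup G} (_ : T ≤ V), IsCyclic ↥T → Nat.card ↥T = q + 1 →
      ∃ g : ↥V, g.1 ∈ T ∧ g ≠ 1 ∧ ι g ^ (q + 1) = 1 := by
    intro T hT hc hn
    obtain ⟨g, hg⟩ := hc.exists_generator
    have ho : orderOf g = q + 1 := by rw [orderOf_eq_card_of_forall_mem_zpowers hg, hn]
    refine ⟨Subgroup.inclusion hT g, g.2, fun h => ?_, ?_⟩
    · rw [← map_one (Subgroup.inclusion hT)] at h
      rw [Subgroup.inclusion_injective hT h, orderOf_one] at ho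
      omega
    · rw [← map_pow, ← map_pow, ← ho, pow_orderOf_eq_one, map_one, map_one]
  obtain ⟨d, hd, hd1, hdq⟩ := hgen (hD.trans hA) hDc hDn
  obtain ⟨d', hd', hd1', hdq'⟩ := hgen (hD'.trans hB) hDc' hDn'
  have hab : hh hF a b = 0 := by
    have hda : ι d • a = a := (hmA d).1 (hD hd)
    have hd'b : ι d' • b = b := (hmB d').1 (hD' hd')
    have hcm : ι d * ι d' = ι d' * ι d := by
      rw [← map_mul, ← map_mul]; congr 1; exact Subtype.ext (hcomm _ hd _ hd')
    have hfix : ι d • ι d' • a = ι d' • a := by rw [← mul_smul, hcm, mul_smul, hda]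
    obtain ⟨μ, hμ⟩ : ∃ μ : F, ι d' • a = μ • a := by
      by_contra hcon
      push Not at hcon
      exact hd1 (ι.injective ((eq_one_of_fix_two hdq ha hda hfix hcon).trans (map_one ι).symm))
    have hμ1 : μ ≠ 1 := by
      intro h1
      rw [h1, one_smul] at hμ
      refine hd1' (ι.injective ((eq_one_of_fix_two hdq' hb hd'b hμ fun c hc => ?_).trans
        (map_one ι).symm))
      rcases eq_or_ne c 0 with rfl | hc0
      · rw [zero_smul] at hc
        rw [hc, show hh hF (0 : Fin 3 → F) 0 = 0 from (stdHerm hF 3).zero_left _] at ha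
        exact zero_ne_one ha
      · exact hnp c⁻¹ (by rw [hc, inv_smul_smul₀ hc0])
    have h := h_smul_K hF (ι d') a b
    rw [hμ, hd'b, show hh hF (μ • a) b = μ * hh hF a b from (stdHerm hF 3).smul_left _ _ _] at h
    exact (mul_eq_zero.1 (show (μ - 1) * hh hF a b = 0 by linear_combination h)).resolve_left
      (sub_ne_zero.2 hμ1)
  obtain ⟨k, hk⟩ := exists_K_map hF (l := [(E 2 : Fin 3 → F), E 0]) (l' := [a, b])
    ⟨Datum.on_E, fun v hv => by obtain rfl := List.mem_singleton.1 hv; rw [hh_E, if_neg (by decide)], Datum.on_E, by simp, trivial⟩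
    ⟨ha, by simpa using hab, hb, by simp, trivial⟩ rfl (by simp)
  simp only [List.map_cons, List.map_nil, List.cons.injEq, and_true] at hk
  set Ψ : ↥(Cfsg.SU 3 F q) ≃* ↥V := ((suEquiv hF 3).trans (MulAut.conj k)).trans ι.symm with hΨ
  have hΨs : ∀ s, ι (Ψ s) = k * suEquiv hF 3 s * k⁻¹ := fun s => ι.apply_symm_apply _
  have hmap : ∀ (C : Subgroup G) (_ : C ≤ V) (l : Fin 3) (c : Fin 3 → F),
      (∀ x : ↥V, x.1 ∈ C ↔ ι x • c = c) → k • (E l : Fin 3 → F) = c →
      (Cfsg.suBlock 3 F q {l}ᶜ).map (V.subtype.comp Ψ.toMonoidHom) = C := by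
    intro C hC l c hm hkc
    have hiff : ∀ s, s ∈ Cfsg.suBlock 3 F q {l}ᶜ ↔ (Ψ s).1 ∈ C := by
      intro s
      rw [hm, hΨs, ← hkc, mul_smul, mul_smul, inv_smul_smul,
        ← Subgroup.mem_map_iff_mem (f := (suEquiv hF 3).toMonoidHom) (suEquiv hF 3).injective,
        map_suBlock, MulAction.mem_stabilizer_iff]
      exact ((MulAction.injective k).eq_iff).symm
    ext x
    constructor
    · rintro ⟨s, hs, rfl⟩
      exact (hiff s).1 hs
    · intro hx
      obtain ⟨s, hs⟩ := Ψ.surjective ⟨x, hC hx⟩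
      exact ⟨s, (hiff s).2 (by rw [hs]; exact hx), congrArg Subtype.val hs⟩
  refine Or.inl ⟨Ψ, ?_, ?_⟩
  · rw [show ({0, 1} : Set (Fin 3)) = {2}ᶜ by ext i; fin_cases i <;> simp]
    exact hmap A hA 2 a hmA hk.1
  · rw [show ({1, 2} : Set (Fin 3)) = {0}ᶜ by ext i; fin_cases i <;> simp]
    exact hmap B hB 0 b hmB hk.2

end CfsgLib.Phan
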