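import Cfsg.Agent.Lib.Phan.Subline

/-!
Lifts of elements of order three along central quotients of the four-dimensional special unitary
group over the field with nine elements.
-/

set_option autoImplicit false
set_option maxHeartbeats 800000
set_option synthInstance.maxHeartbeats 100000

namespace CfsgLib.Phan

open Module CfsgLib.Classical.Herm HermSpace
open scoped Matrix

/-- The braid relation together with `x³ = 1` bounds the order of the central element. -/
theorem braid_sq {M : Type*} [Group M] {x y : M} (hx : x ^ 3 = 1) (hb : x * y * x = y * x * y) :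
    Commute (x * y * x * (x * y * x)) x ∧ Commute (x * y * x * (x * y * x)) y ∧
      (x * y * x * (x * y * x)) * (x * y * x * (x * y * x)) = 1 := by
  set t := x * y * x with ht
  have htx : t * x = y * t := by
    calc t * x = y * x * y * x := by rw [hb]
      _ = y * t := by rw [ht]; group
  have hty : t * y = x * t := by
    calc t * y = x * (y * x * y) := by rw [ht]; group
      _ = x * t := by rw [← hb]
  have hwx : Commute (t * t) x := by
    show t * t * x = x * (t * t)
    rw [mul_assoc, htx, ← mul_assoc, hty, mul_assoc]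
  have hwy : Commute (t * t) y := by
    show t * t * y = y * (t * t)
    rw [mul_assoc, hty, ← mul_assoc, htx, mul_assoc]
  refine ⟨hwx, hwy, ?_⟩
  set s := x * y with hs
  set w := t * t with hw
  have hws : Commute w s := hwx.mul_right hwy
  have hwt : Commute w t := by
    show t * t * t = t * (t * t)
    rw [mul_assoc]
  have hs3 : s * s * s = w := by
    calc s * s * s = (x * y * x) * (y * x * y) := by rw [hs]; group
      _ = w := by rw [← hb]
  have hxst : x = s⁻¹ * t := by
    show x = (x * y)⁻¹ * (x * y * x)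
    group
  set A := s⁻¹ * t * s with hA
  set B := s * t * s⁻¹ with hB
  have hB' : B = s⁻¹ * s⁻¹ * t * (s * s) := by
    have h1 : s * s * s * t = t * (s * s * s) := by rw [hs3]; exact hwt
    calc B = s⁻¹ * s⁻¹ * (s * s * s * t) * s⁻¹ := by rw [hB]; group
      _ = _ := by rw [h1]; group
  have h3 : A * B * t = w := by
    have h1 : (s⁻¹ * t) ^ 3 = 1 := by rw [← hxst, hx]
    have h2 : (s⁻¹ * t) ^ 3 = A * B * (s⁻¹ * s⁻¹ * s⁻¹ * t * (s * s * s)) * (s * s * s)⁻¹ := by
      rw [hB', hA, pow_succ, pow_two]; group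
    have h4 : s⁻¹ * s⁻¹ * s⁻¹ * t * (s * s * s) = t := by
      rw [show s⁻¹ * s⁻¹ * s⁻¹ = (s * s * s)⁻¹ by group, hs3, mul_assoc, ← hwt.eq,
        inv_mul_cancel_left]
    rw [h4, hs3, h1] at h2
    exact mul_inv_eq_one.1 h2.symm
  have hAB : A * B = t := mul_right_cancel (h3.trans hw)
  have e1 : s⁻¹ * A * s = B := by rw [hA, hB']; group
  have e2 : s⁻¹ * B * s = t := by rw [hB]; group
  have hBt : B * t = A := by
    calc B * t = (s⁻¹ * A * s) * (s⁻¹ * B * s) := by rw [e1, e2]
      _ = s⁻¹ * (A * B) * s := by group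
      _ = A := by rw [hAB, hA]
  have hBtB : B * t * B = t := by rw [hBt, hAB]
  have h5 : t * B * t⁻¹ = B⁻¹ := by
    calc t * B * t⁻¹ = B⁻¹ * (B * t * B) * t⁻¹ := by group
      _ = B⁻¹ := by rw [hBtB]; group
  have hB2 : B * B = w := by
    calc B * B = s * w * s⁻¹ := by rw [hB, hw]; group
      _ = w := by rw [← hws.eq]; group
  have h6 : t * w * t⁻¹ = w⁻¹ := by
    calc t * w * t⁻¹ = (t * B * t⁻¹) * (t * B * t⁻¹) := by rw [← hB2]; group
      _ = w⁻¹ := by rw [h5, ← hB2]; group
  rw [← hwt.eq, mul_inv_cancel_right] at h6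
  calc w * w = w * w⁻¹ := by nth_rewrite 2 [h6]; rfl
    _ = 1 := mul_inv_cancel w

section Matrices

variable {R : Type*} [Field R]

/-- A two-by-two matrix of order three in characteristic three. -/
theorem cube_one (h3 : (3 : R) = 0) {X : Matrix (Fin 2) (Fin 2) R} (hX : X ^ 3 = 1) :
    X.det = 1 ∧ (X - 1) * (X - 1) = 0 := by
  have hd : X.det = 1 := by
    have h := congrArg Matrix.det hX
    rw [Matrix.det_pow, Matrix.det_one] at h
    exact sub_eq_zero.1 (pow_eq_zero_iff (n := 3) (by norm_num) |>.1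
      (show (X.det - 1) ^ 3 = 0 by linear_combination h - X.det * (X.det - 1) * h3))
  refine ⟨hd, ?_⟩
  set N := X - 1 with hN
  have hc : (3 : Matrix (Fin 2) (Fin 2) R) = 0 := by
    rw [show (3 : Matrix (Fin 2) (Fin 2) R) = Matrix.scalar (Fin 2) (3 : R) from
      (map_ofNat (Matrix.scalar (Fin 2)) 3).symm, h3, map_zero]
  have hN3 : N * N * N = 0 := by
    have e : N * N * N = X ^ 3 - 1 - 3 * (X * X - X) := by
      rw [hN, pow_succ, pow_two]; noncomm_ring
    rw [e, hX, hc, zero_mul, sub_self, sub_zero]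
  have hdN : N.det = 0 := by
    have h := congrArg Matrix.det hN3
    rw [Matrix.det_mul, Matrix.det_mul, Matrix.det_zero] at h
    exact pow_eq_zero_iff (n := 3) (by norm_num) |>.1 (by linear_combination h)
  have hNN : N * N = (N 0 0 + N 1 1) • N := by
    rw [Matrix.det_fin_two] at hdN
    ext i j
    rw [Matrix.mul_apply, Fin.sum_univ_two]
    fin_cases i <;> fin_cases j <;> simp <;>
      first | linear_combination -hdN | ring
  rcases eq_or_ne (N 0 0 + N 1 1) 0 with h | h
  · rw [hNN, h, zero_smul]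
  · rw [hNN, Matrix.smul_mul, hNN, smul_smul, smul_eq_zero] at hN3
    rw [hN3.resolve_left (mul_ne_zero h h), Matrix.mul_zero]

/-- What commutes with a non-trivial nilpotent matrix. -/
theorem centralizer_nilpotent {N X : Matrix (Fin 2) (Fin 2) R} (hN : N * N = 0) (hN0 : N ≠ 0)
    (hX : N * X = X * N) : ∃ a b : R, X = a • (1 : Matrix (Fin 2) (Fin 2) R) + b • N := by
  have e : ∀ i j, N i 0 * N 0 j + N i 1 * N 1 j = 0 := fun i j => by
    have h := congrFun (congrFun hN i) j
    rwa [Matrix.mul_apply, Fin.sum_univ_two] at h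
  have f : ∀ i j, N i 0 * X 0 j + N i 1 * X 1 j = X i 0 * N 0 j + X i 1 * N 1 j := fun i j => by
    have h := congrFun (congrFun hX i) j
    rwa [Matrix.mul_apply, Fin.sum_univ_two, Matrix.mul_apply, Fin.sum_univ_two] at h
  have e00 := e 0 0
  have e01 := e 0 1
  have e10 := e 1 0
  have e11 := e 1 1
  have f00 := f 0 0
  have f01 := f 0 1
  have f10 := f 1 0
  by_cases hr : N 0 1 = 0
  · have h00 : N 0 0 = 0 := by
      rw [hr, zero_mul, add_zero] at e00
      exact mul_self_eq_zero.1 e00
    have h11 : N 1 1 = 0 := by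
      rw [hr, mul_zero, zero_add] at e11
      exact mul_self_eq_zero.1 e11
    have h10 : N 1 0 ≠ 0 := fun h => hN0 (by
      ext i j; fin_cases i <;> fin_cases j <;> simp [h00, h11, hr, h])
    refine ⟨X 0 0, X 1 0 / N 1 0, ?_⟩
    simp [hr, h00, h11] at f00 f10
    have hX01 : X 0 1 = 0 := f00.resolve_right h10
    have hX11 : X 1 1 = X 0 0 := mul_left_cancel₀ h10 (by linear_combination -f10)
    ext i j
    fin_cases i <;> fin_cases j <;> simp [h00, h11, hr, hX01, hX11] <;> field_simp
  · refine ⟨X 0 0 - X 0 1 / N 0 1 * N 0 0, X 0 1 / N 0 1, ?_⟩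
    ext i j
    fin_cases i <;> fin_cases j <;> simp <;> field_simp <;> grind

/-- Nothing of order three commutes with a braided pair. -/
theorem eq_one_of_commute_braid (h3 : (3 : R) = 0) {W X Y : Matrix (Fin 2) (Fin 2) R}
    (hW : W ^ 3 = 1) (hX : X ^ 3 = 1) (hY : Y ^ 3 = 1) (hWX : W * X = X * W)
    (hWY : W * Y = Y * W) (hT : (X * Y * X) * (X * Y * X) = -1) : W = 1 := by
  by_contra hW1
  set N := W - 1 with hN
  have hNN : N * N = 0 := (cube_one h3 hW).2
  have hN0 : N ≠ 0 := sub_ne_zero.2 hW1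
  have hsc : ∀ Z : Matrix (Fin 2) (Fin 2) R, Z ^ 3 = 1 → W * Z = Z * W →
      ∃ b : R, Z = 1 + b • N := by
    intro Z hZ hWZ
    obtain ⟨a, b, rfl⟩ := centralizer_nilpotent hNN hN0 (X := Z)
      (by rw [hN, sub_mul, mul_sub, hWZ, one_mul, mul_one])
    refine ⟨b, ?_⟩
    have e : (a • (1 : Matrix (Fin 2) (Fin 2) R) + b • N) ^ 3 =
        (a ^ 3) • 1 + (3 * a ^ 2 * b) • N := by
      simp only [pow_succ, pow_zero, add_mul, mul_add, Matrix.smul_mul, Matrix.mul_smul, one_mul,
        mul_one, hNN, smul_zero, add_zero, smul_smul, smul_add, zero_add]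
      module
    rw [e, h3, zero_mul, zero_mul, zero_smul, add_zero] at hZ
    have ha := congrFun (congrFun hZ 0) 0
    simp at ha
    have ha1 : a = 1 := sub_eq_zero.1 (pow_eq_zero_iff (n := 3) (by norm_num) |>.1
      (show (a - 1) ^ 3 = 0 by linear_combination ha - a * (a - 1) * h3))
    rw [ha1, one_smul]
  obtain ⟨b, rfl⟩ := hsc X hX hWX
  obtain ⟨c, rfl⟩ := hsc Y hY hWY
  have e : (1 + b • N) * (1 + c • N) * (1 + b • N) * ((1 + b • N) * (1 + c • N) * (1 + b • N)) =
      1 + (2 * (2 * b + c)) • N := by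
    simp only [add_mul, mul_add, Matrix.smul_mul, Matrix.mul_smul, one_mul, mul_one, hNN,
      smul_zero, add_zero, smul_add]
    module
  rw [e] at hT
  have hsq : ((2 * (2 * b + c)) • N) * ((2 * (2 * b + c)) • N) = 0 := by
    rw [Matrix.smul_mul, Matrix.mul_smul, hNN, smul_zero, smul_zero]
  have hκ : (2 * (2 * b + c)) • N = -1 - 1 := eq_sub_of_add_eq' hT
  rw [hκ] at hsq
  have h4 := congrFun (congrFun hsq 0) 0
  simp [Matrix.mul_apply, Fin.sum_univ_two] at h4
  exact one_ne_zero (α := R) (by linear_combination h3 + h4)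

/-- A braided pair whose central element is trivial. -/
theorem eq_of_braid_trivial (h3 : (3 : R) = 0) {X Y : Matrix (Fin 2) (Fin 2) R}
    (hX : X ^ 3 = 1) (hY : Y ^ 3 = 1) (hb : X * Y * X = Y * X * Y)
    (hT : (X * Y * X) * (X * Y * X) = 1) : X = Y := by
  set T := X * Y * X with hTdef
  have hd : T.det = 1 := by
    rw [hTdef, Matrix.det_mul, Matrix.det_mul, (cube_one h3 hX).1, (cube_one h3 hY).1]; norm_num
  have e : ∀ i j, T i 0 * T 0 j + T i 1 * T 1 j = if i = j then 1 else 0 := fun i j => by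
    have h := congrFun (congrFun hT i) j
    rwa [Matrix.mul_apply, Fin.sum_univ_two, Matrix.one_apply] at h
  rw [Matrix.det_fin_two] at hd
  have e00 := e 0 0
  have e01 := e 0 1
  have e10 := e 1 0
  have e11 := e 1 1
  simp at e00 e01 e10 e11
  have h2 : (2 : R) ≠ 0 := fun h => one_ne_zero (α := R) (by linear_combination h3 - h)
  have hsum : T 0 0 + T 1 1 ≠ 0 := fun h => h2 (by grind)
  have h01 : T 0 1 = 0 :=
    (mul_eq_zero.1 (show (T 0 0 + T 1 1) * T 0 1 = 0 by linear_combination e01)).resolve_left hsum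
  have h10 : T 1 0 = 0 :=
    (mul_eq_zero.1 (show (T 0 0 + T 1 1) * T 1 0 = 0 by linear_combination e10)).resolve_left hsum
  have hτ : T 0 0 ≠ 0 := fun h => by rw [h, h01] at e00; simp at e00
  have h11 : T 1 1 = T 0 0 := by
    refine mul_left_cancel₀ hτ ?_
    rw [h01, h10] at hd
    rw [h01] at e00
    linear_combination hd - e00
  have hTs : T = (T 0 0) • (1 : Matrix (Fin 2) (Fin 2) R) := by
    ext i j; fin_cases i <;> fin_cases j <;> simp [h01, h10, h11]
  have hTX : T * X = Y * T := by
    calc T * X = Y * X * Y * X := by rw [hb]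
      _ = Y * T := by rw [hTdef]; simp only [Matrix.mul_assoc]
  rw [hTs, Matrix.smul_mul, Matrix.mul_smul, one_mul, mul_one] at hTX
  exact smul_right_injective _ hτ hTX

end Matrices

variable {F : Type*} [Field F] [Fintype F] {q : ℕ} (hF : Fintype.card F = q ^ 2)

theorem three_eq_zero (hq : q = 3) (hF : Fintype.card F = q ^ 2) : (3 : F) = 0 := by
  have h := FiniteField.cast_card_eq_zero (K := F)
  rw [hF, hq, Nat.cast_pow, pow_eq_zero_iff (by norm_num)] at h
  exact_mod_cast h

theorem exists_four_root (hq : q = 3) :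
    ∃ a : F, nm hF a = 1 ∧ a ^ 2 = -1 := by
  obtain ⟨a, ha, ha2⟩ := exists_unit_scalar hF
  refine ⟨a, ha, ?_⟩
  have h4 : a ^ 4 = 1 := by
    rw [nm, qPow_apply, hq, ← pow_succ'] at ha; exact ha
  exact (mul_eq_zero.1 (show (a ^ 2 - 1) * (a ^ 2 + 1) = 0 by linear_combination h4)).resolve_left
    (sub_ne_zero.2 ha2) |> eq_neg_of_add_eq_zero_left

/-- Generators of the special unitary plane over nine elements. -/
theorem exists_braid_gens (hq : q = 3) : ∃ x y : ↥(K hF 2),
    x ^ 3 = 1 ∧ y ^ 3 = 1 ∧ x * y * x = y * x * y ∧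
      mat hF (x * y * x * (x * y * x)) = -1 ∧ Subgroup.closure {x, y} = ⊤ := by
  have h3 := three_eq_zero hq hF
  obtain ⟨P, e, he⟩ := exists_coord hF
  have h3k : (3 : fixedField hF) = 0 :=
    (fixedField hF).subtype.injective (by rw [map_ofNat, map_zero]; exact h3)
  haveI : Fact (Nat.Prime 3) := ⟨Nat.prime_three⟩
  haveI : CharP F 3 :=
    (CharP.charP_iff_prime_eq_zero Nat.prime_three).2 (by exact_mod_cast h3)
  haveI : CharP (fixedField hF) 3 :=
    (fixedField hF).subtype.charP (fixedField hF).subtype.injective 3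
  have h01 : (0 : Fin 2) ≠ 1 := by decide
  set X := Matrix.SpecialLinearGroup.transvection h01 (1 : fixedField hF) with hX
  set Y := Matrix.SpecialLinearGroup.transvection h01.symm (-1 : fixedField hF) with hY
  refine ⟨e X, e Y, by rw [← map_pow, hX, AutPSL.transvection_pow_eq_one 3 h01, map_one],
    by rw [← map_pow, hY, AutPSL.transvection_pow_eq_one 3 h01.symm, map_one], ?_, ?_, ?_⟩
  · rw [← map_mul, ← map_mul, ← map_mul, ← map_mul]
    congr 1
    apply Subtype.ext
    ext i j
    fin_cases i <;> fin_cases j <;>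
      simp [hX, hY, Matrix.SpecialLinearGroup.transvection_coe, Matrix.mul_apply, Fin.sum_univ_two]
  · rw [← map_mul, ← map_mul, ← map_mul, he]
    have hv : (X * Y * X * (X * Y * X)).1 = -1 := by
      ext i j
      fin_cases i <;> fin_cases j <;>
        simp [hX, hY, Matrix.SpecialLinearGroup.transvection_coe, Matrix.mul_apply, Fin.sum_univ_two]
    rw [hv, Matrix.map_neg _ (by simp), Matrix.map_one _ (map_zero _) (map_one _), Matrix.mul_neg,
      Matrix.mul_one, Matrix.neg_mul, Units.mul_inv]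
  · set S := Subgroup.closure ({e X, e Y} : Set ↥(K hF 2)) with hS
    have hc : ∀ c : fixedField hF, c = 0 ∨ c = 1 ∨ c = -1 := by
      intro c
      have h : qPow hF (c : F) = c := mem_fixedField.1 c.2
      rw [qPow_apply] at h
      replace h : (c : F) ^ 3 = c := by subst hq; exact h
      have h' : c * ((c - 1) * (c + 1)) = 0 := Subtype.ext (by push_cast; linear_combination h)
      rcases mul_eq_zero.1 h' with h | h
      · exact Or.inl h
      · rcases mul_eq_zero.1 h with h | h
        · exact Or.inr (Or.inl (sub_eq_zero.1 h))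
        · exact Or.inr (Or.inr (eq_neg_of_add_eq_zero_left h))
    have hXS : X ∈ S.comap e.toMonoidHom := Subgroup.subset_closure (by simp)
    have hYS : Y ∈ S.comap e.toMonoidHom := Subgroup.subset_closure (by simp)
    have htop : S.comap e.toMonoidHom = ⊤ := Linear.SL_eq_top_of_transvection_mem _
      fun i j hij c => by
        fin_cases i <;> fin_cases j
        · exact absurd rfl hij
        · rcases hc c with rfl | rfl | rfl
          · rw [Matrix.SpecialLinearGroup.transvection_coeff_zero]; exact one_mem _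
          · exact hXS
          · rw [show Matrix.SpecialLinearGroup.transvection hij (-1 : fixedField hF) = X⁻¹ by
              rw [hX, Matrix.SpecialLinearGroup.transvection_inv]]
            exact inv_mem hXS
        · rcases hc c with rfl | rfl | rfl
          · rw [Matrix.SpecialLinearGroup.transvection_coeff_zero]; exact one_mem _
          · rw [show Matrix.SpecialLinearGroup.transvection hij (1 : fixedField hF) = Y⁻¹ by
              rw [hY, Matrix.SpecialLinearGroup.transvection_inv, neg_neg]]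
            exact inv_mem hYS
          · exact hYS
        · exact absurd rfl hij
    refine eq_top_iff.2 fun z _ => ?_
    obtain ⟨B, rfl⟩ := e.surjective z
    have : B ∈ S.comap e.toMonoidHom := by rw [htop]; trivial
    exact this

variable {hF}

theorem center_pow_four (hq : q = 3) {c : ↥(K hF 4)} (hc : c ∈ Subgroup.center ↥(K hF 4)) :
    c ^ 4 = 1 := by
  have hcard : Nat.card (Subgroup.center ↥(K hF 4)) = 4 := by
    rw [Nat.card_congr (Subgroup.centerCongr (suEquiv hF 4)).symm.toEquiv,
      card_center_su hF (by omega), hq]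
    rfl
  have h := pow_card_eq_one' (x := (⟨c, hc⟩ : Subgroup.center ↥(K hF 4)))
  rw [hcard] at h
  exact congrArg Subtype.val h

/-- Central elements fixing a basis vector. -/
theorem central_fix_one {n : ℕ} {z : ↥(K hF n)} (hz : z ∈ Subgroup.center ↥(K hF n)) (hn : 2 ≤ n)
    {j : Fin n} (hj : z • (E j : Fin n → F) = E j) : z = 1 := by
  refine eq_one_of_fix_all hF fun i => ?_
  obtain ⟨k, hk⟩ := exists_K_map hF (l := [(E j : Fin n → F)]) (l' := [E i])
    ⟨Datum.on_E, by simp, trivial⟩ ⟨Datum.on_E, by simp, trivial⟩ rfl (by simp; omega)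
  simp only [List.map_cons, List.map_nil, List.cons.injEq, and_true] at hk
  rw [← hk, ← mul_smul, ← Subgroup.mem_center_iff.1 hz k, mul_smul, hj]

/-- Homomorphisms whose image is not trivial have central kernel. -/
theorem ker_le_center (hq : q = 3) {G : Type*} [Group G] (π : ↥(K hF 4) →* G)
    (hπ : ∃ g, π g ≠ 1) : π.ker ≤ Subgroup.center ↥(K hF 4) := by
  obtain ⟨e₀, f₀, p⟩ := exists_pair_std hF (show 3 ≤ 4 by omega)
  set r := MulEquiv.subgroupCongr (rootGen_std hF (show 3 ≤ 4 by omega)) with hr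
  rcases normal_rootGen_dichotomy (big_std hF (by omega)) (perfectable_std hF (by omega)
    (by omega)) p ((π.comp r.toMonoidHom).ker) inferInstance with h | h
  · intro n hn
    obtain ⟨μ, hμ, hμx⟩ := h (r.symm n) (by
      rw [MonoidHom.mem_ker, MonoidHom.comp_apply]
      show π (r (r.symm n)) = 1
      rw [r.apply_symm_apply]; exact hn)
    have hc := (mem_center_rootGen_iff_scalar (big_std hF (by omega)) p (r.symm n)).2 ⟨μ, hμ, hμx⟩
    rw [Subgroup.mem_center_iff] at hc ⊢
    intro g
    have h2 := congrArg r (hc (r.symm g))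
    rwa [map_mul, map_mul, r.apply_symm_apply, r.apply_symm_apply] at h2
  · obtain ⟨g, hg⟩ := hπ
    refine absurd ?_ hg
    have h2 : r.symm g ∈ (π.comp r.toMonoidHom).ker := by rw [h]; trivial
    rw [MonoidHom.mem_ker, MonoidHom.comp_apply] at h2
    rw [← r.apply_symm_apply g]
    exact h2

section Lifts

variable {G : Type*} [Group G] {π : ↥(K hF 4) →* G}
  (hq : q = 3) (hπ : π.ker ≤ Subgroup.center ↥(K hF 4))

include hq hπ

theorem lift_unique {a b : ↥(K hF 4)} (ha : a ^ 3 = 1) (hb : b ^ 3 = 1) (h : π a = π b) : a = b := by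
  have hc : a * b⁻¹ ∈ Subgroup.center ↥(K hF 4) :=
    hπ (by rw [MonoidHom.mem_ker, map_mul, map_inv, h, mul_inv_cancel])
  have h3 : (a * b⁻¹) ^ 3 = 1 := by
    have hcm : Commute (a * b⁻¹) b := (Subgroup.mem_center_iff.1 hc b).symm
    have e : (a * b⁻¹) ^ 3 * b ^ 3 = a ^ 3 := by rw [← hcm.mul_pow, inv_mul_cancel_right]
    rwa [ha, hb, mul_one] at e
  have h4 := center_pow_four hq hc
  have h1 : a * b⁻¹ = 1 := by
    rw [show a * b⁻¹ = (a * b⁻¹) ^ 4 * ((a * b⁻¹) ^ 3)⁻¹ by group, h4, h3]; group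
  exact mul_inv_eq_one.1 h1

theorem lift_conj {a g : ↥(K hF 4)} (ha : a ^ 3 = 1) (h : Commute (π g) (π a)) : Commute g a := by
  have e : g * a * g⁻¹ = a := lift_unique hq hπ (by rw [conj_pow, ha]; group) ha (by
    rw [map_mul, map_mul, map_inv, h.eq, mul_inv_cancel_right])
  exact mul_inv_eq_iff_eq_mul.1 e

theorem exists_lift {g : G} (hg : g ^ 3 = 1) (hmem : g ∈ π.range) :
    ∃ a, a ^ 3 = 1 ∧ π a = g := by
  obtain ⟨r, rfl⟩ := hmem
  refine ⟨r ^ 4, ?_, by rw [map_pow, pow_succ, hg, one_mul]⟩
  rw [← pow_mul, show 4 * 3 = 3 * 4 from rfl, pow_mul]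
  exact center_pow_four hq (hπ (by rw [MonoidHom.mem_ker, map_pow, hg]))

/-- Lifting a plane with its braided generators. -/
theorem exists_lift_pair (u : ↥(K hF 2) →* G) (hu : u.range ≤ π.range) {x y : ↥(K hF 2)}
    (hx : x ^ 3 = 1) (hy : y ^ 3 = 1) (hb : x * y * x = y * x * y) :
    ∃ a b : ↥(K hF 4), a ^ 3 = 1 ∧ b ^ 3 = 1 ∧ π a = u x ∧ π b = u y ∧
      a * b * a = b * a * b := by
  obtain ⟨a, ha, hax⟩ := exists_lift hq hπ (g := u x) (by rw [← map_pow, hx, map_one]) (hu ⟨x, rfl⟩)
  obtain ⟨b, hb', hby⟩ := exists_lift hq hπ (g := u y) (by rw [← map_pow, hy, map_one]) (hu ⟨y, rfl⟩)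
  refine ⟨a, b, ha, hb', hax, hby, ?_⟩
  have e : a * b * a * (a * b)⁻¹ = b := lift_unique hq hπ (by rw [conj_pow, ha]; group) hb' (by
    simp only [map_mul, map_inv, hax, hby]
    rw [← map_mul, ← map_mul, ← map_inv, ← map_mul, hb]
    congr 1
    group)
  calc a * b * a = (a * b * a * (a * b)⁻¹) * (a * b) := by group
    _ = b * a * b := by rw [e]; group

end Lifts

end CfsgLib.Phan
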