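import Cfsg.Agent.Lib.Phan.Datum

/-!
Matrices of isometries and the automorphisms induced by monomial semilinear similarities.
-/

set_option autoImplicit false
set_option maxHeartbeats 800000
set_option synthInstance.maxHeartbeats 100000

namespace CfsgLib.Phan

open Module CfsgLib.Classical.Herm HermSpace
open scoped Matrix

variable {F : Type*} [Field F] [Fintype F] {q : ℕ} (hF : Fintype.card F = q ^ 2)

/-- The matrix of an element. -/
noncomputable def mat {n : ℕ} : ↥(K hF n) →* Matrix (Fin n) (Fin n) F where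
  toFun g := LinearMap.toMatrix' (g.1.1 : (Fin n → F) →ₗ[F] Fin n → F)
  map_one' := LinearMap.toMatrix'_id
  map_mul' g g' := LinearMap.toMatrix'_comp (g.1.1 : (Fin n → F) →ₗ[F] Fin n → F)
    (g'.1.1 : (Fin n → F) →ₗ[F] Fin n → F)

theorem mat_apply {n : ℕ} (g : ↥(K hF n)) (i j : Fin n) :
    mat hF g i j = (g • (E j : Fin n → F)) i := by
  show LinearMap.toMatrix' (g.1.1 : (Fin n → F) →ₗ[F] Fin n → F) i j = _
  rw [LinearMap.toMatrix'_apply]
  rfl

theorem mulVec_mat {n : ℕ} (g : ↥(K hF n)) (v : Fin n → F) : mat hF g *ᵥ v = g • v := by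
  show LinearMap.toMatrix' (g.1.1 : (Fin n → F) →ₗ[F] Fin n → F) *ᵥ v = _
  rw [LinearMap.toMatrix'_mulVec]
  rfl

theorem mat_injective {n : ℕ} : Function.Injective (mat hF (n := n)) := fun g g' h =>
  K_ext hF fun v => by rw [← mulVec_mat, ← mulVec_mat, h]

theorem det_mat {n : ℕ} (g : ↥(K hF n)) : (mat hF g).det = 1 := by
  have h := congrArg Units.val (show detHom (stdHerm hF n) g.1 = 1 from g.2)
  show (LinearMap.toMatrix' (g.1.1 : (Fin n → F) →ₗ[F] Fin n → F)).det = 1
  rw [LinearMap.det_toMatrix']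
  rw [Units.val_one] at h
  rw [← h]
  show LinearMap.det _ = ((LinearEquiv.det g.1.1 : Fˣ) : F)
  rw [LinearEquiv.coe_det]

theorem ringEquiv_qPow (θ : F ≃+* F) (x : F) : θ (qPow hF x) = qPow hF (θ x) := by
  rw [qPow_apply, qPow_apply, map_pow]

instance {n : ℕ} : Finite ↥(K hF n) := Finite.of_injective _ (mat_injective hF)

variable {n : ℕ} (θ : F ≃+* F) (δ : Fin n → F) (hδ : ∀ i, nm hF (δ i) = 1)

omit [Fintype F] in
/-- The semilinear map `v ↦ δ · θ v`. -/
def semi (v : Fin n → F) : Fin n → F := fun i => δ i * θ (v i)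

/-- Its inverse. -/
noncomputable def semiInv (v : Fin n → F) : Fin n → F := fun i => θ.symm (qPow hF (δ i) * v i)

include hδ

theorem semiInv_semi (v : Fin n → F) : semiInv hF θ δ (semi θ δ v) = v := by
  funext i
  show θ.symm (qPow hF (δ i) * (δ i * θ (v i))) = v i
  rw [← mul_assoc, mul_comm _ (δ i), show δ i * qPow hF (δ i) = 1 from hδ i, one_mul,
    RingEquiv.symm_apply_apply]

theorem semi_semiInv (v : Fin n → F) : semi θ δ (semiInv hF θ δ v) = v := by
  funext i
  show δ i * θ (θ.symm (qPow hF (δ i) * v i)) = v i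
  rw [RingEquiv.apply_symm_apply, ← mul_assoc, show δ i * qPow hF (δ i) = 1 from hδ i, one_mul]

theorem hh_semi (u v : Fin n → F) : hh hF (semi θ δ u) (semi θ δ v) = θ (hh hF u v) := by
  simp only [hh, stdHerm_h, Cfsg.hermForm, semi, map_sum, map_mul, map_pow]
  refine Finset.sum_congr rfl fun i _ => ?_
  have h : δ i * δ i ^ q = 1 := by rw [← qPow_apply hF]; exact hδ i
  rw [mul_pow]
  linear_combination (θ (u i) * θ (v i) ^ q) * h

theorem hh_semiInv (u v : Fin n → F) :
    hh hF (semiInv hF θ δ u) (semiInv hF θ δ v) = θ.symm (hh hF u v) := by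
  apply θ.injective
  rw [← hh_semi hF θ δ hδ, semi_semiInv hF θ δ hδ, semi_semiInv hF θ δ hδ,
    RingEquiv.apply_symm_apply]

omit hδ [Fintype F] in
theorem semi_add (u v : Fin n → F) : semi θ δ (u + v) = semi θ δ u + semi θ δ v := by
  funext i; simp [semi, mul_add]

omit hδ [Fintype F] in
theorem semi_smul (c : F) (v : Fin n → F) : semi θ δ (c • v) = θ c • semi θ δ v := by
  funext i; simp [semi, mul_left_comm]

omit hδ in
theorem semiInv_add (u v : Fin n → F) :
    semiInv hF θ δ (u + v) = semiInv hF θ δ u + semiInv hF θ δ v := by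
  funext i; simp [semiInv, mul_add]

omit hδ in
theorem semiInv_smul (c : F) (v : Fin n → F) :
    semiInv hF θ δ (c • v) = θ.symm c • semiInv hF θ δ v := by
  funext i; simp [semiInv, mul_left_comm]

/-- Conjugation by `semi`, on isometries. -/
noncomputable def twistU (g : Unit' (stdHerm hF n)) : Unit' (stdHerm hF n) :=
  ⟨{ toFun := fun v => semi θ δ (g.1 (semiInv hF θ δ v))
     invFun := fun v => semi θ δ ((g⁻¹).1 (semiInv hF θ δ v))
     map_add' := fun u v => by rw [semiInv_add, map_add, semi_add]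
     map_smul' := fun c v => by
      rw [semiInv_smul, map_smul, semi_smul, RingEquiv.apply_symm_apply, RingHom.id_apply]
     left_inv := fun v => by
      simp only
      rw [semiInv_semi hF θ δ hδ, inv_apply_self, semi_semiInv hF θ δ hδ]
     right_inv := fun v => by
      simp only
      rw [semiInv_semi hF θ δ hδ, self_apply_inv, semi_semiInv hF θ δ hδ] },
   fun u v => by
    show hh hF (semi θ δ (g.1 (semiInv hF θ δ u))) (semi θ δ (g.1 (semiInv hF θ δ v))) = hh hF u v
    rw [hh_semi hF θ δ hδ, show hh hF (g.1 (semiInv hF θ δ u)) (g.1 (semiInv hF θ δ v)) =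
      hh hF (semiInv hF θ δ u) (semiInv hF θ δ v) from unit_h g _ _, hh_semiInv hF θ δ hδ,
      RingEquiv.apply_symm_apply]⟩

theorem twistU_matrix (g : Unit' (stdHerm hF n)) :
    LinearMap.toMatrix' ((twistU hF θ δ hδ g).1 : (Fin n → F) →ₗ[F] Fin n → F) =
      Matrix.diagonal δ * (LinearMap.toMatrix' (g.1 : (Fin n → F) →ₗ[F] Fin n → F)).map θ *
        Matrix.diagonal (fun i => qPow hF (δ i)) := by
  ext i j
  rw [Matrix.mul_diagonal, Matrix.diagonal_mul, Matrix.map_apply, LinearMap.toMatrix'_apply,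
    LinearMap.toMatrix'_apply]
  show (semi θ δ (g.1 (semiInv hF θ δ (Pi.single j 1)))) i = _
  have e : semiInv hF θ δ (Pi.single j 1) =
      θ.symm (qPow hF (δ j)) • (Pi.single j 1 : Fin n → F) := by
    funext k
    by_cases hk : k = j
    · subst hk; simp [semiInv]
    · simp [semiInv, hk]
  rw [e, map_smul, semi_smul, RingEquiv.apply_symm_apply]
  show qPow hF (δ j) * (δ i * θ (g.1 (Pi.single j 1) i)) = δ i * θ (g.1 (Pi.single j 1) i) * _
  ring

theorem det_twistU (g : Unit' (stdHerm hF n)) :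
    (detHom (stdHerm hF n) (twistU hF θ δ hδ g) : F) = θ (detHom (stdHerm hF n) g : F) := by
  have e : ∀ k : Unit' (stdHerm hF n), (detHom (stdHerm hF n) k : F) =
      (LinearMap.toMatrix' (k.1 : (Fin n → F) →ₗ[F] Fin n → F)).det := fun k => by
    rw [LinearMap.det_toMatrix']
    show ((LinearEquiv.det k.1 : Fˣ) : F) = _
    rw [LinearEquiv.coe_det]
  rw [e, e, twistU_matrix, Matrix.det_mul, Matrix.det_mul, Matrix.det_diagonal,
    Matrix.det_diagonal, mul_comm, ← mul_assoc, ← Finset.prod_mul_distrib,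
    Finset.prod_eq_one (fun i _ => by rw [mul_comm]; exact hδ i), one_mul]
  exact (RingEquiv.map_det θ _).symm

/-- The automorphism induced by `semi`. -/
noncomputable def twist : ↥(K hF n) →* ↥(K hF n) where
  toFun g := ⟨twistU hF θ δ hδ g.1, by
    rw [MonoidHom.mem_ker]
    apply Units.ext
    rw [det_twistU, show detHom (stdHerm hF n) g.1 = 1 from g.2, Units.val_one, map_one]⟩
  map_one' := Subtype.ext (unit_ext fun v => semi_semiInv hF θ δ hδ v)
  map_mul' g g' := Subtype.ext (unit_ext fun v => by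
    show semi θ δ ((g * g').1.1 (semiInv hF θ δ v)) =
      semi θ δ (g.1.1 (semiInv hF θ δ (semi θ δ (g'.1.1 (semiInv hF θ δ v)))))
    rw [semiInv_semi hF θ δ hδ]; rfl)

theorem twist_smul (g : ↥(K hF n)) (v : Fin n → F) :
    twist hF θ δ hδ g • v = semi θ δ (g • semiInv hF θ δ v) := rfl

theorem mat_twist (g : ↥(K hF n)) :
    mat hF (twist hF θ δ hδ g) =
      Matrix.diagonal δ * (mat hF g).map θ * Matrix.diagonal (fun i => qPow hF (δ i)) :=
  twistU_matrix hF θ δ hδ g.1

theorem twist_injective : Function.Injective (twist hF θ δ hδ) := by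
  intro g g' h
  refine K_ext hF fun v => ?_
  have := congrArg (fun k : ↥(K hF n) => semiInv hF θ δ (k • semi θ δ v)) h
  simpa only [twist_smul, semiInv_semi hF θ δ hδ] using this

theorem twist_surjective : Function.Surjective (twist hF θ δ hδ) :=
  Finite.injective_iff_surjective.1 (twist_injective hF θ δ hδ)

omit hδ in
theorem twist_emb {a : ℕ} (e : Fin a ↪ Fin n) (δ : Fin n → F) (hδ : ∀ i, nm hF (δ i) = 1)
    (g : ↥(K hF a)) :
    twist hF θ δ hδ (emb hF e g) = emb hF e (twist hF θ (δ ∘ e) (fun i => hδ (e i)) g) := by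
  refine K_ext hF fun x => funext fun j => ?_
  rw [twist_smul]
  by_cases hj : ∃ i, e i = j
  · obtain ⟨i, rfl⟩ := hj
    rw [emb_in, twist_smul]
    show δ (e i) * θ ((emb hF e g • semiInv hF θ δ x) (e i)) = _
    rw [emb_in]
    rfl
  · push Not at hj
    show δ j * θ ((emb hF e g • semiInv hF θ δ x) j) = _
    rw [emb_off hF e g _ hj, emb_off hF e _ x hj]
    exact congrFun (semi_semiInv hF θ δ hδ x) j

end CfsgLib.Phan
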