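import Cfsg.Agent.Lib.Phan.QThree

/-!
The three-dimensional special unitary group over the field with four elements: the subgroup
generated by the two fundamental planes, and rigidity of identifications.
-/

set_option autoImplicit false
set_option maxHeartbeats 800000
set_option synthInstance.maxHeartbeats 100000

namespace CfsgLib.Phan

open Module CfsgLib.Classical.Herm HermSpace
open scoped Matrix

variable {F : Type*} [Field F] [Fintype F] {q : ℕ} (hF : Fintype.card F = q ^ 2)

theorem two_eq_zero_two (hF : Fintype.card F = q ^ 2) (hq : q = 2) : (2 : F) = 0 := by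
  have h := FiniteField.cast_card_eq_zero (K := F)
  rw [hF, hq, Nat.cast_pow, pow_eq_zero_iff (by norm_num)] at h
  exact_mod_cast h

theorem nm_one {x : F} (hF : Fintype.card F = q ^ 2) (hq : q = 2) (hx : x ≠ 0) : nm hF x = 1 := by
  rcases fixed_two hF hq (nm_fixed hF x) with h | h
  · exact absurd (nm_eq_zero hF h) hx
  · exact h

theorem cube_of_ne_zero (hF : Fintype.card F = q ^ 2) (hq : q = 2) {x : F} (hx : x ≠ 0) : x ^ 3 = 1 := by
  have h := nm_one hF hq hx
  rw [nm, qPow_apply, hq, ← pow_succ'] at h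
  exact h

theorem exists_omega (hq : q = 2) : ∃ a : F, nm hF a = 1 ∧ a ≠ 1 ∧ a ^ 2 + a + 1 = 0 := by
  obtain ⟨a, ha, ha2⟩ := exists_unit_scalar hF
  have ha1 : a ≠ 1 := fun h => ha2 (by rw [h, one_pow])
  have ha0 : a ≠ 0 := fun h => by rw [h] at ha; simp [nm] at ha
  refine ⟨a, ha, ha1, (mul_eq_zero.1 (show (a - 1) * (a ^ 2 + a + 1) = 0 by
    linear_combination cube_of_ne_zero hF hq ha0)).resolve_left (sub_ne_zero.2 ha1)⟩

theorem qPow_two (hq : q = 2) (x : F) : qPow hF x = x ^ 2 := by rw [qPow_apply, hq]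

/-- Diagonal elements of the special unitary plane are powers of one of them. -/
theorem mat_two (hq : q = 2) (y : ↥(K hF 2)) :
    (IsDiag hF y) ∨ (mat hF y 0 0 = 0 ∧ mat hF y 1 1 = 0 ∧ mat hF y 1 0 ≠ 0 ∧ y * y = 1) := by
  obtain ⟨e11, e10, en⟩ := mat_entries hF y
  by_cases h : mat hF y 1 0 = 0
  · exact Or.inl (isDiag_of_col hF h)
  have h2 := two_eq_zero_two hF hq
  rw [nm_one hF hq h] at en
  have h00 : mat hF y 0 0 = 0 := nm_eq_zero hF (by linear_combination en)
  have h11 : mat hF y 1 1 = 0 := by rw [e11, h00, map_zero]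
  refine Or.inr ⟨h00, h11, h, mat_injective hF ?_⟩
  have hd := det_mat hF y
  rw [Matrix.det_fin_two, h00, zero_mul, zero_sub] at hd
  rw [map_mul, map_one]
  ext i j
  fin_cases i <;> fin_cases j <;> simp [Matrix.mul_apply, Fin.sum_univ_two, h00, h11]
  · linear_combination hd + (mat hF y 0 1 * mat hF y 1 0) * h2
  · linear_combination hd + (mat hF y 0 1 * mat hF y 1 0) * h2

variable {hF}

theorem isDiag_of_cube (hq : q = 2) {y : ↥(K hF 2)} (hy : y ^ 3 = 1) : IsDiag hF y := by
  rcases mat_two hF hq y with h | ⟨h00, -, -, hsq⟩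
  · exact h
  · rw [pow_succ, pow_two, hsq, one_mul] at hy
    rw [hy, map_one] at h00
    simp at h00

/-- The relation between the tori of the two planes. -/
theorem swap_tori {y t : ↥(K hF 2)} (hy : IsDiag hF y) (ht0 : mat hF t 0 0 = 0)
    (ht1 : mat hF t 1 1 = 0) :
    ini hF 2 3 (by omega) t * tl hF 2 y =
        ini hF 2 3 (by omega) y * tl hF 2 y * ini hF 2 3 (by omega) t ∧
      tl hF 2 t * ini hF 2 3 (by omega) y =
        ini hF 2 3 (by omega) y * tl hF 2 y * tl hF 2 t := by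
  have hm : mat hF y = Matrix.diagonal fun i => mat hF y i i := by
    ext i j; fin_cases i <;> fin_cases j <;> simp [hy.1, hy.2]
  have hy11 := (mat_entries hF y).1
  have hprod : mat hF y 0 0 * mat hF y 1 1 = 1 := by
    have := det_mat hF y
    rw [Matrix.det_fin_two, hy.1, zero_mul, sub_zero] at this
    exact this
  have hI := mat_ini_diag hm
  have hT := mat_tl_diag hm
  have hIT : mat hF (ini hF 2 3 (by omega) y * tl hF 2 y) =
      Matrix.diagonal ![mat hF y 0 0, 1, mat hF y 1 1] := by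
    rw [map_mul, hI, hT, Matrix.diagonal_mul_diagonal]
    congr 1; funext i; fin_cases i
    · exact mul_one _
    · show mat hF y 1 1 * mat hF y 0 0 = 1
      rw [mul_comm, hprod]
    · exact one_mul _
  have act : ∀ {z : ↥(K hF 3)} {s : Fin 3 → F}, mat hF z = Matrix.diagonal s → ∀ v : Fin 3 → F,
      z • v = fun i => s i * v i := fun h v => smul_of_diagonal h v
  have tA : ∀ v : Fin 2 → F, t • v = ![mat hF t 0 1 * v 1, mat hF t 1 0 * v 0] := fun v => by
    rw [← mulVec_mat]
    funext i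
    fin_cases i <;> simp [Matrix.mulVec, dotProduct, Fin.sum_univ_two, ht0, ht1]
  constructor
  · refine K_ext hF fun v => ?_
    rw [mul_smul (ini hF 2 3 _ t) (tl hF 2 y) v, mul_smul _ (ini hF 2 3 _ t) v, act hT, act hIT]
    funext j
    fin_cases j
    · rw [show ((⟨0, by omega⟩ : Fin 3)) = Fin.castLEEmb (show 2 ≤ 3 by omega) 0 from rfl, emb_in,
        tA]
      show mat hF t 0 1 * (mat hF y 0 0 * v 1) = mat hF y 0 0 * _
      rw [emb_in, tA]
      show mat hF t 0 1 * (mat hF y 0 0 * v 1) = mat hF y 0 0 * (mat hF t 0 1 * v 1)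
      ring
    · rw [show ((⟨1, by omega⟩ : Fin 3)) = Fin.castLEEmb (show 2 ≤ 3 by omega) 1 from rfl, emb_in,
        tA]
      show mat hF t 1 0 * (1 * v 0) = 1 * _
      rw [emb_in, tA]
      show mat hF t 1 0 * (1 * v 0) = 1 * (mat hF t 1 0 * v 0)
      ring
    · rw [show ((⟨2, by omega⟩ : Fin 3)) = (2 : Fin 3) from rfl,
        emb_off hF _ _ _ (fun i => Fin.ne_of_val_ne (by simp; omega))]
      show mat hF y 1 1 * v 2 = mat hF y 1 1 * _
      rw [emb_off hF _ _ _ (fun i => Fin.ne_of_val_ne (by simp; omega))]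
  · refine K_ext hF fun v => ?_
    rw [mul_smul (tl hF 2 t) (ini hF 2 3 _ y) v, mul_smul _ (tl hF 2 t) v, act hI, act hIT]
    funext j
    fin_cases j
    · rw [show ((⟨0, by omega⟩ : Fin 3)) = (0 : Fin 3) from rfl,
        emb_off hF _ _ _ (fun i => Fin.succ_ne_zero i)]
      show mat hF y 0 0 * v 0 = mat hF y 0 0 * _
      rw [emb_off hF _ _ _ (fun i => Fin.succ_ne_zero i)]
    · rw [show ((⟨1, by omega⟩ : Fin 3)) = Fin.succEmb 2 0 from rfl, emb_in, tA]
      show mat hF t 0 1 * (1 * v 2) = 1 * _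
      rw [emb_in, tA]
      show mat hF t 0 1 * (1 * v 2) = 1 * (mat hF t 0 1 * v 2)
      ring
    · rw [show ((⟨2, by omega⟩ : Fin 3)) = Fin.succEmb 2 1 from rfl, emb_in, tA]
      show mat hF t 1 0 * (mat hF y 1 1 * v 1) = mat hF y 1 1 * _
      rw [emb_in, tA]
      show mat hF t 1 0 * (mat hF y 1 1 * v 1) = mat hF y 1 1 * (mat hF t 1 0 * v 1)
      ring

theorem smul_E_diag {n : ℕ} {z : ↥(K hF n)} {t : Fin n → F} (ht : mat hF z = Matrix.diagonal t)
    (i : Fin n) : z • (E i : Fin n → F) = t i • E i := by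
  rw [smul_of_diagonal ht]
  funext j
  by_cases h : j = i
  · subst h; simp
  · simp [E, Pi.single_eq_of_ne h]

/-- An element of order four with a full first column. -/
theorem exists_fourier (hq : q = 2) :
    ∃ g : ↥(K hF 3), g ^ 4 = 1 ∧ ∀ i, mat hF g i 0 = 1 := by
  obtain ⟨a, -, -, ha⟩ := exists_omega hF hq
  have h2 := two_eq_zero_two hF hq
  set M : Matrix (Fin 3) (Fin 3) F := !![1, 1, 1; 1, a, a ^ 2; 1, a ^ 2, a] with hM
  have hdet : M.det = 1 := by
    rw [hM, Matrix.det_fin_three]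
    simp
    grind
  have hMM : M * M = !![1, 0, 0; 0, 0, 1; 0, 1, 0] := by
    ext i j
    fin_cases i <;> fin_cases j <;> simp [hM, Matrix.mul_apply, Fin.sum_univ_three] <;> grind
  have h4 : M ^ 4 = 1 := by
    rw [show (4 : ℕ) = 2 * 2 from rfl, pow_mul, pow_two, pow_two, hMM]
    ext i j
    fin_cases i <;> fin_cases j <;> simp [Matrix.mul_apply, Fin.sum_univ_three]
  let L : (Fin 3 → F) ≃ₗ[F] (Fin 3 → F) :=
    { toFun := fun v => M *ᵥ v
      invFun := fun v => M ^ 3 *ᵥ v
      map_add' := fun v w => Matrix.mulVec_add M v w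
      map_smul' := fun c v => Matrix.mulVec_smul M c v
      left_inv := fun v => by
        show M ^ 3 *ᵥ (M *ᵥ v) = v
        rw [Matrix.mulVec_mulVec, ← pow_succ, h4, Matrix.one_mulVec]
      right_inv := fun v => by
        show M *ᵥ (M ^ 3 *ᵥ v) = v
        rw [Matrix.mulVec_mulVec, ← pow_succ', h4, Matrix.one_mulVec] }
  have hiso : ∀ u v, (stdHerm hF 3).h (L u) (L v) = (stdHerm hF 3).h u v := by
    intro u v
    show Cfsg.hermForm 3 F q (M *ᵥ u) (M *ᵥ v) = Cfsg.hermForm 3 F q u v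
    simp only [Cfsg.hermForm, Fin.sum_univ_three, ← qPow_apply hF, Matrix.mulVec, dotProduct]
    simp [hM, qPow_two hF hq]
    grind
  refine ⟨⟨⟨L, hiso⟩, ?_⟩, ?_, fun i => ?_⟩
  · rw [MonoidHom.mem_ker]
    apply Units.ext
    show ((LinearEquiv.det L : Fˣ) : F) = 1
    rw [LinearEquiv.coe_det, show (L : (Fin 3 → F) →ₗ[F] Fin 3 → F) = Matrix.toLin' M from
      LinearMap.ext fun v => (Matrix.toLin'_apply M v).symm, LinearMap.det_toLin', hdet]
  · apply mat_injective hF
    rw [map_pow, map_one, ← h4]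
    congr 1
    ext i j
    rw [mat_apply]
    show (M *ᵥ (E j : Fin 3 → F)) i = M i j
    rw [E, Matrix.mulVec_single_one]
    rfl
  · rw [mat_apply]
    show (M *ᵥ (E 0 : Fin 3 → F)) i = 1
    rw [E, Matrix.mulVec_single_one]
    fin_cases i <;> simp [hM]

theorem exists_ini_diag (hq : q = 2) {a : F} (ha : a ≠ 0) :
    ∃ y : ↥(K hF 2), mat hF (ini hF 2 3 (by omega) y) = Matrix.diagonal ![a, a⁻¹, 1] ∧
      mat hF (tl hF 2 y) = Matrix.diagonal ![1, a, a⁻¹] := by
  have hn := nm_one hF hq ha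
  obtain ⟨y, hy, h0, h1⟩ := exists_diag hF hn
  have hinv : qPow hF a = a⁻¹ := eq_inv_of_mul_eq_one_right hn
  have hm : mat hF y = Matrix.diagonal ![a, a⁻¹] := by
    ext i j
    fin_cases i <;> fin_cases j <;> simp [h0, h1, hy.1, hy.2, hinv]
  exact ⟨y, mat_ini_diag hm, mat_tl_diag hm⟩

/-- A subgroup containing both planes and all elements of order dividing four is everything. -/
theorem eq_top_of_blocks (hq : q = 2) {S : Subgroup ↥(K hF 3)}
    (h1 : ∀ y, ini hF 2 3 (by omega) y ∈ S) (h2 : ∀ y, tl hF 2 y ∈ S)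
    (h4 : ∀ g : ↥(K hF 3), g ^ 4 = 1 → g ∈ S) : S = ⊤ := by
  refine eq_top_iff.2 fun x _ => ?_
  have hstab : ∀ z : ↥(K hF 3), z • (E 0 : Fin 3 → F) = E 0 → z ∈ S := fun z hz => by
    obtain ⟨y, rfl⟩ := Datum.exists_of_stab (k := 2) hz
    exact h2 y
  suffices hv : ∃ z ∈ S, z • (E 0 : Fin 3 → F) = x • E 0 by
    obtain ⟨z, hz, hzx⟩ := hv
    have h := hstab (z⁻¹ * x) (by rw [mul_smul, ← hzx, inv_smul_smul])
    rw [← mul_inv_cancel_left z x]
    exact S.mul_mem hz h
  set v := x • (E 0 : Fin 3 → F) with hv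
  have hsum : nm hF (v 0) + nm hF (v 1) + nm hF (v 2) = 1 := by
    have h := h_smul_K hF x (E 0) (E 0)
    rw [← hv, hh_E, if_pos rfl] at h
    simp only [hh, stdHerm_h, Cfsg.hermForm, Fin.sum_univ_three, ← qPow_apply hF] at h
    exact h
  obtain ⟨s, hs⟩ := Datum.exists_s2 (hF := hF)
  have h2z := two_eq_zero_two hF hq
  have h10 : (1 : F) ≠ 0 := one_ne_zero
  have hnm0 : nm hF (0 : F) = 0 := by simp [nm]
  have hEl : ∀ (w : F) (i : Fin 3), w ≠ 0 → ∃ z ∈ S, z • (E 0 : Fin 3 → F) = w • E i := by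
    intro w i hw
    obtain ⟨d, hdI, -⟩ := exists_ini_diag (hF := hF) hq hw
    have hsI : ini hF 2 3 (by omega) s • (E 0 : Fin 3 → F) = E 1 := by
      have h0 : (E 0 : Fin 3 → F) = ext0 (Fin.castLEEmb (show 2 ≤ 3 by omega)) (E 0) := by
        rw [ext0_E]; rfl
      rw [h0]
      show emb hF _ s • _ = _
      rw [emb_ext0, hs, ext0_E]; rfl
    have hsT : tl hF 2 s • (E 1 : Fin 3 → F) = E 2 := by
      have h0 : (E 1 : Fin 3 → F) = ext0 (Fin.succEmb 2) (E 0) := by rw [ext0_E]; rfl
      rw [h0]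
      show emb hF _ s • _ = _
      rw [emb_ext0, hs, ext0_E]; rfl
    have h0 : ini hF 2 3 (by omega) d • (E 0 : Fin 3 → F) = w • E 0 := smul_E_diag hdI 0
    fin_cases i
    · exact ⟨_, h1 d, h0⟩
    · exact ⟨_, S.mul_mem (h1 s) (h1 d), by rw [mul_smul, h0, smul_smul_K, hsI]; rfl⟩
    · exact ⟨_, S.mul_mem (h2 s) (S.mul_mem (h1 s) (h1 d)), by
        rw [mul_smul, mul_smul, h0, smul_smul_K, hsI, smul_smul_K, hsT]; rfl⟩
  by_cases a0 : v 0 = 0 <;> by_cases a1 : v 1 = 0 <;> by_cases a2 : v 2 = 0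
  all_goals simp only [a0, a1, a2, hnm0, nm_one hF hq, ne_eq, not_false_eq_true] at hsum
  all_goals first
    | (exfalso; exact h10 (by linear_combination -hsum))
    | (exfalso; exact h10 (by linear_combination h2z - hsum))
    | skip
  · obtain ⟨z, hz, hzE⟩ := hEl (v 2) 2 a2
    exact ⟨z, hz, hzE.trans (funext fun j => by fin_cases j <;> simp [E, a0, a1])⟩
  · obtain ⟨z, hz, hzE⟩ := hEl (v 1) 1 a1
    exact ⟨z, hz, hzE.trans (funext fun j => by fin_cases j <;> simp [E, a0, a2])⟩
  · obtain ⟨z, hz, hzE⟩ := hEl (v 0) 0 a0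
    exact ⟨z, hz, hzE.trans (funext fun j => by fin_cases j <;> simp [E, a1, a2])⟩
  · obtain ⟨g, hg4, hg⟩ := exists_fourier (hF := hF) hq
    set l := v 0 * v 1 * v 2 with hl
    have hl0 : l ≠ 0 := mul_ne_zero (mul_ne_zero a0 a1) a2
    set δ : Fin 3 → F := ![1, 1, l] with hδdef
    have hδ : ∀ i, nm hF (δ i) = 1 := fun i => by
      fin_cases i
      exacts [by simp [δ, nm], by simp [δ, nm], nm_one hF hq hl0]
    set g' := twist hF (RingEquiv.refl F) δ hδ g with hg'
    have hg'4 : g' ^ 4 = 1 := by rw [hg', ← map_pow, hg4, map_one]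
    obtain ⟨d, hdI, -⟩ := exists_ini_diag (hF := hF) hq a0
    obtain ⟨d', -, hdT⟩ := exists_ini_diag (hF := hF) hq (mul_ne_zero a0 a1)
    refine ⟨ini hF 2 3 (by omega) d * (tl hF 2 d' * g'),
      S.mul_mem (h1 d) (S.mul_mem (h2 d') (h4 g' hg'4)), ?_⟩
    rw [mul_smul, mul_smul, smul_of_diagonal hdI, smul_of_diagonal hdT]
    have hgc : ∀ i, (g' • (E 0 : Fin 3 → F)) i = δ i := fun i => by
      rw [← mat_apply, hg', mat_twist, Matrix.mul_diagonal, Matrix.diagonal_mul, Matrix.map_apply,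
        hg]
      simp [δ]
    funext i
    simp only [hgc]
    fin_cases i
    · simp [δ]
    · simp [δ]
      field_simp
    · simp [δ, hl]
      field_simp

/-- Automorphisms fixing both planes pointwise are trivial. -/
theorem rigid (hq : q = 2) (α : ↥(K hF 3) ≃* ↥(K hF 3))
    (h1 : ∀ y, α (ini hF 2 3 (by omega) y) = ini hF 2 3 (by omega) y)
    (h2 : ∀ y, α (tl hF 2 y) = tl hF 2 y) : ∀ x, α x = x := by
  set H := stdHerm hF 3 with hH
  let S : Subgroup ↥(K hF 3) :=
    { carrier := {x | α x = x}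
      one_mem' := map_one α
      mul_mem' := fun {x y} hx hy => by
        show α (x * y) = x * y
        rw [map_mul, hx, hy]
      inv_mem' := fun {x} hx => by
        show α x⁻¹ = x⁻¹
        rw [map_inv, hx] }
  have h2z := two_eq_zero_two hF hq
  have hcond : ∀ v : Fin 3 → F, hh hF v v = 0 → ShearCond H v 1 := fun v hv => by
    unfold ShearCond
    rw [show H.h v v = 0 from hv, map_one]
    linear_combination h2z
  let T : ∀ v : Fin 3 → F, hh hF v v = 0 → ↥(K hF 3) := fun v hv =>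
    ⟨shear H v 1 (hcond v hv), by
      rw [MonoidHom.mem_ker]
      apply Units.ext
      rw [detHom_shear, show H.h v v = 0 from hv, mul_zero, add_zero, Units.val_one]⟩
  have hTapp : ∀ (v : Fin 3 → F) (hv : hh hF v v = 0) (x : Fin 3 → F),
      T v hv • x = x + hh hF x v • v := fun v hv x => by
    show (shear H v 1 (hcond v hv)).1 x = _
    rw [shear_apply, one_mul]
  have hTconj : ∀ (g : ↥(K hF 3)) (v : Fin 3 → F) (hv : hh hF v v = 0),
      g * T v hv * g⁻¹ = T (g • v) (by rw [h_smul_K]; exact hv) := by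
    intro g v hv
    refine K_ext hF fun x => ?_
    rw [mul_smul, mul_smul, hTapp _ hv, hTapp _ (by rw [h_smul_K]; exact hv), smul_add_K, smul_smul_K, smul_inv_smul]
    congr 2
    have h := h_smul_K hF g (g⁻¹ • x) v
    rw [smul_inv_smul] at h
    exact h.symm
  have hT : ∀ (v : Fin 3 → F) (hv : hh hF v v = 0), T v hv ∈ S := by
    have hoff2 : ∀ (v : Fin 3 → F) (hv : hh hF v v = 0), v 2 = 0 → T v hv ∈ S := by
      intro v hv h
      obtain ⟨y, hy⟩ := (range_ini2 hF).ge (show T v hv ∈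
          MulAction.stabilizer ↥(K hF 3) (E 2 : Fin 3 → F) by
        rw [MulAction.mem_stabilizer_iff, hTapp _ hv, hh_E_left, h,
          zero_pow (by have := two_le_of_card hF; omega), zero_smul, add_zero])
      rw [← hy]; exact h1 y
    have hoff0 : ∀ (v : Fin 3 → F) (hv : hh hF v v = 0), v 0 = 0 → T v hv ∈ S := by
      intro v hv h
      obtain ⟨y, hy⟩ := (range_tl2 hF).ge (show T v hv ∈
          MulAction.stabilizer ↥(K hF 3) (E 0 : Fin 3 → F) by
        rw [MulAction.mem_stabilizer_iff, hTapp _ hv, hh_E_left, h,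
          zero_pow (by have := two_le_of_card hF; omega), zero_smul, add_zero])
      rw [← hy]; exact h2 y
    intro v hv
    by_cases a2 : v 2 = 0
    · exact hoff2 v hv a2
    by_cases a0 : v 0 = 0
    · exact hoff0 v hv a0
    have a1 : v 1 = 0 := by
      by_contra a1
      have hv' := hv
      simp only [hh, stdHerm_h, Cfsg.hermForm, Fin.sum_univ_three, ← qPow_apply hF] at hv'
      change nm hF (v 0) + nm hF (v 1) + nm hF (v 2) = 0 at hv'
      rw [nm_one hF hq a0, nm_one hF hq a1, nm_one hF hq a2] at hv'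
      exact one_ne_zero (α := F) (by linear_combination hv' - h2z)
    obtain ⟨s, hs⟩ := Datum.exists_s2 (hF := hF)
    set g := ini hF 2 3 (by omega) s with hg
    have hgS : g ∈ S := h1 s
    have hs00 : mat hF s 0 0 = 0 := by rw [mat_apply, hs]; simp [E]
    have hw0 : (g⁻¹ • v) 0 = 0 := by
      rw [hg, ← map_inv]
      show (emb hF _ s⁻¹ • v) (Fin.castLEEmb (show 2 ≤ 3 by omega) 0) = 0
      rw [emb_in, ← mulVec_mat]
      have hsi : mat hF s⁻¹ 0 0 = 0 := by
        rcases mat_two hF hq s with h | ⟨-, -, -, hsq⟩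
        · have := mat_entries hF s
          rw [hs00, h.2] at this
          simp [nm] at this
        · rw [inv_eq_of_mul_eq_one_right hsq, hs00]
      simp [Matrix.mulVec, dotProduct, Fin.sum_univ_two, hsi]
      exact Or.inr a1
    have h := hTconj g (g⁻¹ • v) (by rw [h_smul_K]; exact hv)
    simp only [smul_inv_smul] at h
    rw [← h]
    exact S.mul_mem (S.mul_mem hgS (hoff0 _ (by rw [h_smul_K]; exact hv) hw0)) (S.inv_mem hgS)
  have hfix : ∀ x, x⁻¹ * α x ∈ Subgroup.center ↥(K hF 3) := by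
    intro x
    set y := x⁻¹ * α x with hy
    obtain ⟨e, f, p⟩ := exists_pair_std hF (show 3 ≤ 3 by omega)
    have hlines : ∀ u, u ≠ 0 → H.h u u = 0 → ∃ c : F, y.1.1 u = c • u := by
      intro u hu0 hu
      have h1' : α x * T u hu * (α x)⁻¹ = x * T u hu * x⁻¹ := by
        have h : α (x * T u hu * x⁻¹) = x * T u hu * x⁻¹ := by
          rw [hTconj _ _ hu]
          exact hT (x • u) (by rw [h_smul_K]; exact hu)
        rw [map_mul, map_mul, map_inv, show α (T u hu) = T u hu from hT u hu] at h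
        exact h
      have h2' : y * T u hu * y⁻¹ = T u hu := by
        calc y * T u hu * y⁻¹ = x⁻¹ * (α x * T u hu * (α x)⁻¹) * x := by rw [hy]; group
          _ = T u hu := by rw [h1']; group
      rw [hTconj _ _ hu] at h2'
      obtain ⟨z, hz⟩ := H.exists_h_one hu0
      have h3 := congrArg (fun k : ↥(K hF 3) => k • z) h2'
      simp only [hTapp _ hu, hTapp _ (show hh hF (y • u) (y • u) = 0 by rw [h_smul_K]; exact hu), add_right_inj] at h3
      rw [show hh hF z u = 1 from hz, one_smul] at h3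
      have hne : hh hF z (y • u) ≠ 0 := fun h0 => hu0 (by rw [← h3, h0, zero_smul])
      refine ⟨(hh hF z (y • u))⁻¹, ?_⟩
      show y • u = (hh hF z (y • u))⁻¹ • u
      rw [eq_inv_smul_iff₀ hne, h3]
    obtain ⟨μ, -, hμ⟩ := scalar_of_fix_lines (big_std hF le_rfl) p y.1 hlines
    refine central_of_scalar (c := μ) ?_
    ext i j
    rw [mat_apply]
    show (y.1.1 (E j : Fin 3 → F)) i = _
    rw [hμ]
    by_cases h : i = j
    · subst h; simp [E]
    · simp [E, Pi.single_eq_of_ne h, h]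
  have hS : S = ⊤ := by
    refine eq_top_of_blocks hq h1 h2 fun g hg => ?_
    have hc := hfix g
    set c := g⁻¹ * α g with hcdef
    have hαg : α g = g * c := by rw [hcdef]; group
    have hc4 : c ^ 4 = 1 := by
      have hcm : Commute g c := Subgroup.mem_center_iff.1 hc g
      have h := congrArg α hg
      rw [map_pow, map_one, hαg, hcm.mul_pow, hg, one_mul] at h
      exact h
    have hc3 : c ^ 3 = 1 := by
      have hcard : Nat.card (Subgroup.center ↥(K hF 3)) = 3 := by
        rw [Nat.card_congr (Subgroup.centerCongr (suEquiv hF 3)).symm.toEquiv,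
          card_center_su hF (by omega), hq]
        rfl
      have h := pow_card_eq_one' (x := (⟨c, hc⟩ : Subgroup.center ↥(K hF 3)))
      rw [hcard] at h
      exact congrArg Subtype.val h
    show α g = g
    rw [hαg, show c = c ^ 4 * (c ^ 3)⁻¹ by group, hc4, hc3]
    group
  intro x
  have : x ∈ S := by rw [hS]; trivial
  exact this

end CfsgLib.Phan
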