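import Cfsg.Agent.Lib.Phan.TwoBase

/-!
Frames of pairs of commuting tori over the field with four elements.
-/

set_option autoImplicit false
set_option maxHeartbeats 800000
set_option synthInstance.maxHeartbeats 100000

namespace CfsgLib.Phan

open Module CfsgLib.Classical.Herm HermSpace
open scoped Matrix

variable {F : Type*} [Field F] [Fintype F] {q : ℕ} {hF : Fintype.card F = q ^ 2} {n : ℕ}

/-- The projection of a vector to an eigenspace of an element of order three. -/
noncomputable def comp3 (z : ↥(K hF n)) (μ : F) (x : Fin n → F) : Fin n → F :=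
  x + μ ^ 2 • z • x + μ • z • z • x

theorem comp3_eigen {z : ↥(K hF n)} (hz : z ^ 3 = 1) {μ : F} (hμ : μ ^ 3 = 1) (x : Fin n → F) :
    z • comp3 z μ x = μ • comp3 z μ x := by
  have h3 : z • z • z • x = x := by
    rw [← mul_smul, ← mul_smul, show z * z * z = z ^ 3 by rw [pow_succ, pow_two], hz, one_smul]
  rw [comp3, smul_add_K, smul_add_K, smul_smul_K, smul_smul_K, h3, smul_add, smul_add, smul_smul,
    smul_smul, show μ * μ ^ 2 = 1 by rw [← pow_succ', hμ], one_smul, ← pow_two, pow_two μ, mul_smul μ μ]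
  abel

theorem comp3_smul_comm {z g : ↥(K hF n)} (h : Commute g z) (μ : F) (x : Fin n → F) :
    g • comp3 z μ x = comp3 z μ (g • x) := by
  have e : ∀ v : Fin n → F, g • z • v = z • g • v := fun v => by rw [← mul_smul, h.eq, mul_smul]
  simp only [comp3, smul_add_K, smul_smul_K, e]

theorem comp3_sum (z : ↥(K hF n)) (μ : F) (x y w : Fin n → F) :
    comp3 z μ x + comp3 z μ y + comp3 z μ w = comp3 z μ (x + y + w) := by
  simp only [comp3, smul_add_K, smul_add]
  abel

/-- Some component of an anisotropic vector is anisotropic. -/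
theorem exists_comp3 (hq : q = 2) (z : ↥(K hF n)) (hz : z ^ 3 = 1) {x : Fin n → F}
    (hx : hh hF x x ≠ 0) : ∃ μ : F, μ ^ 3 = 1 ∧ hh hF (comp3 z μ x) (comp3 z μ x) ≠ 0 := by
  set H := stdHerm hF n with hH
  obtain ⟨w, hw, -, hw2⟩ := exists_omega hF hq
  have h2 := two_eq_zero_two hF hq
  have hw3 : w ^ 3 = 1 := by linear_combination (w - 1) * hw2
  have hcw : H.conj w = w ^ 2 := qPow_two hF hq w
  by_contra hcon
  push Not at hcon
  have e1 := hcon 1 (one_pow 3)
  have e2 := hcon w hw3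
  have e3 := hcon (w ^ 2) (by rw [← pow_mul, show 2 * 3 = 3 * 2 from rfl, pow_mul, hw3, one_pow])
  have hzz : z • z • z • x = x := by
    rw [← mul_smul, ← mul_smul, show z * z * z = z ^ 3 by rw [pow_succ, pow_two], hz, one_smul]
  have a00 : H.h (z • x) (z • x) = H.h x x := h_smul_K hF z x x
  have a11 : H.h (z • z • x) (z • z • x) = H.h x x := by
    rw [show H.h (z • z • x) (z • z • x) = H.h (z • x) (z • x) from h_smul_K hF z _ _, a00]
  simp only [comp3, hh, one_pow, one_smul] at e1 e2 e3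
  simp only [← hH, H.add_left, H.add_right, H.smul_left, H.smul_right, map_pow, hcw, a00, a11]
    at e1 e2 e3
  refine hx ?_
  show H.h x x = 0
  grind

/-- A unit eigenvector of two commuting elements of order three, with different eigenvalues. -/
theorem exists_unit_eigen (hq : q = 2) {a b : ↥(K hF n)} (ha : a ^ 3 = 1) (hb : b ^ 3 = 1)
    (hab : Commute a b) (hne : a ≠ b) :
    ∃ (v : Fin n → F) (μ β : F), hh hF v v = 1 ∧ μ ^ 3 = 1 ∧ β ^ 3 = 1 ∧ μ ≠ β ∧
      a • v = μ • v ∧ b • v = β • v := by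
  set H := stdHerm hF n with hH
  obtain ⟨w, hw, hw1, hw2⟩ := exists_omega hF hq
  have h2 := two_eq_zero_two hF hq
  set g := a * b⁻¹ with hg
  have hab' : Commute a b⁻¹ := hab.inv_right
  have hg3 : g ^ 3 = 1 := by rw [hg, hab'.mul_pow, inv_pow, ha, hb, inv_one, one_mul]
  have hgg : ∀ x : Fin n → F, g • g • g • x = x := fun x => by
    rw [← mul_smul, ← mul_smul, show g * g * g = g ^ 3 by rw [pow_succ, pow_two], hg3, one_smul]
  obtain ⟨x', hx', hsum⟩ : ∃ x' : Fin n → F, hh hF x' x' ≠ 0 ∧ x' + g • x' + g • g • x' = 0 := by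
    by_contra hcon
    push Not at hcon
    set N := fun x : Fin n → F => g • x - x with hN
    have hgsub : ∀ x y : Fin n → F, g • (x - y) = g • x - g • y := fun x y => map_sub g.1.1 x y
    have hNsum : ∀ x, N x + g • N x + g • g • N x = 0 := fun x => by
      simp only [hN, hgsub, hgg]; abel
    have hiso : ∀ x, H.h (N x) (N x) = 0 := fun x => by
      by_contra h
      exact hcon _ h (hNsum x)
    have hNlin : ∀ (x y : Fin n → F) (c : F), N (x + c • y) = N x + c • N y := fun x y c => by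
      simp only [hN, smul_add_K, smul_smul_K, smul_sub]; abel
    have hpol : ∀ x y, H.h (N x) (N y) = 0 := by
      intro x y
      have p1 := hiso (x + (1 : F) • y)
      have p2 := hiso (x + w • y)
      rw [hNlin] at p1 p2
      simp only [H.add_left, H.add_right, H.smul_left, H.smul_right, map_one, one_mul, hiso,
        mul_zero, add_zero, zero_add] at p1 p2
      have hcw : H.conj w = w ^ 2 := qPow_two hF hq w
      rw [hcw] at p2
      grind
    apply hne
    have hg1 : g = 1 := by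
      refine K_ext hF fun x => ?_
      rw [one_smul]
      refine sub_eq_zero.1 (H.nondeg _ fun z => ?_)
      set P := z + g • z + g • g • z with hP
      have hgP : g • P = P := by
        rw [hP, smul_add_K, smul_add_K, hgg]; abel
      have hperp : H.h (N x) P = 0 := by
        have h := h_smul_K hF g x P
        rw [hgP] at h
        simp only [hN, H.sub_left]
        exact sub_eq_zero.2 h
      have hz : z = P + (N (z + g • z + z)) + (2 : F) • (z - g • z - g • g • z) := by
        simp only [hP, hN, smul_add_K, two_smul]; abel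
      rw [h2, zero_smul, add_zero] at hz
      show H.h (N x) z = 0
      rw [hz, H.add_right, hperp, hpol, add_zero]
    rw [hg, mul_inv_eq_one] at hg1
    exact hg1
  have hga : Commute g a := (Commute.refl a).mul_left hab.symm.inv_left
  obtain ⟨μ, hμ, hy⟩ := exists_comp3 hq a ha hx'
  set y := comp3 a μ x' with hydef
  have hay : a • y = μ • y := comp3_eigen ha hμ x'
  have hsy : y + g • y + g • g • y = 0 := by
    rw [hydef, comp3_smul_comm hga, comp3_smul_comm hga, comp3_sum, hsum, comp3]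
    simp [show a • (0 : Fin n → F) = 0 from map_zero a.1.1]
  obtain ⟨ν, hν, hz⟩ := exists_comp3 hq g hg3 hy
  set v0 := comp3 g ν y with hv0
  have hgv : g • v0 = ν • v0 := comp3_eigen hg3 hν y
  have hav : a • v0 = μ • v0 := by
    rw [hv0, comp3_smul_comm hga.symm, hay]
    simp only [comp3, smul_smul_K, smul_add]
    rw [smul_comm (ν ^ 2) μ, smul_comm ν μ]
  have hν1 : ν ≠ 1 := by
    intro h
    apply hz
    rw [hv0, comp3, h, one_pow, one_smul, one_smul, hsy]
    exact H.zero_left _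
  have hν0 : ν ≠ 0 := fun h => by rw [h] at hν; simp at hν
  obtain ⟨c, -, hc⟩ := exists_unit_scale hF hz
  have hbv : b • v0 = (ν⁻¹ * μ) • v0 := by
    have h : g⁻¹ • v0 = ν⁻¹ • v0 := by
      rw [inv_smul_eq_iff, smul_smul_K, hgv, smul_smul, inv_mul_cancel₀ hν0, one_smul]
    rw [show b = g⁻¹ * a by rw [hg]; group, mul_smul, hav, smul_smul_K, h, smul_smul, mul_comm]
  refine ⟨c • v0, μ, ν⁻¹ * μ, hc, hμ, by rw [mul_pow, inv_pow, hν, hμ, inv_one, one_mul], ?_,
    by rw [smul_smul_K, hav, smul_comm], by rw [smul_smul_K, hbv, smul_comm]⟩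
  intro h
  have hμ0 : μ ≠ 0 := fun h0 => by rw [h0] at hμ; simp at hμ
  apply hν1
  have : ν⁻¹ = 1 := mul_right_cancel₀ hμ0 (by rw [one_mul, ← h])
  exact inv_eq_one.1 this

/-- Eigenvectors for different eigenvalues are orthogonal. -/
theorem orth_of_eigen (hq : q = 2) {g : ↥(K hF n)} {v w : Fin n → F} {μ μ' : F} (hμ' : μ' ^ 3 = 1)
    (hv : g • v = μ • v) (hw : g • w = μ' • w) (hne : μ ≠ μ') : hh hF v w = 0 := by
  set H := stdHerm hF n
  have h := h_smul_K hF g v w
  rw [hv, hw] at h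
  change H.h (μ • v) (μ' • w) = H.h v w at h
  rw [H.smul_left, H.smul_right, show H.conj μ' = μ' ^ 2 from qPow_two hF hq μ'] at h
  show H.h v w = 0
  by_contra hv0
  refine hne ?_
  have h1 : μ * μ' ^ 2 = 1 := mul_right_cancel₀ hv0 (by linear_combination h)
  calc μ = μ * μ' ^ 3 := by rw [hμ', mul_one]
    _ = (μ * μ' ^ 2) * μ' := by ring
    _ = μ' := by rw [h1, one_mul]

/-- Three eigenvectors determine a diagonal element. -/
theorem diag_four {g : ↥(K hF 4)} {t : Fin 4 → F} (h : ∀ i : Fin 4, i ≠ 3 → g • (E i : Fin 4 → F) = t i • E i)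
    (ht : t 0 * t 1 * t 2 = 1) (ht3 : t 3 = 1) : mat hF g = Matrix.diagonal t := by
  have hne : ∀ i : Fin 4, i ≠ 3 → t i ≠ 0 := by
    intro i hi h0
    fin_cases i
    · simp [show t 0 = 0 from h0] at ht
    · simp [show t 1 = 0 from h0] at ht
    · simp [show t 2 = 0 from h0] at ht
    · exact hi rfl
  have hoff : ∀ i j : Fin 4, i ≠ j → mat hF g i j = 0 := by
    intro i j hij
    by_cases hj : j = 3
    · subst hj
      have h' := h_smul_K hF g (E i) (E 3)
      rw [h i hij, show hh hF (t i • (E i : Fin 4 → F)) (g • E 3) = t i * hh hF (E i) (g • E 3) from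
        (stdHerm hF 4).smul_left _ _ _, hh_E_left, hh_E_left, ← mat_apply,
        show (E 3 : Fin 4 → F) i = 0 from E_apply_ne (Ne.symm hij).symm,
        zero_pow (by have := two_le_of_card hF; omega)] at h'
      exact eq_zero_of_pow_eq_zero ((mul_eq_zero.1 h').resolve_left (hne i hij))
    · rw [mat_apply, h j hj]
      simp [E, Pi.single_eq_of_ne hij]
  have hd : mat hF g = Matrix.diagonal fun i => mat hF g i i := by
    ext i j
    by_cases hij : i = j
    · subst hij; simp
    · simp [hoff i j hij, hij]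
  have hdi : ∀ i : Fin 4, i ≠ 3 → mat hF g i i = t i := fun i hi => by
    rw [mat_apply, h i hi]; simp [E]
  have hdet := det_mat hF g
  rw [hd, Matrix.det_diagonal, Fin.prod_univ_four, hdi 0 (by decide), hdi 1 (by decide),
    hdi 2 (by decide), ht, one_mul] at hdet
  rw [hd]
  congr 1
  funext i
  by_cases hi : i = 3
  · subst hi; rw [hdet, ht3]
  · exact hdi i hi

theorem cube_root_cases (hq : q = 2) (hF : Fintype.card F = q ^ 2) {μ β : F} (hμ : μ ^ 3 = 1)
    (hμ1 : μ ≠ 1) (hβ : β ^ 3 = 1) (hβ1 : β ≠ 1) (hne : β ≠ μ) : β = μ ^ 2 := by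
  have e1 : μ ^ 2 + μ + 1 = 0 := (mul_eq_zero.1 (show (μ - 1) * (μ ^ 2 + μ + 1) = 0 by
    linear_combination hμ)).resolve_left (sub_ne_zero.2 hμ1)
  have e2 : β ^ 2 + β + 1 = 0 := (mul_eq_zero.1 (show (β - 1) * (β ^ 2 + β + 1) = 0 by
    linear_combination hβ)).resolve_left (sub_ne_zero.2 hβ1)
  refine sub_eq_zero.1 ((mul_eq_zero.1 (show (β - μ) * (β - μ ^ 2) = 0 by
    linear_combination e2 - β * e1 + hμ)).resolve_left (sub_ne_zero.2 hne))

/-- Normal form of the tori of a triple. -/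
theorem exists_frame_two (hq : q = 2) {a b sa sb : ↥(K hF 4)} (ha : a ^ 3 = 1) (hb : b ^ 3 = 1)
    (hab : Commute a b) (hne : a ≠ b) (hsa : sa * a = a⁻¹ * sa) (hsab : sa * b = a * b * sa)
    (hsba : sb * a = a * b * sb) (hsb : sb * b = b⁻¹ * sb) (hsa2 : sa * sa = 1)
    (hsb2 : sb * sb = 1) :
    ∃ (k : ↥(K hF 4)) (μ : F), μ ^ 3 = 1 ∧ μ ≠ 1 ∧
      mat hF (k⁻¹ * a * k) = Matrix.diagonal ![μ, μ ^ 2, 1, 1] ∧
      mat hF (k⁻¹ * b * k) = Matrix.diagonal ![1, μ, μ ^ 2, 1] := by
  have hinv : ∀ {g : ↥(K hF 4)} {v : Fin 4 → F} {x : F}, x ^ 3 = 1 → g • v = x • v →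
      g⁻¹ • v = x ^ 2 • v := by
    intro g v x hx h
    rw [inv_smul_eq_iff, smul_smul_K, h, smul_smul, ← pow_succ, hx, one_smul]
  have acta : ∀ {v : Fin 4 → F} {x y : F}, x ^ 3 = 1 → a • v = x • v → b • v = y • v →
      a • (sa • v) = x ^ 2 • (sa • v) ∧ b • (sa • v) = (x * y) • (sa • v) := by
    intro v x y hx h1 h2
    constructor
    · rw [← mul_smul, show a * sa = sa * a⁻¹ from ?_, mul_smul, hinv hx h1, smul_smul_K]
      calc a * sa = a * (sa * a) * a⁻¹ := by group
        _ = sa * a⁻¹ := by rw [hsa]; group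
    · rw [← mul_smul, show b * sa = sa * (a * b) from ?_, mul_smul, mul_smul, h2, smul_smul_K, h1,
        smul_smul, smul_smul_K, mul_comm]
      calc b * sa = a⁻¹ * (a * b * sa) := by group
        _ = (a⁻¹ * sa) * b := by rw [← hsab]; group
        _ = sa * (a * b) := by rw [← hsa]; group
  have actb : ∀ {v : Fin 4 → F} {x y : F}, y ^ 3 = 1 → a • v = x • v → b • v = y • v →
      a • (sb • v) = (x * y) • (sb • v) ∧ b • (sb • v) = y ^ 2 • (sb • v) := by
    intro v x y hy h1 h2
    constructor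
    · have e : a * sb = sb * (a * b) := by
        calc a * sb = (sb * sb) * a * sb := by rw [hsb2, one_mul]
          _ = sb * (sb * a) * sb := by group
          _ = sb * (a * b) * (sb * sb) := by rw [hsba]; group
          _ = sb * (a * b) := by rw [hsb2, mul_one]
      rw [← mul_smul, e, mul_smul, mul_smul, h2, smul_smul_K, h1, smul_smul, smul_smul_K, mul_comm]
    · have e : b * sb = sb * b⁻¹ := by
        calc b * sb = b * (sb * b) * b⁻¹ := by group
          _ = sb * b⁻¹ := by rw [hsb]; group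
      rw [← mul_smul, e, mul_smul, hinv hy h2, smul_smul_K]
  obtain ⟨v, x, y, hv, hx, hy, hxy, h1, h2⟩ := exists_unit_eigen hq ha hb hab hne
  have hsq : ∀ {z : F}, z ^ 3 = 1 → (z ^ 2) ^ 3 = 1 := fun {z} hz => by
    rw [← pow_mul, show 2 * 3 = 3 * 2 from rfl, pow_mul, hz, one_pow]
  have hsq1 : ∀ {z : F}, z ^ 3 = 1 → z ≠ 1 → z ^ 2 ≠ 1 := fun {z} hz hz1 h => hz1 (by
    rw [pow_succ, h, one_mul] at hz; exact hz)
  obtain ⟨v0, μ, hv0, hμ, hμ1, ha0, hb0⟩ : ∃ (v0 : Fin 4 → F) (μ : F), hh hF v0 v0 = 1 ∧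
      μ ^ 3 = 1 ∧ μ ≠ 1 ∧ a • v0 = μ • v0 ∧ b • v0 = v0 := by
    rcases eq_or_ne y 1 with rfl | hy1
    · exact ⟨v, x, hv, hx, hxy, h1, by rw [h2, one_smul]⟩
    rcases eq_or_ne x 1 with rfl | hx1
    · obtain ⟨p1, p2⟩ := actb hy h1 h2
      rw [one_mul] at p1
      obtain ⟨r1, r2⟩ := acta hy p1 p2
      exact ⟨sa • sb • v, y ^ 2, by rw [h_smul_K, h_smul_K, hv], hsq hy, hsq1 hy hy1, r1,
        by rw [r2, ← pow_succ', hy, one_smul]⟩
    · obtain ⟨r1, r2⟩ := acta hx h1 h2
      refine ⟨sa • v, x ^ 2, by rw [h_smul_K, hv], hsq hx, hsq1 hx hx1, r1, ?_⟩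
      rw [r2, cube_root_cases hq hF hx hx1 hy hy1 hxy.symm, ← pow_succ', hx, one_smul]
  have hb0' : b • v0 = (1 : F) • v0 := by rw [one_smul]; exact hb0
  obtain ⟨ha1, hb1⟩ := acta hμ ha0 hb0'
  rw [mul_one] at hb1
  obtain ⟨ha2, hb2⟩ := actb hμ ha1 hb1
  rw [show μ ^ 2 * μ = 1 by rw [← pow_succ, hμ]] at ha2
  have hμ2 : μ ≠ μ ^ 2 := fun h => hμ1 (by
    have : μ ≠ 0 := fun h0 => by rw [h0] at hμ; simp at hμ
    exact mul_left_cancel₀ this (by rw [mul_one, ← pow_two]; exact h.symm))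
  obtain ⟨k, hk⟩ := exists_K_map hF (l := [(E 0 : Fin 4 → F), E 1, E 2])
    (l' := [v0, sa • v0, sb • sa • v0])
    ⟨Datum.on_E, fun v hv => by
        simp only [List.mem_cons, List.not_mem_nil, or_false] at hv
        rcases hv with rfl | rfl <;> exact Datum.E01 (by decide),
      Datum.on_E, fun v hv => by
        rw [List.mem_singleton.1 hv]; exact Datum.E01 (by decide),
      Datum.on_E, by simp, trivial⟩
    ⟨hv0, fun v hv => by
        simp only [List.mem_cons, List.not_mem_nil, or_false] at hv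
        rcases hv with rfl | rfl
        · exact orth_of_eigen hq (hsq hμ) ha0 ha1 hμ2
        · exact orth_of_eigen hq (one_pow 3) ha0 ha2 hμ1,
      by rw [h_smul_K]; exact hv0, fun v hv => by
        rw [List.mem_singleton.1 hv]
        exact orth_of_eigen hq (one_pow 3) ha1 ha2 (hsq1 hμ hμ1),
      by rw [h_smul_K, h_smul_K]; exact hv0, by simp, trivial⟩ rfl (by simp)
  simp only [List.map_cons, List.map_nil, List.cons.injEq, and_true] at hk
  obtain ⟨k0, k1, k2⟩ := hk
  have hcol : ∀ {g : ↥(K hF 4)} {i : Fin 4} {c : F} {v : Fin 4 → F}, k • (E i : Fin 4 → F) = v →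
      g • v = c • v → (k⁻¹ * g * k) • (E i : Fin 4 → F) = c • E i := by
    intro g i c v hi hg
    rw [mul_smul, mul_smul, hi, hg, smul_smul_K, inv_smul_eq_iff.2 hi.symm]
  refine ⟨k, μ, hμ, hμ1, diag_four (fun i hi => ?_) ?_ rfl, diag_four (fun i hi => ?_) ?_ rfl⟩
  · fin_cases i
    · exact hcol k0 ha0
    · exact hcol k1 ha1
    · exact hcol k2 ha2
    · exact absurd rfl hi
  · show μ * μ ^ 2 * 1 = 1
    rw [mul_one, ← pow_succ', hμ]
  · fin_cases i
    · exact hcol k0 hb0'
    · exact hcol k1 hb1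
    · exact hcol k2 hb2
    · exact absurd rfl hi
  · show 1 * μ * μ ^ 2 = 1
    rw [one_mul, ← pow_succ', hμ]

end CfsgLib.Phan
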