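import Cfsg.Agent.Lib.Phan.TwoTriple
import Cfsg.Agent.Lib.Phan.RecogThree

/-!
Matching four-dimensional identifications over the field with four elements.
-/

set_option autoImplicit false
set_option maxHeartbeats 800000
set_option synthInstance.maxHeartbeats 100000

namespace CfsgLib.Phan

open Module CfsgLib.Classical.Herm HermSpace
open scoped Matrix

variable {F : Type*} [Field F] [Fintype F] {q : ℕ} {hF : Fintype.card F = q ^ 2}

/-- A field automorphism of the field with four elements fixing a primitive element. -/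
theorem eq_refl_of_fix_two (hq : q = 2) {a : F} (ha1 : a ≠ 1) (ha2 : a ^ 2 + a + 1 = 0)
    {θ : F ≃+* F} (h : θ a = a) (hF' : Fintype.card F = q ^ 2) :
    θ = RingEquiv.refl F := by
  have ha3 : a ^ 3 = 1 := by linear_combination (a - 1) * ha2
  refine RingEquiv.ext fun x => ?_
  show θ x = x
  rcases eq_or_ne x 0 with rfl | h0
  · exact map_zero θ
  rcases eq_or_ne x 1 with rfl | h1
  · exact map_one θ
  rcases eq_or_ne x a with rfl | h2
  · exact h
  rw [cube_root_cases hq hF' ha3 ha1 (cube_of_ne_zero hF' hq h0) h1 h2, map_pow, h]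

/-- Adjusting an identification on the left-hand plane. -/
theorem left_twist_two (hq : q = 2) {G : Type*} [Group G] {V V' A B : Subgroup G}
    (P : PairHom hF V A B) (Q : PairHom hF V' A B) (h : ∀ y, P.g (tl hF 2 y) = Q.g (tl hF 2 y)) :
    ∃ (δ : Fin 2 → F) (hδ : ∀ i, nm hF (δ i) = 1), ∀ y, P.g (ini hF 2 3 (by omega) y) =
      Q.g (ini hF 2 3 (by omega) (twist hF (RingEquiv.refl F) δ hδ y)) := by
  obtain ⟨a, ha, ha1, ha2⟩ := exists_omega hF hq
  obtain ⟨d, hd, hd0, hd1⟩ := exists_diag hF ha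
  have hane : a ≠ qPow hF a := fun h0 => by
    rw [qPow_two hF hq] at h0
    have : (a - 1) * a = 0 := by linear_combination -h0
    rcases mul_eq_zero.1 this with h | h
    · exact ha1 (sub_eq_zero.1 h)
    · rw [h] at ha; simp [nm] at ha
  let eQ : ↥(K hF 2) ≃* ↥A := (MonoidHom.ofInjective Q.left_injective).trans
    (MulEquiv.subgroupCongr Q.left_eq)
  let eP : ↥(K hF 2) ≃* ↥A := (MonoidHom.ofInjective P.left_injective).trans
    (MulEquiv.subgroupCongr P.left_eq)
  set α : ↥(K hF 2) ≃* ↥(K hF 2) := eP.trans eQ.symm with hα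
  have hspec : ∀ y, Q.g (ini hF 2 3 (by omega) (α y)) = P.g (ini hF 2 3 (by omega) y) := fun y => by
    have h : eQ (α y) = eP y := eQ.apply_symm_apply _
    exact congrArg Subtype.val h
  have hdiag : ∀ y, IsDiag hF y → IsDiag hF (α y) := fun y hy => by
    rw [Q.diag_iff, hspec]
    exact (P.diag_iff y).1 hy
  have hαd := hdiag d hd
  obtain ⟨e11, -, en⟩ := mat_entries hF (α d)
  set a' := mat hF (α d) 0 0 with ha'def
  have ha' : nm hF a' = 1 := by
    rw [hαd.2] at en
    simpa [nm] using en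
  have hmd : ∀ (z : ↥(K hF 2)) (b : F), IsDiag hF z → mat hF z 0 0 = b →
      mat hF z 1 1 = qPow hF b → mat hF (ini hF 2 3 (by omega) z) =
        Matrix.diagonal ![b, qPow hF b, 1] := by
    intro z b hz h0 h1
    refine mat_emb_diag _ (t := ![b, qPow hF b]) ?_ (fun i => by fin_cases i <;> rfl) ?_
    · ext i j; fin_cases i <;> fin_cases j <;> simp [h0, h1, hz.1, hz.2]
    · intro j hj
      fin_cases j
      · exact absurd rfl (hj 0)
      · exact absurd rfl (hj 1)
      · rfl
  have hnq : ∀ b : F, nm hF b = 1 → nm hF (qPow hF b) = 1 := fun b hb => by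
    rw [nm, qPow_qPow, mul_comm]; exact hb
  have hn3 : ∀ b : F, nm hF b = 1 → ∀ i, nm hF ((![b, qPow hF b, 1] : Fin 3 → F) i) = 1 := fun b hb i => by
    fin_cases i
    · exact hb
    · exact hnq b hb
    · simp [nm]
  have hconj : ∀ (R : PairHom hF V' A B) (z : ↥(K hF 2)) (b : F) (hb : nm hF b = 1),
      mat hF (ini hF 2 3 (by omega) z) = Matrix.diagonal ![b, qPow hF b, 1] → ∀ y,
      R.g (ini hF 2 3 (by omega) z) * R.g (tl hF 2 y) * (R.g (ini hF 2 3 (by omega) z))⁻¹ =
        R.g (tl hF 2 (twist hF (RingEquiv.refl F)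
          ((![b, qPow hF b, 1] : Fin 3 → F) ∘ Fin.succEmb 2) (fun i => hn3 b hb _) y)) := by
    intro R z b hb hm y
    rw [← map_mul, ← map_inv, ← map_mul, conj_diag hm (hn3 b hb), twist_emb]
  have haa : a' = a := by
    obtain ⟨s, hs⟩ := Datum.exists_s2 (hF := hF)
    have e1 := hconj Q (α d) a' ha' (hmd _ a' hαd rfl e11) s
    rw [hspec, ← h s] at e1
    rw [← map_mul, ← map_inv, ← map_mul, conj_diag (hmd d a hd hd0 hd1) (hn3 a ha), twist_emb,
      h] at e1
    have e2 := congrArg (fun z => mat hF z 1 0) (Q.right_injective e1)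
    simp only [mat_twist, Matrix.mul_diagonal, Matrix.diagonal_mul, Matrix.map_apply] at e2
    rw [show mat hF s 1 0 = 1 by rw [mat_apply, hs]; simp [E]] at e2
    have e3 : (1 : F) * 1 * qPow hF (qPow hF a) = 1 * 1 * qPow hF (qPow hF a') := by
      simpa using e2
    rw [qPow_qPow, qPow_qPow] at e3
    linear_combination -e3
  obtain ⟨θ, δ, hδ, htw⟩ := aut_twist hF α hd (by rw [hd0, hd1]; exact hane) hαd
  have hθa : θ a = a := by
    have e2 := congrArg (fun z => mat hF z 0 0) (htw d)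
    simp only [mat_twist, Matrix.mul_diagonal, Matrix.diagonal_mul, Matrix.map_apply] at e2
    rw [← ha'def, haa, hd0] at e2
    have hn : δ 0 * qPow hF (δ 0) = 1 := hδ 0
    linear_combination (-1 : F) * e2 - θ a * hn
  obtain rfl := eq_refl_of_fix_two hq ha1 ha2 hθa hF
  exact ⟨δ, hδ, fun y => by rw [← htw, hspec]⟩


theorem range_twist_emb {G : Type*} [Group G] {n m : ℕ} (Ψ : ↥(K hF n) →* G) (θ : F ≃+* F)
    (δ : Fin n → F) (hδ : ∀ i, nm hF (δ i) = 1) (e : Fin m ↪ Fin n) :
    ((Ψ.comp (twist hF θ δ hδ)).comp (emb hF e)).range = (Ψ.comp (emb hF e)).range := by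
  rw [show (Ψ.comp (twist hF θ δ hδ)).comp (emb hF e) =
      (Ψ.comp (emb hF e)).comp (twist hF θ (δ ∘ e) fun i => hδ _) from
    MonoidHom.ext fun x => congrArg Ψ (twist_emb hF θ e δ hδ x),
    MonoidHom.range_comp, MonoidHom.range_eq_top.2 (twist_surjective hF θ _ _),
    ← MonoidHom.range_eq_map]

/-- An identification of a four-dimensional group with its two pairs and three planes. -/
structure Quad {G : Type*} [Group G] (V V' A B C : Subgroup G) where
  Ψ : ↥(K hF 4) →* G
  inj : Function.Injective Ψ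
  ini_eq : (Ψ.comp (ini hF 3 4 (by omega))).range = V
  tl_eq : (Ψ.comp (tl hF 3)).range = V'
  left_eq : (Ψ.comp (emb hF p01)).range = A
  mid_eq : (Ψ.comp (emb hF p12)).range = B
  right_eq : (Ψ.comp (emb hF p23)).range = C

namespace Quad

variable {G : Type*} [Group G] {V V' A B C : Subgroup G}

/-- Twisting. -/
noncomputable def twisted (Q : Quad (hF := hF) V V' A B C) (θ : F ≃+* F) (δ : Fin 4 → F)
    (hδ : ∀ i, nm hF (δ i) = 1) : Quad (hF := hF) V V' A B C where
  Ψ := Q.Ψ.comp (twist hF θ δ hδ)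
  inj := Q.inj.comp (twist_injective hF θ δ hδ)
  ini_eq := (range_twist_emb Q.Ψ θ δ hδ _).trans Q.ini_eq
  tl_eq := (range_twist_emb Q.Ψ θ δ hδ _).trans Q.tl_eq
  left_eq := (range_twist_emb Q.Ψ θ δ hδ _).trans Q.left_eq
  mid_eq := (range_twist_emb Q.Ψ θ δ hδ _).trans Q.mid_eq
  right_eq := (range_twist_emb Q.Ψ θ δ hδ _).trans Q.right_eq

/-- The first pair. -/
noncomputable def fstPair (Q : Quad (hF := hF) V V' A B C) : PairHom hF V A B where
  g := Q.Ψ.comp (ini hF 3 4 (by omega))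
  range_eq := Q.ini_eq
  left_eq := by
    refine Eq.trans ?_ Q.left_eq
    rw [show (Q.Ψ.comp (ini hF 3 4 (by omega))).comp (ini hF 2 3 (by omega)) =
      Q.Ψ.comp (emb hF p01) from MonoidHom.ext fun y => congrArg Q.Ψ (emb_ini4_ini y)]
  right_eq := by
    refine Eq.trans ?_ Q.mid_eq
    rw [show (Q.Ψ.comp (ini hF 3 4 (by omega))).comp (tl hF 2) =
      Q.Ψ.comp (emb hF p12) from MonoidHom.ext fun y => congrArg Q.Ψ (emb_ini4_tl y)]
  ker_le := by
    intro x hx
    have : x = 1 := (Q.inj.comp (emb_injective hF _)) (hx.trans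
      (map_one (Q.Ψ.comp (ini hF 3 4 (by omega)))).symm)
    rw [this]; exact one_mem _

/-- The second pair. -/
noncomputable def sndPair (Q : Quad (hF := hF) V V' A B C) : PairHom hF V' B C where
  g := Q.Ψ.comp (tl hF 3)
  range_eq := Q.tl_eq
  left_eq := by
    refine Eq.trans ?_ Q.mid_eq
    rw [show (Q.Ψ.comp (tl hF 3)).comp (ini hF 2 3 (by omega)) =
      Q.Ψ.comp (emb hF p12) from MonoidHom.ext fun y => congrArg Q.Ψ (emb_tl4_ini y)]
  right_eq := by
    refine Eq.trans ?_ Q.right_eq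
    rw [show (Q.Ψ.comp (tl hF 3)).comp (tl hF 2) =
      Q.Ψ.comp (emb hF p23) from MonoidHom.ext fun y => congrArg Q.Ψ (emb_tl4_tl y)]
  ker_le := by
    intro x hx
    have : x = 1 := (Q.inj.comp (emb_injective hF _)) (hx.trans
      (map_one (Q.Ψ.comp (tl hF 3))).symm)
    rw [this]; exact one_mem _

end Quad

/-- Extending a three-dimensional twist by one coordinate. -/
theorem exists_extend_delta (δ : Fin 3 → F) (hδ : ∀ i, nm hF (δ i) = 1) :
    ∃ (δ4 : Fin 4 → F) (_ : ∀ i, nm hF (δ4 i) = 1),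
      δ4 ∘ Fin.castLEEmb (show 3 ≤ 4 by omega) = δ :=
  ⟨![δ 0, δ 1, δ 2, 1], fun i => by
    fin_cases i
    exacts [hδ 0, hδ 1, hδ 2, by simp [nm]], by funext i; fin_cases i <;> rfl⟩

/-- Identifications of the same three-dimensional group agreeing on both planes agree. -/
theorem eq_of_planes (hq : q = 2) {G : Type*} [Group G] {f g : ↥(K hF 3) →* G}
    (hf : Function.Injective f) (hg : Function.Injective g) (hr : f.range = g.range)
    (h1 : ∀ y, f (ini hF 2 3 (by omega) y) = g (ini hF 2 3 (by omega) y))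
    (h2 : ∀ y, f (tl hF 2 y) = g (tl hF 2 y)) : f = g := by
  let α : ↥(K hF 3) ≃* ↥(K hF 3) := ((MonoidHom.ofInjective hf).trans
    (MulEquiv.subgroupCongr hr)).trans (MonoidHom.ofInjective hg).symm
  have hspec : ∀ x, g (α x) = f x := fun x => by
    have h : MonoidHom.ofInjective hg (α x) =
        MulEquiv.subgroupCongr hr (MonoidHom.ofInjective hf x) :=
      (MonoidHom.ofInjective hg).apply_symm_apply _
    exact congrArg Subtype.val h
  have := rigid hq α (fun y => hg (by rw [hspec, h1])) (fun y => hg (by rw [hspec, h2]))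
  exact MonoidHom.ext fun x => by rw [← hspec, this]

/-- Matching consecutive identifications. -/
theorem exists_next (hq : q = 2) {G : Type*} [Group G] {V0 V1 V2 A B C D : Subgroup G}
    (T : Quad (hF := hF) V0 V1 A B C) (T' : Quad (hF := hF) V1 V2 B C D)
    (hcomm : ∀ a ∈ A, ∀ c ∈ C, a * c = c * a) :
    ∃ T'' : Quad (hF := hF) V1 V2 B C D, ∀ x, T''.Ψ (ini hF 3 4 (by omega) x) = T.Ψ (tl hF 3 x) := by
  set P := T.sndPair with hP
  obtain ⟨θ, δ, hδ, h⟩ := exists_match_twist hF T.fstPair T'.fstPair hcomm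
  obtain ⟨δ4, hδ4, hδe⟩ := exists_extend_delta δ hδ
  set T1 := T'.twisted θ δ4 hδ4 with hT1
  have hleft : ∀ y, P.g (ini hF 2 3 (by omega) y) = T1.fstPair.g (ini hF 2 3 (by omega) y) := by
    intro y
    have e1 : P.g (ini hF 2 3 (by omega) y) = T.fstPair.g (tl hF 2 y) :=
      congrArg T.Ψ ((emb_tl4_ini y).trans (emb_ini4_tl y).symm)
    rw [e1, ← h]
    show T'.Ψ (ini hF 3 4 _ (twist hF θ δ hδ _)) = T'.Ψ (twist hF θ δ4 hδ4 (ini hF 3 4 _ _))
    congr 1
    refine Eq.trans ?_ (twist_emb hF θ _ δ4 hδ4 _).symm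
    simp only [hδe]
  have hr1 : ∀ y, P.rev.g (tl hF 2 y) = T1.fstPair.rev.g (tl hF 2 y) := fun y => by
    show P.g (emb hF rev3 (tl hF 2 y)) = T1.fstPair.g (emb hF rev3 (tl hF 2 y))
    rw [rev_tl]; exact hleft _
  obtain ⟨γ, hγ, hright⟩ := left_twist_two hq P.rev T1.fstPair.rev hr1
  have hright' : ∀ y, P.g (tl hF 2 y) = T1.fstPair.g (tl hF 2
      (twist hF (RingEquiv.refl F) (γ ∘ rev2) (fun i => hγ _) y)) := fun y => by
    have h' := hright (emb hF rev2 y)
    change P.g (emb hF rev3 (ini hF 2 3 _ _)) = T1.fstPair.g (emb hF rev3 (ini hF 2 3 _ _)) at h'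
    rw [rev_ini, rev_ini, rev2_rev2] at h'
    rw [h']
    congr 2
    rw [← rev2_rev2 (twist hF (RingEquiv.refl F) (γ ∘ rev2) (fun i => hγ _) y)]
    congr 1
    rw [← twist_emb]
  set ε : Fin 4 → F := ![γ 1, γ 1, γ 0, 1] with hεdef
  have hε : ∀ i, nm hF (ε i) = 1 := fun i => by
    fin_cases i
    exacts [hγ 1, hγ 1, hγ 0, by simp [ε, nm]]
  set T2 := T1.twisted (RingEquiv.refl F) ε hε with hT2
  refine ⟨T2, fun x => ?_⟩
  have key : T2.fstPair.g = P.g := by
    refine eq_of_planes hq (T2.inj.comp (emb_injective hF _)) (T.inj.comp (emb_injective hF _))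
      (T2.fstPair.range_eq.trans P.range_eq.symm) (fun y => ?_) fun y => ?_
    · refine Eq.trans ?_ (hleft y).symm
      show T1.Ψ (twist hF _ ε hε (ini hF 3 4 _ (ini hF 2 3 _ y))) = T1.Ψ (ini hF 3 4 _ (ini hF 2 3 _ y))
      congr 1
      rw [emb_ini4_ini, twist_emb,
        twist_scalar _ (δ := fun _ => (1 : F)) (fun _ => by simp [nm]) _ (l := γ 1) (hγ 1)
          (fun i => by fin_cases i <;> simp [ε, p01]) y]
      congr 1
      apply mat_injective hF
      rw [mat_twist]
      simp [Matrix.map_id']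
    · refine Eq.trans ?_ (hright' y).symm
      show T1.Ψ (twist hF _ ε hε (ini hF 3 4 _ (tl hF 2 y))) = T1.Ψ (ini hF 3 4 _ (tl hF 2 _))
      congr 1
      rw [emb_ini4_tl, emb_ini4_tl, twist_emb]
      congr 1
      exact twist_scalar _ _ _ (l := 1) (by simp [nm])
        (fun i => by fin_cases i <;> simp [ε, p12, rev2]) y
  exact DFunLike.congr_fun key x

end CfsgLib.Phan
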