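import Cfsg.Agent.Lib.Phan.TwoFrame

/-!
Four-dimensional groups carrying two adjacent standard pairs, over the field with four elements.
-/

set_option autoImplicit false
set_option maxHeartbeats 800000
set_option synthInstance.maxHeartbeats 100000

namespace CfsgLib.Phan

open Module CfsgLib.Classical.Herm HermSpace
open scoped Matrix

variable {F : Type*} [Field F] [Fintype F] {q : ℕ} {hF : Fintype.card F = q ^ 2}

/-- Homomorphisms into the image of an injective one lift. -/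
theorem exists_lift_hom {A B G : Type*} [Group A] [Group B] [Group G] {π : A →* G}
    (hπ : Function.Injective π) (f : B →* G) (h : f.range ≤ π.range) :
    ∃ L : B →* A, ∀ x, π (L x) = f x := by
  let e := MonoidHom.ofInjective hπ
  refine ⟨e.symm.toMonoidHom.comp (f.codRestrict π.range fun x => h ⟨x, rfl⟩), fun x => ?_⟩
  exact congrArg Subtype.val (e.apply_symm_apply ⟨f x, h ⟨x, rfl⟩⟩)

theorem diag_eq_one {y : ↥(K hF 2)} (hy : IsDiag hF y) (h : mat hF y 0 0 = 1) : y = 1 := by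
  apply mat_injective hF
  rw [map_one]
  ext i j
  fin_cases i <;> fin_cases j <;>
    simp [hy.1, hy.2, h, (mat_entries hF y).1]

/-- The order-three scalar of the three-dimensional group. -/
theorem central_tori (hq : q = 2) {y : ↥(K hF 2)} (hy : IsDiag hF y) :
    ini hF 2 3 (by omega) y * (tl hF 2 y)⁻¹ ∈ Subgroup.center ↥(K hF 3) := by
  set c := mat hF y 0 0 with hc
  have hc0 : c ≠ 0 := fun h => by
    obtain ⟨-, -, e⟩ := mat_entries hF y
    rw [← hc, h, hy.2] at e
    simp [nm] at e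
  have hcon : qPow hF c = c ^ 2 := qPow_two hF hq c
  have hc3 := cube_of_ne_zero hF hq hc0
  have hm : mat hF y = Matrix.diagonal ![c, c ^ 2] := by
    ext i j
    fin_cases i <;> fin_cases j <;> simp [hy.1, hy.2, ← hc, (mat_entries hF y).1, hcon]
  have hyi : mat hF y⁻¹ = Matrix.diagonal ![c ^ 2, c] := by
    have h1 : mat hF y * Matrix.diagonal ![c ^ 2, c] = 1 := by
      rw [hm, Matrix.diagonal_mul_diagonal, ← Matrix.diagonal_one]
      congr 1; funext i; fin_cases i
      · show c * c ^ 2 = 1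
        rw [← pow_succ', hc3]
      · show c ^ 2 * c = 1
        rw [← pow_succ, hc3]
    calc mat hF y⁻¹ = mat hF y⁻¹ * (mat hF y * Matrix.diagonal ![c ^ 2, c]) := by rw [h1, mul_one]
      _ = _ := by rw [← mul_assoc, ← map_mul, inv_mul_cancel, map_one, one_mul]
  refine central_of_scalar (c := c) ?_
  rw [← map_inv, map_mul, mat_ini_diag hm, mat_tl_diag hyi, Matrix.diagonal_mul_diagonal]
  congr 1
  funext i
  fin_cases i
  · exact mul_one c
  · show c ^ 2 * c ^ 2 = c
    linear_combination c * hc3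
  · exact one_mul c

theorem antidiag_mul_diag (hq : q = 2) {y t : ↥(K hF 2)} (hy : IsDiag hF y)
    (h0 : mat hF t 0 0 = 0) (ht2 : t * t = 1) : t * y = y⁻¹ * t := by
  have h00 : mat hF (t * y) 0 0 = 0 := by
    rw [map_mul, Matrix.mul_apply, Fin.sum_univ_two, h0, hy.2]; ring
  have hsq : t * y * (t * y) = 1 := by
    rcases mat_two hF hq (t * y) with h | ⟨-, -, -, h⟩
    · obtain ⟨-, -, e⟩ := mat_entries hF (t * y)
      rw [h00, h.2] at e
      simp [nm] at e
    · exact h
  calc t * y = (t * y * (t * y)) * y⁻¹ * t⁻¹ := by group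
    _ = y⁻¹ * t⁻¹ := by rw [hsq]; group
    _ = y⁻¹ * t := by rw [inv_eq_of_mul_eq_one_right ht2]

theorem exists_swap_two (hq : q = 2) :
    ∃ t : ↥(K hF 2), mat hF t 0 0 = 0 ∧ mat hF t 1 1 = 0 ∧ t * t = 1 := by
  obtain ⟨s, hs⟩ := Datum.exists_s2 (hF := hF)
  have h00 : mat hF s 0 0 = 0 := by rw [mat_apply, hs]; simp [E]
  rcases mat_two hF hq s with h | ⟨-, h11, -, h⟩
  · obtain ⟨-, -, e⟩ := mat_entries hF s
    rw [h00, h.2] at e
    simp [nm] at e
  · exact ⟨s, h00, h11, h⟩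

theorem gen_two (hq : q = 2) {d t : ↥(K hF 2)} (hd : IsDiag hF d) (hd1 : mat hF d 0 0 ≠ 1)
    (h0 : mat hF t 0 0 = 0) (ht2 : t * t = 1) {S : Subgroup ↥(K hF 2)} (hdS : d ∈ S)
    (htS : t ∈ S) : S = ⊤ := by
  have hdiag : ∀ y, IsDiag hF y → y ∈ S := by
    intro y hy
    have hne : ∀ z : ↥(K hF 2), IsDiag hF z → mat hF z 0 0 ≠ 0 := fun z hz h => by
      obtain ⟨-, -, e⟩ := mat_entries hF z
      rw [h, hz.2] at e
      simp [nm] at e
    set μ := mat hF d 0 0
    set β := mat hF y 0 0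
    have hμ3 := cube_of_ne_zero hF hq (hne d hd)
    have hβ3 := cube_of_ne_zero hF hq (hne y hy)
    have key : ∀ z, IsDiag hF z → mat hF z 0 0 = β → z ∈ S → y ∈ S := by
      intro z hz h hzS
      have hyz : y = z := by
        apply mat_injective hF
        ext i j
        fin_cases i <;> fin_cases j <;>
          simp [hy.1, hy.2, hz.1, hz.2, h, (mat_entries hF y).1, (mat_entries hF z).1, β]
      rw [hyz]; exact hzS
    rcases eq_or_ne β 1 with h | h
    · rw [diag_eq_one hy h]; exact S.one_mem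
    rcases eq_or_ne β μ with h' | h'
    · exact key d hd h'.symm hdS
    refine key (d * d) ⟨?_, ?_⟩ ?_ (S.mul_mem hdS hdS)
    · rw [map_mul, Matrix.mul_apply, Fin.sum_univ_two, hd.1]; ring
    · rw [map_mul, Matrix.mul_apply, Fin.sum_univ_two, hd.2]; ring
    · have hcr := cube_root_cases hq hF hμ3 hd1 hβ3 h h'
      rw [map_mul, Matrix.mul_apply, Fin.sum_univ_two, hd.1]
      linear_combination -hcr
  refine eq_top_iff.2 fun y _ => ?_
  rcases mat_two hF hq y with h | ⟨h00, h11, -, -⟩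
  · exact hdiag y h
  · have ht11 : mat hF t 1 1 = 0 := by rw [(mat_entries hF t).1, h0, map_zero]
    have h : y * t ∈ S := hdiag _ ⟨by
        rw [map_mul, Matrix.mul_apply, Fin.sum_univ_two, h00, ht11]; ring, by
        rw [map_mul, Matrix.mul_apply, Fin.sum_univ_two, h11, h0]; ring⟩
    rw [← mul_inv_cancel_right y t]
    exact S.mul_mem h (S.inv_mem htS)

theorem diag_pow_three (hq : q = 2) {y : ↥(K hF 2)} (hy : IsDiag hF y) : y ^ 3 = 1 := by
  obtain ⟨e11, -, en⟩ := mat_entries hF y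
  have h0 : mat hF y 0 0 ≠ 0 := fun h => by
    rw [h, hy.2] at en
    simp [nm] at en
  have hm : mat hF y = Matrix.diagonal fun i => mat hF y i i := by
    ext i j; fin_cases i <;> fin_cases j <;> simp [hy.1, hy.2]
  have hc : ∀ i, mat hF y i i ^ 3 = 1 := fun i => by
    fin_cases i
    · exact cube_of_ne_zero hF hq h0
    · refine cube_of_ne_zero hF hq ?_
      show mat hF y 1 1 ≠ 0
      rw [e11]
      exact fun h => h0 ((map_eq_zero (qPow hF)).1 h)
  apply mat_injective hF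
  rw [map_pow, hm, Matrix.diagonal_pow, map_one, ← Matrix.diagonal_one]
  exact congrArg Matrix.diagonal (funext hc)

theorem injective_two (hq : q = 2) {G : Type*} [Group G] {π : ↥(K hF 4) →* G}
    (hπ : ∃ g, π g ≠ 1) : Function.Injective π := by
  obtain ⟨e₀, f₀, p⟩ := exists_pair_std hF (show 3 ≤ 4 by omega)
  set r := MulEquiv.subgroupCongr (rootGen_std hF (show 3 ≤ 4 by omega)) with hr
  have hker : π.ker ≤ Subgroup.center ↥(K hF 4) := by
    rcases normal_rootGen_dichotomy (big_std hF (by omega)) (perfectable_std hF (by omega)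
      (by omega)) p ((π.comp r.toMonoidHom).ker) inferInstance with h | h
    · intro n hn
      obtain ⟨μ, hμ, hμx⟩ := h (r.symm n) (by
        rw [MonoidHom.mem_ker, MonoidHom.comp_apply]
        show π (r (r.symm n)) = 1
        rw [r.apply_symm_apply]; exact hn)
      have hc := (mem_center_rootGen_iff_scalar (big_std hF (by omega)) p (r.symm n)).2 ⟨μ, hμ, hμx⟩
      rw [Subgroup.mem_center_iff] at hc ⊢
      intro g
      have h2 := congrArg r (hc (r.symm g))
      rwa [map_mul, map_mul, r.apply_symm_apply, r.apply_symm_apply] at h2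
    · obtain ⟨g, hg⟩ := hπ
      refine absurd ?_ hg
      have h2 : r.symm g ∈ (π.comp r.toMonoidHom).ker := by rw [h]; trivial
      rw [MonoidHom.mem_ker, MonoidHom.comp_apply] at h2
      rw [← r.apply_symm_apply g]
      exact h2
  have hcard : Nat.card (Subgroup.center ↥(K hF 4)) = 1 := by
    rw [Nat.card_congr (Subgroup.centerCongr (suEquiv hF 4)).symm.toEquiv,
      card_center_su hF (by omega), hq]
    rfl
  rw [← MonoidHom.ker_eq_bot_iff, eq_bot_iff]
  exact hker.trans (le_of_eq (Subgroup.card_eq_one.1 hcard))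

/-- Adjacent pairs are identified faithfully. -/
theorem injective_of_adjacent (hq : q = 2) {G : Type*} [Group G] {V V' A B C : Subgroup G}
    (P : PairHom hF V A B) (Q : PairHom hF V' B C) (hcomm : ∀ a ∈ A, ∀ c ∈ C, a * c = c * a) :
    Function.Injective P.g := by
  rw [← MonoidHom.ker_eq_bot_iff]
  by_contra hne
  have hcard : Nat.card (Subgroup.center ↥(K hF 3)) = 3 := by
    rw [Nat.card_congr (Subgroup.centerCongr (suEquiv hF 3)).symm.toEquiv,
      card_center_su hF (by omega), hq]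
    rfl
  have hkc : P.g.ker = Subgroup.center ↥(K hF 3) := by
    refine Subgroup.eq_of_le_of_card_ge P.ker_le ?_
    have hd := Subgroup.card_dvd_of_le P.ker_le
    rw [hcard] at hd ⊢
    rcases (Nat.dvd_prime Nat.prime_three).1 hd with h | h
    · exact absurd (Subgroup.card_eq_one.1 h) hne
    · rw [h]
  obtain ⟨a, ha, ha1, -⟩ := exists_omega hF hq
  obtain ⟨d, hd, hd0, -⟩ := exists_diag hF ha
  have h1 : P.g (ini hF 2 3 (by omega) d) = P.g (tl hF 2 d) := by
    have h : ini hF 2 3 (by omega) d * (tl hF 2 d)⁻¹ ∈ P.g.ker := by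
      rw [hkc]; exact central_tori hq hd
    rw [MonoidHom.mem_ker, map_mul, map_inv, mul_inv_eq_one] at h
    exact h
  set e := P.g (ini hF 2 3 (by omega) d) with he
  have heA : e ∈ A := P.left_eq.le ⟨d, rfl⟩
  have heB : e ∈ B := P.right_eq.le ⟨d, h1.symm⟩
  obtain ⟨y, hy⟩ := Q.left_eq.ge heB
  change Q.g (ini hF 2 3 (by omega) y) = e at hy
  have hd3 : d ^ 3 = 1 := diag_pow_three hq hd
  have hy3 : y ^ 3 = 1 := Q.left_injective (by
    show Q.g (ini hF 2 3 (by omega) (y ^ 3)) = Q.g (ini hF 2 3 (by omega) 1)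
    rw [map_pow, map_pow, hy, he, ← map_pow, ← map_pow, hd3, map_one, map_one, map_one])
  have hyd := isDiag_of_cube hq hy3
  obtain ⟨t, ht0, ht1, -⟩ := exists_swap_two (hF := hF) hq
  have hc := hcomm e heA (Q.g (tl hF 2 t)) (Q.right_eq.le ⟨t, rfl⟩)
  rw [← hy, ← map_mul, ← map_mul] at hc
  have hk : tl hF 2 y ∈ Subgroup.center ↥(K hF 3) := by
    have h := Q.ker_le (show (ini hF 2 3 (by omega) y * tl hF 2 t)⁻¹ *
        (tl hF 2 t * ini hF 2 3 (by omega) y) ∈ Q.g.ker by
      rw [MonoidHom.mem_ker, map_mul, map_inv, hc, inv_mul_cancel])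
    rw [(swap_tori hyd ht0 ht1).2] at h
    have e2 : (ini hF 2 3 (by omega) y * tl hF 2 t)⁻¹ *
        (ini hF 2 3 (by omega) y * tl hF 2 y * tl hF 2 t) =
        (tl hF 2 t)⁻¹ * tl hF 2 y * tl hF 2 t := by group
    rw [e2] at h
    have h' := Subgroup.mem_center_iff.1 h
    have e3 : tl hF 2 y = (tl hF 2 t)⁻¹ * tl hF 2 y * tl hF 2 t := by
      have := h' (tl hF 2 t)
      calc tl hF 2 y = tl hF 2 t * ((tl hF 2 t)⁻¹ * tl hF 2 y * tl hF 2 t) * (tl hF 2 t)⁻¹ := by group
        _ = _ := by rw [this]; group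
    rwa [← e3] at h
  have hy1 : y = 1 := emb_injective hF (Fin.succEmb 2)
    ((central_fix hF hk (tl_fix0 hF y)).trans (map_one _).symm)
  have hd1 : d = 1 := P.left_injective (by
    show P.g (ini hF 2 3 (by omega) d) = P.g (ini hF 2 3 (by omega) 1)
    rw [← he, ← hy, hy1, map_one, map_one, map_one])
  rw [hd1, map_one] at hd0
  simp at hd0
  exact ha1 hd0.symm

theorem apply_zero_of_rel {s A A' : ↥(K hF 4)} {t t' : Fin 4 → F}
    (hA : mat hF A = Matrix.diagonal t) (hA' : mat hF A' = Matrix.diagonal t')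
    (h : s * A = A' * s) {i j : Fin 4} (hne : t j ≠ t' i) : mat hF s i j = 0 := by
  have e := congrFun (congrFun (congrArg (mat hF) h) i) j
  rw [map_mul, map_mul, hA, hA', Matrix.mul_diagonal, Matrix.diagonal_mul] at e
  exact (mul_eq_zero.1 (show (t j - t' i) * mat hF s i j = 0 by linear_combination e)).resolve_left
    (sub_ne_zero.2 hne)

/-- An involution fixing a line fixes it pointwise. -/
theorem fix_of_line (hq : q = 2) {s : ↥(K hF 4)} (hs : s * s = 1) {j : Fin 4}
    (h : ∀ i, i ≠ j → mat hF s i j = 0) : s • (E j : Fin 4 → F) = E j := by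
  have he : s • (E j : Fin 4 → F) = mat hF s j j • E j := by
    funext i
    by_cases hi : i = j
    · subst hi; rw [mat_apply]; simp [E]
    · rw [← mat_apply, h i hi]; simp [E, Pi.single_eq_of_ne hi]
  have h2 : mat hF s j j * mat hF s j j = 1 := by
    have e := congrArg (fun v : Fin 4 → F => s • v) he
    simp only [smul_smul_K, ← mul_smul, hs, one_smul] at e
    rw [he, smul_smul] at e
    have := congrFun e j
    simpa [E] using this.symm
  have h1 : mat hF s j j = 1 := by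
    have hz := two_eq_zero_two hF hq
    have : (mat hF s j j - 1) * (mat hF s j j - 1) = 0 := by
      linear_combination h2 + (1 - mat hF s j j) * hz
    exact sub_eq_zero.1 (mul_self_eq_zero.1 this)
  rw [he, h1, one_smul]

theorem range_eq_stab (hq : q = 2) (e : Fin 3 ↪ Fin 4) {j : Fin 4} (hj : ∀ l, l ≠ j → ∃ i, e i = l)
    (hje : ∀ i, e i ≠ j) {L : ↥(K hF 3) →* ↥(K hF 4)} (hinj : Function.Injective L)
    {z : ↥(K hF 3)} (hz : z ∈ Subgroup.center ↥(K hF 3)) {t : Fin 4 → F}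
    (ht : mat hF (L z) = Matrix.diagonal t) (htj : ∀ i, i ≠ j → t i ≠ t j)
    (h1 : ∀ y, L (ini hF 2 3 (by omega) y) • (E j : Fin 4 → F) = E j)
    (h2 : ∀ y, L (tl hF 2 y) • (E j : Fin 4 → F) = E j) :
    L.range = (emb hF e).range := by
  have hline : ∀ g, ∀ i, i ≠ j → mat hF (L g) i j = 0 := fun g i hi =>
    apply_zero_of_rel (s := L g) ht ht (by rw [← map_mul, ← map_mul, Subgroup.mem_center_iff.1 hz g])
      (htj i hi).symm
  have hsm : ∀ g, L g • (E j : Fin 4 → F) = mat hF (L g) j j • E j := fun g => by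
    funext i
    by_cases hi : i = j
    · subst hi; rw [mat_apply]; simp [E]
    · rw [← mat_apply, hline g i hi]; simp [E, Pi.single_eq_of_ne hi]
  have hfix : ∀ g, L g • (E j : Fin 4 → F) = E j := by
    let S : Subgroup ↥(K hF 3) := (MulAction.stabilizer ↥(K hF 4) (E j : Fin 4 → F)).comap L
    have hS : S = ⊤ := eq_top_of_blocks hq h1 h2 fun g hg => by
      set m := mat hF (L g) j j
      have hpow : ∀ n : ℕ, L g ^ n • (E j : Fin 4 → F) = m ^ n • E j := fun n => by
        induction n with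
        | zero => simp
        | succ n ih => rw [pow_succ, mul_smul, hsm, smul_smul_K, ih, smul_smul, pow_succ']
      have h4 : m ^ 4 = 1 := by
        have := hpow 4
        rw [← map_pow, hg, map_one, one_smul] at this
        have := congrFun this j
        simpa [E] using this.symm
      have hm0 : m ≠ 0 := fun h => by rw [h] at h4; simp at h4
      have hm1 : m = 1 := by
        rw [pow_succ, cube_of_ne_zero hF hq hm0, one_mul] at h4; exact h4
      show L g • (E j : Fin 4 → F) = E j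
      rw [hsm, show mat hF (L g) j j = m from rfl, hm1, one_smul]
    intro g
    have : g ∈ S := by rw [hS]; trivial
    exact this
  haveI : Finite ↥(emb hF e).range :=
    Finite.of_surjective _ (MonoidHom.rangeRestrict_surjective _)
  refine Subgroup.eq_of_le_of_card_ge ?_ ?_
  · rintro _ ⟨g, rfl⟩
    obtain ⟨g', hg'⟩ := exists_emb hF e (L g) fun l hl => by
      by_cases hlj : l = j
      · subst hlj; exact hfix g
      · obtain ⟨i, hi⟩ := hj l hlj
        exact absurd hi (hl i)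
    exact ⟨g', hg'⟩
  · rw [← Nat.card_congr (MonoidHom.ofInjective hinj).toEquiv]
    exact Nat.card_le_card_of_surjective _ (MonoidHom.rangeRestrict_surjective _)

theorem range_eq_plane (hq : q = 2) (e : Fin 2 ↪ Fin 4) {L : ↥(K hF 2) →* ↥(K hF 4)}
    (hinj : Function.Injective L) {d t : ↥(K hF 2)} (hd : IsDiag hF d) (hd1 : mat hF d 0 0 ≠ 1)
    (h0 : mat hF t 0 0 = 0) (ht2 : t * t = 1)
    (hfd : ∀ j, (∀ i, e i ≠ j) → L d • (E j : Fin 4 → F) = E j)
    (hft : ∀ j, (∀ i, e i ≠ j) → L t • (E j : Fin 4 → F) = E j) :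
    L.range = (emb hF e).range := by
  haveI : Finite ↥(emb hF e).range :=
    Finite.of_surjective _ (MonoidHom.rangeRestrict_surjective _)
  refine Subgroup.eq_of_le_of_card_ge ?_ ?_
  · have h : (emb hF e).range.comap L = ⊤ :=
      gen_two hq hd hd1 h0 ht2 (exists_emb hF e (L d) hfd) (exists_emb hF e (L t) hft)
    rintro _ ⟨g, rfl⟩
    have : g ∈ (emb hF e).range.comap L := by rw [h]; trivial
    exact this
  · rw [← Nat.card_congr (MonoidHom.ofInjective hinj).toEquiv]
    exact Nat.card_le_card_of_surjective _ (MonoidHom.rangeRestrict_surjective _)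

/-- The second torus of the second pair. -/
theorem third_torus (hq : q = 2) {μ : F} (hμ : μ ^ 3 = 1) (hμ1 : μ ≠ 1)
    {a b c sb sc : ↥(K hF 4)} (hma : mat hF a = Matrix.diagonal ![μ, μ ^ 2, 1, 1])
    (hmb : mat hF b = Matrix.diagonal ![1, μ, μ ^ 2, 1]) (hac : Commute c a) (hbc : Commute c b)
    (hsca : sc * a = a * sc) (hscc : sc * c = c⁻¹ * sc) (hsc2 : sc * sc = 1)
    (hsba : sb * a = a * b * sb) (hsbb : sb * b = b⁻¹ * sb) (hsbc : sb * c = b * c * sb)
    (hsb2 : sb * sb = 1) :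
    (sb • (E 0 : Fin 4 → F) = E 0 ∧ sb • (E 3 : Fin 4 → F) = E 3) ∧
      (sc • (E 0 : Fin 4 → F) = E 0 ∧ sc • (E 1 : Fin 4 → F) = E 1) ∧
      mat hF c = Matrix.diagonal ![1, 1, μ, μ ^ 2] := by
  have hμ0 : μ ≠ 0 := fun h => by rw [h] at hμ; simp at hμ
  have hμ2 : μ ^ 2 ≠ 1 := fun h => hμ1 (by rw [pow_succ, h, one_mul] at hμ; exact hμ)
  have hμμ : μ ^ 2 ≠ μ := fun h => hμ1 (mul_left_cancel₀ hμ0 (by rw [mul_one, ← pow_two]; exact h))
  have hμ4 : μ ^ 2 * μ ^ 2 = μ := by linear_combination μ * hμ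
  have hmab : mat hF (a * b) = Matrix.diagonal ![μ, 1, μ ^ 2, 1] := by
    rw [map_mul, hma, hmb, Matrix.diagonal_mul_diagonal]
    congr 1; funext i; fin_cases i
    · exact mul_one μ
    · show μ ^ 2 * μ = 1
      rw [← pow_succ, hμ]
    · exact one_mul _
    · exact one_mul _
  have hminv : ∀ {g : ↥(K hF 4)} {t t' : Fin 4 → F}, mat hF g = Matrix.diagonal t →
      (∀ i, t i * t' i = 1) → mat hF g⁻¹ = Matrix.diagonal t' := by
    intro g t t' hg h
    have h1 : mat hF g * Matrix.diagonal t' = 1 := by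
      rw [hg, Matrix.diagonal_mul_diagonal, ← Matrix.diagonal_one]
      exact congrArg Matrix.diagonal (funext h)
    calc mat hF g⁻¹ = mat hF g⁻¹ * (mat hF g * Matrix.diagonal t') := by rw [h1, mul_one]
      _ = _ := by rw [← mul_assoc, ← map_mul, inv_mul_cancel, map_one, one_mul]
  have hmbi : mat hF b⁻¹ = Matrix.diagonal ![1, μ ^ 2, μ, 1] := hminv hmb fun i => by
    fin_cases i
    · exact one_mul 1
    · show μ * μ ^ 2 = 1
      rw [← pow_succ', hμ]
    · show μ ^ 2 * μ = 1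
      rw [← pow_succ, hμ]
    · exact one_mul 1
  set t : Fin 4 → F := fun i => mat hF c i i with ht
  have hoff : ∀ i j : Fin 4, i ≠ j → mat hF c i j = 0 := by
    intro i j hij
    have key : (![μ, μ ^ 2, 1, 1] : Fin 4 → F) j ≠ (![μ, μ ^ 2, 1, 1] : Fin 4 → F) i ∨
        (![1, μ, μ ^ 2, 1] : Fin 4 → F) j ≠ (![1, μ, μ ^ 2, 1] : Fin 4 → F) i := by
      revert hij
      fin_cases i <;> fin_cases j <;> simp [hμ1, hμ2, hμμ, hμ1.symm, hμ2.symm, hμμ.symm]
    rcases key with h | h
    · exact apply_zero_of_rel hma hma hac.eq h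
    · exact apply_zero_of_rel hmb hmb hbc.eq h
  have hmc : mat hF c = Matrix.diagonal t := by
    ext i j
    by_cases h : i = j
    · subst h; simp [ht]
    · simp [hoff i j h, h]
  have hdet : t 0 * t 1 * t 2 * t 3 = 1 := by
    have h := det_mat hF c
    rwa [hmc, Matrix.det_diagonal, Fin.prod_univ_four] at h
  have ht0 : ∀ i, t i ≠ 0 := by
    intro i h
    fin_cases i
    · simp [show t 0 = 0 from h] at hdet
    · simp [show t 1 = 0 from h] at hdet
    · simp [show t 2 = 0 from h] at hdet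
    · simp [show t 3 = 0 from h] at hdet
  have hsc0 : sc • (E 0 : Fin 4 → F) = E 0 := fix_of_line hq hsc2 fun i hi => by
    fin_cases i
    · exact absurd rfl hi
    all_goals exact apply_zero_of_rel hma hma hsca (by simp [hμ1, hμ1.symm, hμμ, hμμ.symm])
  have hsc1 : sc • (E 1 : Fin 4 → F) = E 1 := fix_of_line hq hsc2 fun i hi => by
    fin_cases i
    · exact apply_zero_of_rel hma hma hsca (by simp [hμμ])
    · exact absurd rfl hi
    all_goals exact apply_zero_of_rel hma hma hsca (by simp [hμ2])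
  have hci : ∀ i, i = 0 ∨ i = 1 → t i = 1 := by
    intro i hi
    have hfix : sc • (E i : Fin 4 → F) = E i := by
      rcases hi with rfl | rfl
      exacts [hsc0, hsc1]
    have h := congrArg (fun g => mat hF g i i) hscc
    have hci' : mat hF c⁻¹ = Matrix.diagonal fun j => (t j)⁻¹ :=
      hminv hmc fun j => mul_inv_cancel₀ (ht0 j)
    simp only [map_mul, hmc, hci', Matrix.mul_diagonal, Matrix.diagonal_mul] at h
    rw [show mat hF sc i i = 1 by rw [mat_apply, hfix]; simp [E], one_mul, mul_one] at h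
    have hz := two_eq_zero_two hF hq
    have h1 : t i * t i = 1 := by
      nth_rewrite 2 [h]; exact mul_inv_cancel₀ (ht0 i)
    refine sub_eq_zero.1 (mul_self_eq_zero.1 (?_ : (t i - 1) * (t i - 1) = 0))
    linear_combination h1 + (1 - t i) * hz
  have hsb0 : sb • (E 0 : Fin 4 → F) = E 0 := fix_of_line hq hsb2 fun i hi => by
    fin_cases i
    · exact absurd rfl hi
    all_goals exact apply_zero_of_rel hma hmab hsba (by simp [hμ1, hμ1.symm, hμμ, hμμ.symm])
  have hsb3 : sb • (E 3 : Fin 4 → F) = E 3 := fix_of_line hq hsb2 fun i hi => by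
    fin_cases i
    · exact apply_zero_of_rel hma hmab hsba (by simp [hμ1.symm])
    · exact apply_zero_of_rel hmb hmbi hsbb (by simp [hμ2.symm])
    · exact apply_zero_of_rel hma hmab hsba (by simp [hμ2.symm])
    · exact absurd rfl hi
  have h21 : mat hF sb 2 1 ≠ 0 := by
    intro h
    have hz : sb • (E 1 : Fin 4 → F) = 0 := by
      funext i
      rw [← mat_apply]
      fin_cases i
      · exact apply_zero_of_rel hma hmab hsba (by simp [hμμ])
      · exact apply_zero_of_rel hma hmab hsba (by simp [hμ2])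
      · exact h
      · exact apply_zero_of_rel hma hmab hsba (by simp [hμ2])
    have h' := congrArg (fun v : Fin 4 → F => sb⁻¹ • v) hz
    simp only [inv_smul_smul] at h'
    rw [show sb⁻¹ • (0 : Fin 4 → F) = 0 from map_zero sb⁻¹.1.1] at h'
    have := congrFun h' 1
    simp [E] at this
  have hc2 : t 2 = μ := by
    have hmbc : mat hF (b * c) = Matrix.diagonal fun i => (![1, μ, μ ^ 2, 1] : Fin 4 → F) i * t i := by
      rw [map_mul, hmb, hmc, Matrix.diagonal_mul_diagonal]
    by_contra hne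
    apply h21
    refine apply_zero_of_rel hmc hmbc hsbc ?_
    show t 1 ≠ μ ^ 2 * t 2
    rw [hci 1 (Or.inr rfl)]
    intro h
    exact hne (by
      calc t 2 = μ * (μ ^ 2 * t 2) := by rw [← mul_assoc, ← pow_succ', hμ, one_mul]
        _ = μ := by rw [← h, mul_one])
  refine ⟨⟨hsb0, hsb3⟩, ⟨hsc0, hsc1⟩, hmc.trans (congrArg Matrix.diagonal (funext fun i => ?_))⟩
  fin_cases i
  · exact hci 0 (Or.inl rfl)
  · exact hci 1 (Or.inr rfl)
  · exact hc2
  · show t 3 = μ ^ 2
    rw [hci 0 (Or.inl rfl), hci 1 (Or.inr rfl), hc2] at hdet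
    refine mul_left_cancel₀ hμ0 ?_
    rw [← pow_succ', hμ]
    linear_combination hdet

theorem diag_inv_four {g : ↥(K hF 4)} {t t' : Fin 4 → F} (hg : mat hF g = Matrix.diagonal t)
    (h : ∀ i, t i * t' i = 1) : mat hF g⁻¹ = Matrix.diagonal t' := by
  have h1 : mat hF g * Matrix.diagonal t' = 1 := by
    rw [hg, Matrix.diagonal_mul_diagonal, ← Matrix.diagonal_one]
    exact congrArg Matrix.diagonal (funext h)
  calc mat hF g⁻¹ = mat hF g⁻¹ * (mat hF g * Matrix.diagonal t') := by rw [h1, mul_one]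
    _ = _ := by rw [← mul_assoc, ← map_mul, inv_mul_cancel, map_one, one_mul]

/-- An involution over the first plane. -/
theorem first_swap (hq : q = 2) {μ : F} (hμ : μ ^ 3 = 1) (hμ1 : μ ≠ 1) {a b sa : ↥(K hF 4)}
    (hma : mat hF a = Matrix.diagonal ![μ, μ ^ 2, 1, 1])
    (hmb : mat hF b = Matrix.diagonal ![1, μ, μ ^ 2, 1])
    (hsaA : sa * a = a⁻¹ * sa) (hsaB : sa * b = a * b * sa) (hsa2 : sa * sa = 1) :
    sa • (E 2 : Fin 4 → F) = E 2 ∧ sa • (E 3 : Fin 4 → F) = E 3 := by
  have hμ2 : μ ^ 2 ≠ 1 := fun h => hμ1 (by rw [pow_succ, h, one_mul] at hμ; exact hμ)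
  have hmab : mat hF (a * b) = Matrix.diagonal ![μ, 1, μ ^ 2, 1] := by
    rw [map_mul, hma, hmb, Matrix.diagonal_mul_diagonal]
    congr 1; funext i; fin_cases i
    · exact mul_one μ
    · show μ ^ 2 * μ = 1
      rw [← pow_succ, hμ]
    · exact one_mul _
    · exact one_mul _
  have hmai : mat hF a⁻¹ = Matrix.diagonal ![μ ^ 2, μ, 1, 1] := diag_inv_four hma fun i => by
    fin_cases i
    · show μ * μ ^ 2 = 1
      rw [← pow_succ', hμ]
    · show μ ^ 2 * μ = 1
      rw [← pow_succ, hμ]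
    · exact one_mul 1
    · exact one_mul 1
  constructor
  · refine fix_of_line hq hsa2 fun i hi => ?_
    fin_cases i
    · exact apply_zero_of_rel hma hmai hsaA (by simp [hμ2.symm])
    · exact apply_zero_of_rel hma hmai hsaA (by simp [hμ1.symm])
    · exact absurd rfl hi
    · exact apply_zero_of_rel hmb hmab hsaB (by simp [hμ2])
  · refine fix_of_line hq hsa2 fun i hi => ?_
    fin_cases i
    · exact apply_zero_of_rel hma hmai hsaA (by simp [hμ2.symm])
    · exact apply_zero_of_rel hma hmai hsaA (by simp [hμ1.symm])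
    · exact apply_zero_of_rel hmb hmab hsaB (by simp [hμ2.symm])
    · exact absurd rfl hi

/-- Preimages in the shared plane. -/
theorem shared_lifts (hq : q = 2) {L1 L2 : ↥(K hF 3) →* ↥(K hF 4)} (hL1 : Function.Injective L1)
    (hL2 : Function.Injective L2)
    (hB : (L1.comp (tl hF 2)).range = (L2.comp (ini hF 2 3 (by omega))).range)
    {d t : ↥(K hF 2)} (hd : IsDiag hF d) (h0 : mat hF t 0 0 = 0) (ht2 : t * t = 1) :
    ∃ y x' : ↥(K hF 2), IsDiag hF y ∧ L2 (ini hF 2 3 (by omega) y) = L1 (tl hF 2 d) ∧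
      mat hF x' 0 0 = 0 ∧ mat hF x' 1 1 = 0 ∧ x' * x' = 1 ∧
      L1 (tl hF 2 x') = L2 (ini hF 2 3 (by omega) t) := by
  obtain ⟨y, hy⟩ := hB.le ⟨d, rfl⟩
  obtain ⟨x', hx'⟩ := hB.ge ⟨t, rfl⟩
  have hr : Function.Injective (L1.comp (tl hF 2)) := hL1.comp (emb_injective hF _)
  have hl2 : Function.Injective (L2.comp (ini hF 2 3 (by omega))) := hL2.comp (emb_injective hF _)
  have hy3 : y ^ 3 = 1 := hl2 (by
    rw [map_pow, hy, ← map_pow, diag_pow_three hq hd, map_one, map_one])
  have hx2 : x' * x' = 1 := hr (by rw [map_mul, hx', ← map_mul, ht2, map_one, map_one])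
  rcases mat_two hF hq x' with h | ⟨a, b, -, -⟩
  · have hx1 : x' = 1 := by
      rw [show x' = x' ^ 3 * (x' * x')⁻¹ by group, diag_pow_three hq h, hx2, inv_one, mul_one]
    have ht : t = 1 := hl2 (by rw [← hx', hx1, map_one, map_one])
    rw [ht, map_one] at h0
    simp at h0
  · exact ⟨y, x', isDiag_of_cube hq hy3, hy, a, b, hx2, hx'⟩

theorem diag_ini_tl_commute {y z : ↥(K hF 2)} (hy : IsDiag hF y) (hz : IsDiag hF z) :
    Commute (ini hF 2 3 (by omega) y) (tl hF 2 z) := by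
  have hmz : ∀ w : ↥(K hF 2), IsDiag hF w → mat hF w = Matrix.diagonal fun i => mat hF w i i :=
    fun w hw => by ext i j; fin_cases i <;> fin_cases j <;> simp [hw.1, hw.2]
  exact diag_commute (mat_ini_diag (hmz y hy)) (mat_tl_diag (hmz z hz))

theorem rel_swap (hq : q = 2) (f : ↥(K hF 2) →* ↥(K hF 4)) {y t : ↥(K hF 2)} (hy : IsDiag hF y)
    (h0 : mat hF t 0 0 = 0) (ht2 : t * t = 1) : f t * f y = (f y)⁻¹ * f t := by
  rw [← map_inv, ← map_mul, ← map_mul, antidiag_mul_diag hq hy h0 ht2]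

theorem rel_tori (L : ↥(K hF 3) →* ↥(K hF 4)) {y t : ↥(K hF 2)} (hy : IsDiag hF y)
    (h0 : mat hF t 0 0 = 0) (h1 : mat hF t 1 1 = 0) :
    L (ini hF 2 3 (by omega) t) * L (tl hF 2 y) =
        L (ini hF 2 3 (by omega) y) * L (tl hF 2 y) * L (ini hF 2 3 (by omega) t) ∧
      L (tl hF 2 t) * L (ini hF 2 3 (by omega) y) =
        L (ini hF 2 3 (by omega) y) * L (tl hF 2 y) * L (tl hF 2 t) := by
  simp only [← map_mul]
  exact ⟨congrArg L (swap_tori hy h0 h1).1, congrArg L (swap_tori hy h0 h1).2⟩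

/-- The planes in the normal position. -/
theorem two_planes (hq : q = 2) {μ : F} (hμ : μ ^ 3 = 1) (hμ1 : μ ≠ 1)
    {L1 L2 : ↥(K hF 3) →* ↥(K hF 4)} (hL1 : Function.Injective L1) (hL2 : Function.Injective L2)
    (hcomm : ∀ x z, Commute (L1 (ini hF 2 3 (by omega) x)) (L2 (tl hF 2 z)))
    (hB : (L1.comp (tl hF 2)).range = (L2.comp (ini hF 2 3 (by omega))).range)
    {d t : ↥(K hF 2)} (hd : IsDiag hF d) (hd1 : mat hF d 0 0 ≠ 1)
    (h0 : mat hF t 0 0 = 0) (h1 : mat hF t 1 1 = 0) (ht2 : t * t = 1)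
    (hma : mat hF (L1 (ini hF 2 3 (by omega) d)) = Matrix.diagonal ![μ, μ ^ 2, 1, 1])
    (hmb : mat hF (L1 (tl hF 2 d)) = Matrix.diagonal ![1, μ, μ ^ 2, 1]) :
    ∃ y : ↥(K hF 2), IsDiag hF y ∧ L2 (ini hF 2 3 (by omega) y) = L1 (tl hF 2 d) ∧
      mat hF (L2 (tl hF 2 y)) = Matrix.diagonal ![1, 1, μ, μ ^ 2] ∧
      (L1.comp (ini hF 2 3 (by omega))).range = (emb hF p01).range ∧
      (L1.comp (tl hF 2)).range = (emb hF p12).range ∧
      (L2.comp (tl hF 2)).range = (emb hF p23).range := by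
  obtain ⟨y, x', hyd, hy, hx0, hx1, hx2, hx'⟩ := shared_lifts hq hL1 hL2 hB hd h0 ht2
  have hbc : Commute (L2 (tl hF 2 y)) (L1 (tl hF 2 d)) := by
    rw [← hy]; exact ((diag_ini_tl_commute hyd hyd).symm).map L2
  have s1 : L2 (tl hF 2 t) * L2 (tl hF 2 y) = (L2 (tl hF 2 y))⁻¹ * L2 (tl hF 2 t) :=
    rel_swap hq (L2.comp (tl hF 2)) hyd h0 ht2
  have s2 : L2 (tl hF 2 t) * L2 (tl hF 2 t) = 1 := by rw [← map_mul, ← map_mul, ht2, map_one, map_one]
  have s3 : L2 (ini hF 2 3 (by omega) t) * L1 (ini hF 2 3 (by omega) d) =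
      L1 (ini hF 2 3 (by omega) d) * L1 (tl hF 2 d) * L2 (ini hF 2 3 (by omega) t) := by
    rw [← hx']; exact (rel_tori L1 hd hx0 hx1).2
  have s4 : L2 (ini hF 2 3 (by omega) t) * L1 (tl hF 2 d) =
      (L1 (tl hF 2 d))⁻¹ * L2 (ini hF 2 3 (by omega) t) := by
    rw [← hx']; exact rel_swap hq (L1.comp (tl hF 2)) hd hx0 hx2
  have s5 : L2 (ini hF 2 3 (by omega) t) * L2 (tl hF 2 y) =
      L1 (tl hF 2 d) * L2 (tl hF 2 y) * L2 (ini hF 2 3 (by omega) t) := by
    rw [← hy]; exact (rel_tori L2 hyd h0 h1).1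
  have s6 : L2 (ini hF 2 3 (by omega) t) * L2 (ini hF 2 3 (by omega) t) = 1 := by
    rw [← map_mul, ← map_mul, ht2, map_one, map_one]
  obtain ⟨⟨hsb0, hsb3⟩, ⟨hsc0, hsc1⟩, hmc⟩ := third_torus hq hμ hμ1 hma hmb (hcomm d y).symm hbc
    (hcomm d t).symm.eq s1 s2 s3 s4 s5 s6
  obtain ⟨hsa2, hsa3⟩ := first_swap hq hμ hμ1 hma hmb
    (rel_swap hq (L1.comp (ini hF 2 3 (by omega))) hd h0 ht2) (rel_tori L1 hd h0 h1).1
    (by show L1 (ini hF 2 3 _ t) * L1 (ini hF 2 3 _ t) = 1
        rw [← map_mul, ← map_mul, ht2, map_one, map_one])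
  have fd : ∀ {g : ↥(K hF 4)} {s : Fin 4 → F}, mat hF g = Matrix.diagonal s → ∀ j, s j = 1 →
      g • (E j : Fin 4 → F) = E j := fun hg j hj => by rw [smul_E_diag hg, hj, one_smul]
  refine ⟨y, hyd, hy, hmc, ?_, ?_, ?_⟩
  · exact range_eq_plane hq p01 (hL1.comp (emb_injective hF _)) hd hd1 h0 ht2
      (off01 fun l => fd hma _ (by fin_cases l <;> rfl))
      (off01 fun l => by fin_cases l; exacts [hsa2, hsa3])
  · exact range_eq_plane hq p12 (hL1.comp (emb_injective hF _)) hd hd1 hx0 hx2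
      (off12 fun l => fd hmb _ (by fin_cases l <;> rfl))
      (off12 fun l => by
        fin_cases l
        · show L1 (tl hF 2 x') • (E 0 : Fin 4 → F) = E 0
          rw [hx']; exact hsb0
        · show L1 (tl hF 2 x') • (E 3 : Fin 4 → F) = E 3
          rw [hx']; exact hsb3)
  · exact range_eq_plane hq p23 (hL2.comp (emb_injective hF _)) hyd (fun h => by
        rw [diag_eq_one hyd h, map_one, map_one] at hy
        rw [← hy, map_one, ← Matrix.diagonal_one] at hmb
        exact hμ1 (congrFun (Matrix.diagonal_injective hmb) 1).symm) h0 ht2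
      (off23 fun l => fd hmc _ (by fin_cases l <;> rfl))
      (off23 fun l => by fin_cases l; exacts [hsc0, hsc1])

/-- The ranges in the normal position. -/
theorem two_ranges (hq : q = 2) {μ : F} (hμ : μ ^ 3 = 1) (hμ1 : μ ≠ 1)
    {L1 L2 : ↥(K hF 3) →* ↥(K hF 4)} (hL1 : Function.Injective L1) (hL2 : Function.Injective L2)
    (hcomm : ∀ x z, Commute (L1 (ini hF 2 3 (by omega) x)) (L2 (tl hF 2 z)))
    (hB : (L1.comp (tl hF 2)).range = (L2.comp (ini hF 2 3 (by omega))).range)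
    {d t : ↥(K hF 2)} (hd : IsDiag hF d) (hd1 : mat hF d 0 0 ≠ 1)
    (h0 : mat hF t 0 0 = 0) (h1 : mat hF t 1 1 = 0) (ht2 : t * t = 1)
    (hma : mat hF (L1 (ini hF 2 3 (by omega) d)) = Matrix.diagonal ![μ, μ ^ 2, 1, 1])
    (hmb : mat hF (L1 (tl hF 2 d)) = Matrix.diagonal ![1, μ, μ ^ 2, 1]) :
    L1.range = (ini hF 3 4 (by omega)).range ∧ L2.range = (tl hF 3).range ∧
      (L1.comp (ini hF 2 3 (by omega))).range = (emb hF p01).range ∧
      (L1.comp (tl hF 2)).range = (emb hF p12).range ∧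
      (L2.comp (tl hF 2)).range = (emb hF p23).range := by
  obtain ⟨y, hyd, hy, hmc, rA, rB, rC⟩ := two_planes hq hμ hμ1 hL1 hL2 hcomm hB hd hd1 h0 h1 ht2 hma hmb
  have hμ4 : μ ^ 2 * μ ^ 2 = μ := by linear_combination μ * hμ
  have e1 : μ * μ ^ 2 = 1 := by rw [← pow_succ', hμ]
  have e2 : μ ^ 2 * μ = 1 := by rw [← pow_succ, hμ]
  have fix : ∀ {m : ℕ} (e : Fin 2 ↪ Fin 4) (j : Fin 4), (∀ i, e i ≠ j) →
      ∀ (φ : ↥(K hF m) →* ↥(K hF 4)), φ.range ≤ (emb hF e).range →
      ∀ g, φ g • (E j : Fin 4 → F) = E j := by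
    intro m e j hj φ hφ g
    obtain ⟨g', hg'⟩ := hφ ⟨g, rfl⟩
    rw [← hg']
    exact emb_fix hF _ _ fun i => E_apply_ne (hj i)
  refine ⟨?_, ?_, rA, rB, rC⟩
  · refine range_eq_stab hq (Fin.castLEEmb (show 3 ≤ 4 by omega)) (j := 3) ?_ ?_ hL1
      (central_tori hq hd) (t := ![μ, μ, μ, 1]) ?_ ?_ (fix p01 3 (by decide) _ rA.le)
      (fix p12 3 (by decide) _ rB.le)
    · intro l hl
      fin_cases l
      · exact ⟨0, rfl⟩
      · exact ⟨1, rfl⟩
      · exact ⟨2, rfl⟩
      · exact absurd rfl hl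
    · exact fun i => Fin.ne_of_val_ne (by simp; omega)
    · rw [map_mul, map_inv, map_mul, hma, diag_inv_four hmb (t' := ![1, μ ^ 2, μ, 1]) (fun i => by
          fin_cases i
          exacts [one_mul 1, e1, e2, one_mul 1]), Matrix.diagonal_mul_diagonal]
      congr 1; funext i; fin_cases i
      exacts [mul_one μ, hμ4, one_mul μ, one_mul 1]
    · intro i hi
      fin_cases i
      all_goals first | exact absurd rfl hi | simpa using hμ1
  · refine range_eq_stab hq (Fin.succEmb 3) (j := 0) ?_ ?_ hL2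
      (central_tori hq hyd) (t := ![1, μ, μ, μ]) ?_ ?_ ?_ (fix p23 0 (by decide) _ rC.le)
    · intro l hl
      fin_cases l
      · exact absurd rfl hl
      · exact ⟨0, rfl⟩
      · exact ⟨1, rfl⟩
      · exact ⟨2, rfl⟩
    · exact fun i => Fin.succ_ne_zero i
    · rw [map_mul, map_inv, map_mul, hy, hmb, diag_inv_four hmc (t' := ![1, 1, μ ^ 2, μ]) (fun i => by
          fin_cases i
          exacts [one_mul 1, one_mul 1, e1, e2]), Matrix.diagonal_mul_diagonal]
      congr 1; funext i; fin_cases i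
      exacts [one_mul 1, mul_one μ, hμ4, one_mul μ]
    · intro i hi
      fin_cases i
      all_goals first | exact absurd rfl hi | simpa using hμ1
    · exact fix p12 0 (by decide) (L2.comp (ini hF 2 3 (by omega))) (hB.symm.trans rB).le

/-- A four-dimensional identification of two adjacent pairs. -/
theorem exists_triple (hq : q = 2) {G : Type*} [Group G] {π : ↥(K hF 4) →* G}
    {V V' A B C : Subgroup G} (P : PairHom hF V A B) (Q : PairHom hF V' B C)
    (hcomm : ∀ a ∈ A, ∀ c ∈ C, a * c = c * a) (hV : V ≤ π.range) (hV' : V' ≤ π.range) :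
    ∃ Ψ : ↥(K hF 4) →* G, Function.Injective Ψ ∧ Ψ.range = π.range ∧
      (Ψ.comp (ini hF 3 4 (by omega))).range = V ∧ (Ψ.comp (tl hF 3)).range = V' ∧
      (Ψ.comp (emb hF p01)).range = A ∧ (Ψ.comp (emb hF p12)).range = B ∧
      (Ψ.comp (emb hF p23)).range = C := by
  have hPi : Function.Injective P.g := injective_of_adjacent hq P Q hcomm
  have hQi : Function.Injective Q.g := by
    have h := injective_of_adjacent hq Q.rev P.rev (fun c hc a ha => (hcomm a ha c hc).symm)
    intro x y e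
    obtain ⟨x, rfl⟩ := Finite.injective_iff_surjective.1 (emb_injective hF rev3) x
    obtain ⟨y, rfl⟩ := Finite.injective_iff_surjective.1 (emb_injective hF rev3) y
    exact congrArg _ (h e)
  obtain ⟨w, hw, hw1, -⟩ := exists_omega hF hq
  obtain ⟨d, hd, hd0, -⟩ := exists_diag hF hw
  obtain ⟨t, h0, h1, ht2⟩ := exists_swap_two (hF := hF) hq
  have hd1 : mat hF d 0 0 ≠ 1 := by rw [hd0]; exact hw1
  have hdne : d ≠ 1 := fun h => hd1 (by rw [h, map_one]; simp)
  have hπ : Function.Injective π := by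
    obtain ⟨r, hr⟩ := hV (P.range_eq.le ⟨ini hF 2 3 (by omega) d, rfl⟩)
    refine injective_two hq ⟨r, fun h => hdne (emb_injective hF (Fin.castLEEmb (show 2 ≤ 3 by omega)) ?_)⟩
    rw [map_one]
    exact hPi ((hr.symm.trans h).trans (map_one P.g).symm)
  obtain ⟨L1, hL1⟩ := exists_lift_hom hπ P.g (P.range_eq.le.trans hV)
  obtain ⟨L2, hL2⟩ := exists_lift_hom hπ Q.g (Q.range_eq.le.trans hV')
  set a := L1 (ini hF 2 3 (by omega) d) with hadef
  set b := L1 (tl hF 2 d) with hbdef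
  set sa := L1 (ini hF 2 3 (by omega) t) with hsadef
  set sb := L1 (tl hF 2 t) with hsbdef
  have hd3 : d ^ 3 = 1 := diag_pow_three hq hd
  have hmd : mat hF d = Matrix.diagonal fun i => mat hF d i i := by
    ext i j; fin_cases i <;> fin_cases j <;> simp [hd.1, hd.2]
  have hL1i : Function.Injective L1 := fun x y e => hPi (by rw [← hL1, ← hL1, e])
  obtain ⟨k, μ, hμ, hμ1, hka, hkb⟩ := exists_frame_two hq (a := a) (b := b) (sa := sa) (sb := sb)
    (by rw [hadef, ← map_pow, ← map_pow, hd3, map_one, map_one])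
    (by rw [hbdef, ← map_pow, ← map_pow, hd3, map_one, map_one])
    ((diag_commute (mat_ini_diag hmd) (mat_tl_diag hmd)).map L1)
    (fun h => by
      have h' := congrArg (fun g => mat hF g 0 0) (hL1i h)
      simp only [mat_ini_diag hmd, mat_tl_diag hmd] at h'
      simp at h'
      exact hd1 h')
    (by
      rw [hsadef, hadef, ← map_inv, ← map_mul, ← map_mul, ← map_inv, ← map_mul, ← map_mul,
        antidiag_mul_diag hq hd h0 ht2])
    (by rw [hsadef, hadef, hbdef, ← map_mul, ← map_mul, ← map_mul, (swap_tori hd h0 h1).1])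
    (by rw [hsbdef, hadef, hbdef, ← map_mul, ← map_mul, ← map_mul, (swap_tori hd h0 h1).2])
    (by
      rw [hsbdef, hbdef, ← map_inv, ← map_mul, ← map_mul, ← map_inv, ← map_mul, ← map_mul,
        antidiag_mul_diag hq hd h0 ht2])
    (by rw [hsadef, ← map_mul, ← map_mul, ht2, map_one, map_one])
    (by rw [hsbdef, ← map_mul, ← map_mul, ht2, map_one, map_one])
  set Ψ := π.comp (MulAut.conj k).toMonoidHom with hΨ
  set M1 := (MulAut.conj k⁻¹).toMonoidHom.comp L1 with hM1
  set M2 := (MulAut.conj k⁻¹).toMonoidHom.comp L2 with hM2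
  have hΨM1 : ∀ x, Ψ (M1 x) = P.g x := fun x => by
    rw [← hL1]
    show π (k * (k⁻¹ * L1 x * k⁻¹⁻¹) * k⁻¹) = π (L1 x)
    group
  have hΨM2 : ∀ x, Ψ (M2 x) = Q.g x := fun x => by
    rw [← hL2]
    show π (k * (k⁻¹ * L2 x * k⁻¹⁻¹) * k⁻¹) = π (L2 x)
    group
  have hΨi : Function.Injective Ψ := hπ.comp (MulAut.conj k).injective
  have hBQ : (M1.comp (tl hF 2)).range = (M2.comp (ini hF 2 3 (by omega))).range := by
    apply Subgroup.map_injective hΨi
    rw [← MonoidHom.range_comp, ← MonoidHom.range_comp,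
      show Ψ.comp (M1.comp (tl hF 2)) = P.g.comp (tl hF 2) from MonoidHom.ext fun x => hΨM1 _,
      show Ψ.comp (M2.comp (ini hF 2 3 (by omega))) = Q.g.comp (ini hF 2 3 (by omega)) from
        MonoidHom.ext fun x => hΨM2 _]
    exact P.right_eq.trans Q.left_eq.symm
  have hkey : ∀ g, M1 g = k⁻¹ * L1 g * k := fun g => by
    show k⁻¹ * L1 g * k⁻¹⁻¹ = _
    rw [inv_inv]
  obtain ⟨r1, r2, rA, rB, rC⟩ := two_ranges hq hμ hμ1 (L1 := M1) (L2 := M2)
    (fun x y e => hPi (by rw [← hΨM1, ← hΨM1, e]))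
    (fun x y e => hQi (by rw [← hΨM2, ← hΨM2, e]))
    (fun x z => hΨi (by
      rw [map_mul, map_mul, hΨM1, hΨM2]
      exact hcomm _ (P.left_eq.le ⟨x, rfl⟩) _ (Q.right_eq.le ⟨z, rfl⟩)))
    hBQ hd hd1 h0 h1 ht2 (by rw [hkey]; exact hka) (by rw [hkey]; exact hkb)
  have tr : ∀ {m a : ℕ} (φ : ↥(K hF m) →* ↥(K hF 4)) (ψ : ↥(K hF a) →* ↥(K hF 4))
      (ρ : ↥(K hF m) →* G), φ.range = ψ.range → (∀ x, Ψ (φ x) = ρ x) →
      (Ψ.comp ψ).range = ρ.range := by
    intro m a φ ψ ρ h hx
    rw [MonoidHom.range_comp, ← h, ← MonoidHom.range_comp,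
      show Ψ.comp φ = ρ from MonoidHom.ext hx]
  refine ⟨Ψ, hΨi, ?_, (tr _ _ _ r1 hΨM1).trans P.range_eq, (tr _ _ _ r2 hΨM2).trans Q.range_eq,
    (tr _ _ _ rA fun x => hΨM1 _).trans P.left_eq, (tr _ _ _ rB fun x => hΨM1 _).trans P.right_eq,
    (tr _ _ _ rC fun x => hΨM2 _).trans Q.right_eq⟩
  rw [MonoidHom.range_comp, MonoidHom.range_eq_top.2 (MulAut.conj k).surjective,
    ← MonoidHom.range_eq_map]

end CfsgLib.Phan
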